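import Cfsg.Agent.C6Five.Model
import Mathlib.Data.Matrix.Block
import Mathlib.LinearAlgebra.Matrix.SchurComplement
import Mathlib.LinearAlgebra.Matrix.Notation

/-!
# The eigenspaces of the central involution

In a basis of eigenvectors of the central involution the chirp, the dilation and the Fourier matrix
are block diagonal, with blocks of size three and two and of determinant one.
-/

set_option autoImplicit false
set_option linter.unusedSectionVars false

namespace CfsgLib.C6Five

open Matrix Cfsg.Geo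

/-- The index set of the two eigenspaces. -/
abbrev Ix := Fin 3 ⊕ Fin 2

/-- The matrices adapted to the two eigenspaces. -/
abbrev MB (F : Type*) := Matrix Ix Ix F

variable {F : Type*} [Field F] (o : Root5 F)

variable (F) in
/-- The new basis. -/
def baseU : Matrix (Fin 5) Ix F := Matrix.of fun i => Sum.elim
  (!![1, 0, 0; 0, 1, 0; 0, 0, 1; 0, 0, 1; 0, 1, 0] i) (!![0, 0; 1, 0; 0, 1; 0, -1; -1, 0] i)

variable (F) in
/-- The coordinates in the new basis. -/
def baseV : Matrix Ix (Fin 5) F := Matrix.of <| Sum.elim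
  (fun i => !![1, 0, 0, 0, 0; 0, 2⁻¹, 0, 0, 2⁻¹; 0, 0, 2⁻¹, 2⁻¹, 0] i)
  (fun i => !![0, 2⁻¹, 0, 0, -2⁻¹; 0, 0, 2⁻¹, -2⁻¹, 0] i)

theorem baseV_mul_baseU (h2 : (2 : F) ≠ 0) : baseV F * baseU F = 1 := by
  have h : (2⁻¹ : F) + 2⁻¹ = 1 := by rw [← two_mul, mul_inv_cancel₀ h2]
  ext i j
  rcases i with i | i <;> rcases j with j | j <;> fin_cases i <;> fin_cases j <;>
    simp [baseU, baseV, Matrix.mul_apply, Fin.sum_univ_five, h]

theorem baseU_mul_baseV (h2 : (2 : F) ≠ 0) : baseU F * baseV F = 1 := by
  have h : (2⁻¹ : F) + 2⁻¹ = 1 := by rw [← two_mul, mul_inv_cancel₀ h2]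
  ext i j
  fin_cases i <;> fin_cases j <;>
    simp [baseU, baseV, Matrix.mul_apply, Fin.sum_univ_three, Fin.sum_univ_two, h]

/-- Change to the new basis. -/
def toB : GL (Fin 5) F ≃* GL Ix F where
  toFun g :=
    { val := baseV F * g.1 * baseU F
      inv := baseV F * (g⁻¹ : GL (Fin 5) F).1 * baseU F
      val_inv := by
        rw [show baseV F * g.1 * baseU F * (baseV F * (g⁻¹ : GL (Fin 5) F).1 * baseU F) =
          baseV F * g.1 * (baseU F * baseV F) * (g⁻¹ : GL (Fin 5) F).1 * baseU F by
            simp only [Matrix.mul_assoc]]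
        rw [baseU_mul_baseV o.two, Matrix.mul_one, Matrix.mul_assoc (baseV F), Units.mul_inv, Matrix.mul_one,
          baseV_mul_baseU o.two]
      inv_val := by
        rw [show baseV F * (g⁻¹ : GL (Fin 5) F).1 * baseU F * (baseV F * g.1 * baseU F) =
          baseV F * (g⁻¹ : GL (Fin 5) F).1 * (baseU F * baseV F) * g.1 * baseU F by
            simp only [Matrix.mul_assoc]]
        rw [baseU_mul_baseV o.two, Matrix.mul_one, Matrix.mul_assoc (baseV F), Units.inv_mul, Matrix.mul_one,
          baseV_mul_baseU o.two] }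
  invFun g :=
    { val := baseU F * g.1 * baseV F
      inv := baseU F * (g⁻¹ : GL Ix F).1 * baseV F
      val_inv := by
        rw [show baseU F * g.1 * baseV F * (baseU F * (g⁻¹ : GL Ix F).1 * baseV F) =
          baseU F * g.1 * (baseV F * baseU F) * (g⁻¹ : GL Ix F).1 * baseV F by
            simp only [Matrix.mul_assoc]]
        rw [baseV_mul_baseU o.two, Matrix.mul_one, Matrix.mul_assoc (baseU F), Units.mul_inv, Matrix.mul_one,
          baseU_mul_baseV o.two]
      inv_val := by
        rw [show baseU F * (g⁻¹ : GL Ix F).1 * baseV F * (baseU F * g.1 * baseV F) =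
          baseU F * (g⁻¹ : GL Ix F).1 * (baseV F * baseU F) * g.1 * baseV F by
            simp only [Matrix.mul_assoc]]
        rw [baseV_mul_baseU o.two, Matrix.mul_one, Matrix.mul_assoc (baseU F), Units.inv_mul, Matrix.mul_one,
          baseU_mul_baseV o.two] }
  left_inv g := by
    refine Units.ext ?_
    show baseU F * (baseV F * g.1 * baseU F) * baseV F = g.1
    rw [Matrix.mul_assoc (baseV F), ← Matrix.mul_assoc (baseU F), baseU_mul_baseV o.two, Matrix.one_mul,
      Matrix.mul_assoc, baseU_mul_baseV o.two, Matrix.mul_one]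
  right_inv g := by
    refine Units.ext ?_
    show baseV F * (baseU F * g.1 * baseV F) * baseU F = g.1
    rw [Matrix.mul_assoc (baseU F), ← Matrix.mul_assoc (baseV F), baseV_mul_baseU o.two, Matrix.one_mul,
      Matrix.mul_assoc, baseV_mul_baseU o.two, Matrix.mul_one]
  map_mul' g h := by
    refine Units.ext ?_
    show baseV F * (g.1 * h.1) * baseU F = baseV F * g.1 * baseU F * (baseV F * h.1 * baseU F)
    rw [show baseV F * g.1 * baseU F * (baseV F * h.1 * baseU F) =
      baseV F * g.1 * (baseU F * baseV F) * h.1 * baseU F by simp only [Matrix.mul_assoc],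
      baseU_mul_baseV o.two, Matrix.mul_one, Matrix.mul_assoc (baseV F) g.1]

theorem toB_val (g : GL (Fin 5) F) : (toB o g).1 = baseV F * g.1 * baseU F := rfl

theorem det_toB (g : GL (Fin 5) F) : (toB o g).1.det = g.1.det := by
  let e : Fin 5 ≃ Ix := (finSumFinEquiv (m := 3) (n := 2)).symm
  set A : M5 F := (baseV F).submatrix e id with hA
  set B : M5 F := (baseU F).submatrix id e with hB
  have hAB : A * B = 1 := by
    rw [hA, hB, ← Matrix.submatrix_mul _ _ _ _ _ Function.bijective_id, baseV_mul_baseU o.two,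
      Matrix.submatrix_one_equiv]
  have hM : (baseV F * g.1 * baseU F).submatrix e e = A * g.1 * B := by
    rw [hA, hB, Matrix.submatrix_mul (baseV F * g.1) _ e id e Function.bijective_id,
      Matrix.submatrix_mul (baseV F) _ e id id Function.bijective_id, Matrix.submatrix_id_id]
  rw [toB_val, ← Matrix.det_submatrix_equiv_self e, hM, det_mul_right_comm, hAB, Matrix.det_one, one_mul]
where
  det_mul_right_comm {A M B : M5 F} : (A * M * B).det = (A * B).det * M.det := by
    rw [Matrix.det_mul, Matrix.det_mul, Matrix.det_mul]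
    ring

/-- The chirp on the plus space. -/
def u3 : Matrix (Fin 3) (Fin 3) F := !![1, 0, 0; 0, o.e 1, 0; 0, 0, o.e 4]
/-- The chirp on the minus space. -/
def u2 : Matrix (Fin 2) (Fin 2) F := !![o.e 1, 0; 0, o.e 4]
variable (F) in
/-- The dilation on the plus space. -/
def h3 : Matrix (Fin 3) (Fin 3) F := !![-1, 0, 0; 0, 0, -1; 0, -1, 0]
variable (F) in
/-- The dilation on the minus space. -/
def h2 : Matrix (Fin 2) (Fin 2) F := !![0, 1; -1, 0]
/-- The first Gauss period. -/
def Root5.c : F := o.e 1 + o.e 4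
/-- The second Gauss period. -/
def Root5.d : F := o.e 2 + o.e 3
/-- The first odd period. -/
def Root5.s : F := o.e 1 - o.e 4
/-- The second odd period. -/
def Root5.t : F := o.e 2 - o.e 3
/-- The factor of the Fourier matrix. -/
def Root5.kappa : F := o.sgn * o.g⁻¹
/-- The Fourier matrix on the plus space. -/
def w3 : Matrix (Fin 3) (Fin 3) F := o.kappa • !![1, 2, 2; 1, o.c, o.d; 1, o.d, o.c]
/-- The Fourier matrix on the minus space. -/
def w2 : Matrix (Fin 2) (Fin 2) F := o.kappa • !![o.s, o.t; o.t, -o.s]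

theorem Root5.c_add_d : o.c + o.d = -1 := by
  simp [Root5.c, Root5.d, Root5.e]
  linear_combination o.sum

theorem Root5.c_mul_d : o.c * o.d = -1 := by
  have := o.sum
  have := o.pow_five
  simp [Root5.c, Root5.d, Root5.e]
  grind

theorem Root5.s_sq_add_t_sq : o.s ^ 2 + o.t ^ 2 = -5 := by
  have := o.sum
  have := o.pow_five
  simp [Root5.s, Root5.t, Root5.e]
  grind

theorem Root5.kappa_sq : o.kappa ^ 2 * 5 = 1 := by
  rw [Root5.kappa, mul_pow, inv_pow, o.sgn_sq, one_mul, o.g_sq, inv_mul_cancel₀ o.five]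

theorem Root5.kappa_ne : o.kappa ≠ 0 := mul_ne_zero o.sgn_ne (inv_ne_zero o.g_ne)

theorem Root5.s_ne : o.s ≠ 0 := sub_ne_zero.2 fun h => absurd (o.e_injective h) (by decide)
theorem Root5.t_ne : o.t ≠ 0 := sub_ne_zero.2 fun h => absurd (o.e_injective h) (by decide)

theorem toB_cent : (toB o (cent F)).1 = fromBlocks 1 0 0 (-1) := by
  have h : (2⁻¹ : F) + 2⁻¹ = 1 := by rw [← two_mul, mul_inv_cancel₀ o.two]
  rw [toB_val, show (cent F : M5 F) = mono (fun j => -j) fun _ => 1 from rfl]
  ext i j
  rcases i with i | i <;> rcases j with j | j <;> fin_cases i <;> fin_cases j <;>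
    simp [baseU, baseV, mono, Matrix.mul_apply, Fin.sum_univ_five] <;> first | exact h | linear_combination -h

theorem toB_chirp : (toB o (chirp o)).1 = fromBlocks (u3 o) 0 0 (u2 o) := by
  have h : (2 : F) * 2⁻¹ = 1 := mul_inv_cancel₀ o.two
  rw [toB_val, show (chirp o : M5 F) = mono (fun j => j) fun j => o.e (j * j) from rfl]
  ext i j
  rcases i with i | i <;> rcases j with j | j <;> fin_cases i <;> fin_cases j <;>
    simp [baseU, baseV, mono, u3, u2, Matrix.mul_apply, Fin.sum_univ_five, o.e_zero] <;>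
    grind

theorem toB_dil : (toB o (dil F)).1 = fromBlocks (h3 F) 0 0 (h2 F) := by
  have h : (2 : F) * 2⁻¹ = 1 := mul_inv_cancel₀ o.two
  rw [toB_val, show (dil F : M5 F) = mono (fun j => 2 * j) fun _ => -1 from rfl]
  ext i j
  rcases i with i | i <;> rcases j with j | j <;> fin_cases i <;> fin_cases j <;>
    simp [baseU, baseV, mono, h3, h2, Matrix.mul_apply, Fin.sum_univ_five] <;>
    grind

theorem toB_four : (toB o (four o)).1 = fromBlocks (w3 o) 0 0 (w2 o) := by
  have h : (2 : F) * 2⁻¹ = 1 := mul_inv_cancel₀ o.two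
  rw [toB_val, show (four o : M5 F) = o.kappa • fourMat o from rfl, Matrix.mul_smul, Matrix.smul_mul]
  ext i j
  rcases i with i | i <;> rcases j with j | j <;> fin_cases i <;> fin_cases j <;>
    simp [baseU, baseV, fourMat, w3, w2, Root5.c, Root5.d, Root5.s, Root5.t, Matrix.mul_apply,
      Fin.sum_univ_five, o.e_zero] <;>
    grind

theorem det_u2 : (u2 o).det = 1 := by
  rw [det_fin_two]
  simp [u2, ← o.e_add, o.e_zero]

theorem det_u3 : (u3 o).det = 1 := by
  rw [det_fin_three]
  simp [u3, ← o.e_add, o.e_zero]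

theorem det_h2 : (h2 F).det = 1 := by simp [h2, det_fin_two]

theorem det_h3 : (h3 F).det = 1 := by simp [h3, det_fin_three]

theorem det_w2 : (w2 o).det = 1 := by
  rw [w2, det_smul, det_fin_two, Fintype.card_fin]
  simp
  linear_combination (-o.kappa ^ 2) * o.s_sq_add_t_sq + o.kappa_sq

theorem det_w3 [Finite F] : (w3 o).det = 1 := by
  have h := det_toB o (four o)
  rw [det_four, toB_four, Matrix.det_fromBlocks_zero₂₁, det_w2, mul_one] at h
  exact h

end CfsgLib.C6Five
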