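import Mathlib.LinearAlgebra.Matrix.GeneralLinearGroup.Defs
import Mathlib.LinearAlgebra.Matrix.SpecialLinearGroup
import Mathlib.FieldTheory.Finite.Basic
import Mathlib.Algebra.CharP.CharAndCard
import Mathlib.LinearAlgebra.Matrix.ToLin
import Mathlib.Tactic.LinearCombination

/-!
# Two-dimensional groups over a prime field

Two unipotent elements with different fixed lines generate the special linear group, and a non-scalar
group of determinant one normalised by it contains a transvection.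
-/

set_option autoImplicit false
set_option linter.unusedSectionVars false
set_option linter.style.haveILetI false

namespace CfsgLib.C6Five

open Matrix

variable {F : Type*} [Field F]

/-- The matrices of dimension two. -/
abbrev M2 (F : Type*) := Matrix (Fin 2) (Fin 2) F

/-- An upper unitriangular element. -/
def upGL (a : F) : GL (Fin 2) F where
  val := !![1, a; 0, 1]
  inv := !![1, -a; 0, 1]
  val_inv := by ext i j; fin_cases i <;> fin_cases j <;> simp [Matrix.mul_apply, Matrix.vecMul, dotProduct, Fin.sum_univ_two]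
  inv_val := by ext i j; fin_cases i <;> fin_cases j <;> simp [Matrix.mul_apply, Matrix.vecMul, dotProduct, Fin.sum_univ_two]

/-- A lower unitriangular element. -/
def loGL (a : F) : GL (Fin 2) F where
  val := !![1, 0; a, 1]
  inv := !![1, 0; -a, 1]
  val_inv := by ext i j; fin_cases i <;> fin_cases j <;> simp [Matrix.mul_apply, Matrix.vecMul, dotProduct, Fin.sum_univ_two]
  inv_val := by ext i j; fin_cases i <;> fin_cases j <;> simp [Matrix.mul_apply, Matrix.vecMul, dotProduct, Fin.sum_univ_two]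

theorem upGL_pow (a : F) (n : ℕ) : (upGL a ^ n : GL (Fin 2) F).1 = !![1, (n : F) * a; 0, 1] := by
  induction n with
  | zero => ext i j; fin_cases i <;> fin_cases j <;> simp
  | succ n ih =>
    rw [pow_succ, Units.val_mul, ih]
    ext i j
    fin_cases i <;> fin_cases j <;> simp [upGL, Matrix.mul_apply, Matrix.vecMul, dotProduct, Fin.sum_univ_two] <;> ring

theorem loGL_pow (a : F) (n : ℕ) : (loGL a ^ n : GL (Fin 2) F).1 = !![1, 0; (n : F) * a, 1] := by
  induction n with
  | zero => ext i j; fin_cases i <;> fin_cases j <;> simp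
  | succ n ih =>
    rw [pow_succ, Units.val_mul, ih]
    ext i j
    fin_cases i <;> fin_cases j <;> simp [loGL, Matrix.mul_apply, Matrix.vecMul, dotProduct, Fin.sum_univ_two] <;> ring

section Prime

variable [Fintype F] {p : ℕ} [Fact p.Prime]

/-- Every element of a prime field is a natural number. -/
theorem exists_natCast_eq (hF : Fintype.card F = p) (a : F) : ∃ n : ℕ, (n : F) = a := by
  haveI : CharP F p := charP_of_card_eq_prime (R := F) hF
  have hinj : Function.Injective (ZMod.castHom dvd_rfl F : ZMod p →+* F) := RingHom.injective _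
  have hbij := (Fintype.bijective_iff_injective_and_card _).2 ⟨hinj, by rw [ZMod.card, hF]⟩
  obtain ⟨x, hx⟩ := hbij.2 a
  exact ⟨x.val, by rw [← hx, ← ZMod.natCast_zmod_val x, map_natCast]; simp⟩

variable {H : Subgroup (GL (Fin 2) F)}

theorem upGL_mem (hF : Fintype.card F = p) {a : F} (ha : a ≠ 0) (h : upGL a ∈ H) (t : F) : upGL t ∈ H := by
  obtain ⟨n, hn⟩ := exists_natCast_eq hF (t / a)
  convert H.pow_mem h n
  refine Units.ext ?_
  rw [upGL_pow, hn, div_mul_cancel₀ _ ha]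
  rfl

theorem loGL_mem (hF : Fintype.card F = p) {a : F} (ha : a ≠ 0) (h : loGL a ∈ H) (t : F) : loGL t ∈ H := by
  obtain ⟨n, hn⟩ := exists_natCast_eq hF (t / a)
  convert H.pow_mem h n
  refine Units.ext ?_
  rw [loGL_pow, hn, div_mul_cancel₀ _ ha]
  rfl

/-- The two kinds of unitriangular elements generate the special linear group. -/
theorem sl_mem_of_upLo (hF : Fintype.card F = p) {a b : F} (ha : a ≠ 0) (hb : b ≠ 0) (hu : upGL a ∈ H)
    (hl : loGL b ∈ H) {g : GL (Fin 2) F} (hg : g.1.det = 1) : g ∈ H := by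
  have key : ∀ g : GL (Fin 2) F, g.1.det = 1 → g.1 1 0 ≠ 0 → g ∈ H := by
    intro g hg hc
    rw [det_fin_two] at hg
    have e : g = upGL ((g.1 0 0 - 1) / g.1 1 0) * loGL (g.1 1 0) * upGL ((g.1 1 1 - 1) / g.1 1 0) := by
      refine Units.ext ?_
      ext i j
      fin_cases i <;> fin_cases j <;>
        simp [upGL, loGL, Matrix.mul_apply, Matrix.vecMul, dotProduct, Fin.sum_univ_two] <;> field_simp
      all_goals first | ring1 | linear_combination hg | linear_combination -hg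
    rw [e]
    exact H.mul_mem (H.mul_mem (upGL_mem hF ha hu _) (loGL_mem hF hb hl _)) (upGL_mem hF ha hu _)
  by_cases hc : g.1 1 0 = 0
  · have h1 : (loGL (1 : F) * g).1.det = 1 := by
      rw [Units.val_mul, det_mul, hg]
      simp [loGL, det_fin_two]
    have h2 : (loGL (1 : F) * g).1 1 0 ≠ 0 := by
      rw [det_fin_two, hc] at hg
      simp [loGL, Matrix.mul_apply, Matrix.vecMul, dotProduct, Fin.sum_univ_two, hc]
      intro h0
      simp [h0] at hg
    have := H.mul_mem (H.inv_mem (loGL_mem hF hb hl 1)) (key _ h1 h2)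
    rwa [inv_mul_cancel_left] at this
  · exact key g hg hc

/-- Two unipotent elements with independent fixed vectors generate the special linear group. -/
theorem sl_mem_of_two (hF : Fintype.card F = p) {t₁ t₂ : GL (Fin 2) F} (h₁ : t₁ ∈ H) (h₂ : t₂ ∈ H)
    {N₁ N₂ : M2 F} (e₁ : t₁.1 = 1 + N₁) (e₂ : t₂.1 = 1 + N₂) (n₁ : N₁ * N₁ = 0) (n₂ : N₂ * N₂ = 0)
    {v₁ v₂ : Fin 2 → F} (hv₁ : N₁ *ᵥ v₁ = 0) (hv₂ : N₂ *ᵥ v₂ = 0)
    (hi : v₁ 0 * v₂ 1 - v₁ 1 * v₂ 0 ≠ 0) (z₁ : N₁ ≠ 0) (z₂ : N₂ ≠ 0) {g : GL (Fin 2) F}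
    (hg : g.1.det = 1) : g ∈ H := by
  set Pm : M2 F := !![v₁ 0, v₂ 0; v₁ 1, v₂ 1] with hPm
  have hdet : Pm.det ≠ 0 := by
    rw [hPm, det_fin_two]
    simpa [mul_comm (v₂ 0) (v₁ 1)] using hi
  set P := GeneralLinearGroup.mkOfDetNeZero Pm hdet with hP
  have hPv : P.1 = Pm := rfl
  set H' := H.comap (MulAut.conj P).toMonoidHom with hH'
  have hmem : ∀ x, P⁻¹ * x * P ∈ H' ↔ x ∈ H := fun x => by
    rw [hH', Subgroup.mem_comap]
    show P * (P⁻¹ * x * P) * P⁻¹ ∈ H ↔ _
    rw [show P * (P⁻¹ * x * P) * P⁻¹ = x by group]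
  have hcol : ∀ (N : M2 F), P⁻¹.1 * (1 + N) * P.1 = 1 + P⁻¹.1 * N * P.1 := fun N => by
    rw [mul_add, add_mul, mul_one, Units.inv_mul]
  have hsq : ∀ N : M2 F, N * N = 0 → (P⁻¹.1 * N * P.1) * (P⁻¹.1 * N * P.1) = 0 := fun N hN => by
    rw [show (P⁻¹.1 * N * P.1) * (P⁻¹.1 * N * P.1) = P⁻¹.1 * (N * N) * P.1 by
      rw [show (P⁻¹.1 * N * P.1) * (P⁻¹.1 * N * P.1) = P⁻¹.1 * N * (P.1 * P⁻¹.1) * N * P.1 by
        simp only [mul_assoc]]
      rw [Units.mul_inv, mul_one]; simp only [mul_assoc], hN, mul_zero, zero_mul]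
  have hcolzero : ∀ (N : M2 F) (k : Fin 2), N *ᵥ (fun i => Pm i k) = 0 →
      ∀ i, (P⁻¹.1 * N * P.1) i k = 0 := fun N k h i => by
    rw [mul_assoc, hPv, Matrix.mul_apply]
    refine Finset.sum_eq_zero fun j _ => ?_
    rw [show (N * Pm) j k = (N *ᵥ fun i => Pm i k) j from rfl, h, Pi.zero_apply, mul_zero]
  have hne : ∀ N : M2 F, N ≠ 0 → P⁻¹.1 * N * P.1 ≠ 0 := fun N hN h => hN (by
    have := congrArg (fun X => P.1 * X * P⁻¹.1) h
    simpa [mul_assoc] using this)
  have c₁ : ∀ i, (P⁻¹.1 * N₁ * P.1) i 0 = 0 := hcolzero N₁ 0 (by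
    convert hv₁; rename_i i; fin_cases i <;> simp [hPm])
  have c₂ : ∀ i, (P⁻¹.1 * N₂ * P.1) i 1 = 0 := hcolzero N₂ 1 (by
    convert hv₂; rename_i i; fin_cases i <;> simp [hPm])
  obtain ⟨K₁, hK₁⟩ : ∃ K, P⁻¹.1 * N₁ * P.1 = K := ⟨_, rfl⟩
  obtain ⟨K₂, hK₂⟩ : ∃ K, P⁻¹.1 * N₂ * P.1 = K := ⟨_, rfl⟩
  rw [hK₁] at c₁
  rw [hK₂] at c₂
  have d₁ : K₁ 1 1 = 0 := mul_self_eq_zero.1 (by
    have := congrFun (congrFun (hK₁ ▸ hsq N₁ n₁) 1) 1
    simpa [Matrix.mul_apply, Matrix.vecMul, dotProduct, Fin.sum_univ_two, c₁] using this)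
  have d₂ : K₂ 0 0 = 0 := mul_self_eq_zero.1 (by
    have := congrFun (congrFun (hK₂ ▸ hsq N₂ n₂) 0) 0
    simpa [Matrix.mul_apply, Matrix.vecMul, dotProduct, Fin.sum_univ_two, c₂] using this)
  have u₁ : upGL (K₁ 0 1) ∈ H' := by
    convert (hmem t₁).2 h₁
    refine Units.ext ?_
    rw [Units.val_mul, Units.val_mul, e₁, hcol, hK₁]
    ext i j
    fin_cases i <;> fin_cases j <;> simp [upGL, c₁, d₁]
  have u₂ : loGL (K₂ 1 0) ∈ H' := by
    convert (hmem t₂).2 h₂
    refine Units.ext ?_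
    rw [Units.val_mul, Units.val_mul, e₂, hcol, hK₂]
    ext i j
    fin_cases i <;> fin_cases j <;> simp [loGL, c₂, d₂]
  have a₁ : K₁ 0 1 ≠ 0 := fun h => hne N₁ z₁ (by
    rw [hK₁]; ext i j; fin_cases i <;> fin_cases j <;> simp [h, c₁, d₁])
  have a₂ : K₂ 1 0 ≠ 0 := fun h => hne N₂ z₂ (by
    rw [hK₂]; ext i j; fin_cases i <;> fin_cases j <;> simp [h, c₂, d₂])
  have hg' : (P⁻¹ * g * P).1.det = 1 := by
    rw [Units.val_mul, Units.val_mul, det_units_conj', hg]
  exact (hmem g).1 (sl_mem_of_upLo hF a₁ a₂ u₁ u₂ hg')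

/-- A non-scalar group of determinant one normalised by the special linear group contains a
transvection. -/
theorem exists_upGL_mem (hF : Fintype.card F = p) (hp : 5 < p) (hdet : ∀ x ∈ H, x.1.det = 1)
    (hn : ∀ g : GL (Fin 2) F, g.1.det = 1 → ∀ x ∈ H, g * x * g⁻¹ ∈ H)
    (hns : ∃ x ∈ H, ¬ ∃ c : F, x.1 = c • 1) : ∃ a : F, a ≠ 0 ∧ upGL a ∈ H := by
  haveI : CharP F p := charP_of_card_eq_prime (R := F) hF
  have hcast : ∀ n : ℕ, 0 < n → n < p → (n : F) ≠ 0 := fun n h0 h h' => by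
    rw [CharP.cast_eq_zero_iff F p] at h'
    exact absurd (Nat.le_of_dvd h0 h') (by omega)
  have h2 : (2 : F) ≠ 0 := by exact_mod_cast hcast 2 two_pos (by omega)
  have h3 : (3 : F) ≠ 0 := by exact_mod_cast hcast 3 three_pos (by omega)
  have h5 : (5 : F) ≠ 0 := by exact_mod_cast hcast 5 (by norm_num) hp
  -- an element of the group with first column (0, 1)
  obtain ⟨x, hx, hxc⟩ : ∃ x ∈ H, x.1 1 0 ≠ 0 := by
    obtain ⟨x, hx, hxs⟩ := hns
    by_contra hall
    push Not at hall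
    have l0 := hall x hx
    have hv : ∀ t : F, (loGL t * x * (loGL t)⁻¹).1 1 0 = 0 := fun t =>
      hall _ (hn _ (by simp [loGL, det_fin_two]) x hx)
    have key : ∀ t : F, t * x.1 0 0 - t * x.1 1 1 - t * t * x.1 0 1 = 0 := fun t => by
      have := hv t
      simp [loGL, Units.val_mul, Matrix.mul_apply, Matrix.vecMul, dotProduct, Fin.sum_univ_two, l0] at this
      linear_combination this
    have k1 := key 1
    have k2 := key (-1)
    have hb : x.1 0 1 = 0 := mul_left_cancel₀ h2 (by linear_combination -k1 - k2)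
    refine hxs ⟨x.1 0 0, ?_⟩
    have ha : x.1 1 1 = x.1 0 0 := by linear_combination -k1 - hb
    ext i j
    fin_cases i <;> fin_cases j <;> simp [l0, hb, ha]
  set c := x.1 1 0 with hc
  set T := upGL (-(x.1 0 0) / c)
  set y := T * x * T⁻¹ with hydef
  have hy : y ∈ H := hn T (by simp [T, upGL, det_fin_two]) x hx
  have y00 : y.1 0 0 = 0 := by
    simp [hydef, T, upGL, Units.val_mul, Matrix.mul_apply, Matrix.vecMul, dotProduct, Fin.sum_univ_two, ← hc]
    field_simp
    ring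
  have ydet := hdet y hy
  rw [det_fin_two, y00, zero_mul, zero_sub] at ydet
  have y01 : y.1 0 1 ≠ 0 := fun h => by simp [h] at ydet
  -- the commutator with a diagonal element is triangular
  set D := GeneralLinearGroup.mkOfDetNeZero (!![2, 0; 0, 2⁻¹] : M2 F) (by simp [det_fin_two, h2]) with hD
  have hDdet : D.1.det = 1 := by
    show (!![2, 0; 0, 2⁻¹] : M2 F).det = 1
    simp [det_fin_two, h2]
  set w := y * (D * y⁻¹ * D⁻¹) with hwdef
  have hw : w ∈ H := H.mul_mem hy (hn D hDdet _ (H.inv_mem hy))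
  have hDi : (D⁻¹).1 = !![2⁻¹, 0; 0, 2] := Units.inv_eq_of_mul_eq_one_right (by
    show (!![2, 0; 0, 2⁻¹] : M2 F) * !![2⁻¹, 0; 0, 2] = 1
    ext i j; fin_cases i <;> fin_cases j <;> simp [Matrix.mul_apply, Matrix.vecMul, dotProduct, Fin.sum_univ_two, h2])
  have hyi : (y⁻¹).1 = !![y.1 1 1, -y.1 0 1; -y.1 1 0, 0] := Units.inv_eq_of_mul_eq_one_right (by
    ext i j
    fin_cases i <;> fin_cases j <;> simp [Matrix.mul_apply, Matrix.vecMul, dotProduct, Fin.sum_univ_two, y00] <;>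
      grind)
  have hD' : D.1 = !![2, 0; 0, 2⁻¹] := rfl
  have w01 : w.1 0 1 = 0 := by
    simp [hwdef, Units.val_mul, hD', hDi, hyi, Matrix.mul_apply, Matrix.vecMul, dotProduct, Fin.sum_univ_two, y00]
  have w00 : w.1 0 0 * 4 = 1 := by
    simp [hwdef, Units.val_mul, hD', hDi, hyi, Matrix.mul_apply, Matrix.vecMul, dotProduct, Fin.sum_univ_two, y00]
    field_simp
    linear_combination 4 * ydet
  have wdet := hdet w hw
  rw [det_fin_two, w01, zero_mul, sub_zero] at wdet
  have w11 : w.1 1 1 = 4 := by linear_combination 4 * wdet - w.1 1 1 * w00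
  -- commutator of the triangular element with a transvection
  refine ⟨-(15 : F) / 16, div_ne_zero (neg_ne_zero.2 ?_) ?_, ?_⟩
  · rw [show (15 : F) = 3 * 5 by norm_num]; exact mul_ne_zero h3 h5
  · rw [show (16 : F) = 2 * 2 * 2 * 2 by norm_num]
    exact mul_ne_zero (mul_ne_zero (mul_ne_zero h2 h2) h2) h2
  set L := loGL (1 : F) with hL
  set v := w * (L * w⁻¹ * L⁻¹) with hvdef
  have hv : v ∈ H := H.mul_mem hw (hn L (by simp [L, loGL, det_fin_two]) _ (H.inv_mem hw))
  have hwi : (w⁻¹).1 = !![w.1 1 1, 0; -w.1 1 0, w.1 0 0] := Units.inv_eq_of_mul_eq_one_right (by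
    ext i j
    fin_cases i <;> fin_cases j <;> simp [Matrix.mul_apply, Matrix.vecMul, dotProduct, Fin.sum_univ_two, w01] <;>
      grind)
  have hv' : v = loGL (w.1 1 1 ^ 2 - 1) := by
    refine Units.ext ?_
    ext i j
    fin_cases i <;> fin_cases j <;>
      simp [hvdef, L, loGL, Units.val_mul, hwi, Matrix.mul_apply, Matrix.vecMul, dotProduct, Fin.sum_univ_two, w01] <;>
      first
        | linear_combination wdet
        | linear_combination (w.1 1 0 - 1) * wdet
        | linear_combination (-1 : F) * wdet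
        | grind
  -- turn the lower element into an upper one
  set J := GeneralLinearGroup.mkOfDetNeZero (!![0, 1; -1, 0] : M2 F) (by simp [det_fin_two]) with hJ
  have hJdet : J.1.det = 1 := by
    show (!![0, 1; -1, 0] : M2 F).det = 1
    simp [det_fin_two]
  have h16 : (16 : F) * (w.1 1 1 ^ 2 - 1) = 16 * 15 := by rw [w11]; ring
  have hup : J * loGL (15 : F) * J⁻¹ = upGL (-15 : F) := by
    rw [mul_inv_eq_iff_eq_mul]
    refine Units.ext ?_
    rw [Units.val_mul, Units.val_mul, show J.1 = !![0, 1; -1, 0] from rfl]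
    ext i j
    fin_cases i <;> fin_cases j <;> simp [loGL, upGL, Matrix.mul_apply, Matrix.vecMul, dotProduct, Fin.sum_univ_two]
  have h15 : upGL (-15 : F) ∈ H := by
    rw [← hup]
    refine hn J hJdet _ ?_
    rw [show (15 : F) = w.1 1 1 ^ 2 - 1 by rw [w11]; norm_num, ← hv']
    exact hv
  refine upGL_mem hF ?_ h15 _
  rw [neg_ne_zero, show (15 : F) = 3 * 5 by norm_num]
  exact mul_ne_zero h3 h5

end Prime

end CfsgLib.C6Five
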