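import Cfsg.Agent.C6Five.Three
import Cfsg.Agent.C6Five.Two

/-!
# The block-diagonal part of an overgroup
-/

set_option autoImplicit false
set_option linter.unusedSectionVars false
set_option linter.style.haveILetI false

namespace CfsgLib.C6Five

open Matrix

variable {F : Type*} [Field F] [Finite F] (o : Root5 F)

/-- An overgroup of the normaliser of the Heisenberg group, in the adapted basis. -/
structure Setup (X : Subgroup (GL Ix F)) : Prop where
  det : ∀ x ∈ X, x.1.det = 1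
  z : toB o (cent F) ∈ X
  u : toB o (chirp o) ∈ X
  w : toB o (four o) ∈ X
  h : toB o (dil F) ∈ X

/-- A block-diagonal element of the group. -/
def Blk (X : Subgroup (GL Ix F)) (A : M3 F) (B : M2 F) : Prop :=
  ∃ x ∈ X, x.1 = fromBlocks A 0 0 B

variable {X : Subgroup (GL Ix F)}

theorem Blk.one : Blk X (1 : M3 F) (1 : M2 F) := ⟨1, X.one_mem, by rw [Units.val_one, fromBlocks_one]⟩

theorem Blk.mul {A A' : M3 F} {B B' : M2 F} (h : Blk X A B) (h' : Blk X A' B') :
    Blk X (A * A') (B * B') := by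
  obtain ⟨x, hx, e⟩ := h
  obtain ⟨y, hy, e'⟩ := h'
  exact ⟨x * y, X.mul_mem hx hy, by rw [Units.val_mul, e, e', fromBlocks_multiply]; simp⟩

theorem Blk.pow {A : M3 F} {B : M2 F} (h : Blk X A B) (n : ℕ) : Blk X (A ^ n) (B ^ n) := by
  induction n with
  | zero => simpa using Blk.one
  | succ n ih => simpa [pow_succ] using ih.mul h

theorem Blk.inv {A : M3 F} {B : M2 F} (h : Blk X A B) :
    ∃ A' B', Blk X A' B' ∧ A * A' = 1 ∧ A' * A = 1 ∧ B * B' = 1 ∧ B' * B = 1 := by
  obtain ⟨x, hx, e⟩ := h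
  obtain ⟨n, hn⟩ : ∃ n, orderOf x = n + 1 := ⟨orderOf x - 1, by
    have := orderOf_pos x
    omega⟩
  have hpow : ∀ k : ℕ, (x ^ k).1 = fromBlocks (A ^ k) 0 0 (B ^ k) := by
    intro k
    induction k with
    | zero => simp
    | succ k ih => rw [pow_succ, Units.val_mul, ih, e, fromBlocks_multiply]; simp [pow_succ]
  have h1 := hpow (n + 1)
  rw [← hn, pow_orderOf_eq_one, Units.val_one, hn, ← fromBlocks_one, fromBlocks_inj] at h1
  exact ⟨A ^ n, B ^ n, ⟨x ^ n, X.pow_mem hx n, hpow n⟩, by rw [← pow_succ']; exact h1.1.symm,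
    by rw [← pow_succ]; exact h1.1.symm, by rw [← pow_succ']; exact h1.2.2.2.symm,
    by rw [← pow_succ]; exact h1.2.2.2.symm⟩

namespace Setup

variable (S : Setup o X)
include S

theorem blk_z : Blk X (1 : M3 F) (-1 : M2 F) := ⟨_, S.z, toB_cent o⟩
theorem blk_u : Blk X (u3 o) (u2 o) := ⟨_, S.u, toB_chirp o⟩
theorem blk_w : Blk X (w3 o) (w2 o) := ⟨_, S.w, toB_four o⟩
theorem blk_h : Blk X (h3 F) (h2 F) := ⟨_, S.h, toB_dil o⟩

theorem blk_det {A : M3 F} {B : M2 F} (h : Blk X A B) : A.det * B.det = 1 := by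
  obtain ⟨x, hx, e⟩ := h
  rw [← det_fromBlocks_zero₂₁ A 0 B, ← e]
  exact S.det x hx

theorem det_ne {A : M3 F} {B : M2 F} (h : Blk X A B) : A.det ≠ 0 ∧ B.det ≠ 0 := by
  have h1 : A.det * B.det ≠ 0 := by
    rw [S.blk_det o h]
    exact one_ne_zero
  exact mul_ne_zero_iff.1 h1

theorem neg {A : M3 F} {B : M2 F} (h : Blk X A B) : Blk X A (-B) := by
  simpa using h.mul (S.blk_z o)

end Setup

/-- The elements trivial on the minus space. -/
def plusK (X : Subgroup (GL Ix F)) : Subgroup (GL (Fin 3) F) where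
  carrier := {a | Blk X a.1 1}
  one_mem' := by simpa using Blk.one
  mul_mem' := fun ha hb => by simpa using Blk.mul ha hb
  inv_mem' := fun {a} ha => by
    obtain ⟨A', B', h, hA, -, hB, -⟩ := Blk.inv ha
    rw [one_mul] at hB
    rw [Set.mem_setOf_eq, Units.inv_eq_of_mul_eq_one_right hA, ← hB]
    exact h

theorem mem_plusK {a : GL (Fin 3) F} : a ∈ plusK X ↔ Blk X a.1 1 := Iff.rfl

/-- The elements trivial on the plus space. -/
def botS (X : Subgroup (GL Ix F)) : Subgroup (GL (Fin 2) F) where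
  carrier := {b | Blk X 1 b.1}
  one_mem' := by simpa using Blk.one
  mul_mem' := fun ha hb => by simpa using Blk.mul ha hb
  inv_mem' := fun {a} ha => by
    obtain ⟨A', B', h, hA, -, hB, -⟩ := Blk.inv ha
    rw [one_mul] at hA
    rw [Set.mem_setOf_eq, Units.inv_eq_of_mul_eq_one_right hB, ← hA]
    exact h

theorem mem_botS {b : GL (Fin 2) F} : b ∈ botS X ↔ Blk X 1 b.1 := Iff.rfl

/-- The image on the minus space, up to scalars. -/
def proj2 (X : Subgroup (GL Ix F)) : Subgroup (GL (Fin 2) F) where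
  carrier := {b | ∃ (A : M3 F) (B : M2 F) (c : F), Blk X A B ∧ b.1 = c • B}
  one_mem' := ⟨1, 1, 1, Blk.one, by simp⟩
  mul_mem' := by
    rintro a b ⟨A, B, c, h, e⟩ ⟨A', B', c', h', e'⟩
    exact ⟨A * A', B * B', c * c', h.mul h',
      by rw [Units.val_mul, e, e', smul_mul_assoc, mul_smul_comm, smul_smul]⟩
  inv_mem' := by
    rintro a ⟨A, B, c, h, e⟩
    obtain ⟨A', B', h', -, -, hB, -⟩ := h.inv
    refine ⟨A', B', c⁻¹, h', Units.inv_eq_of_mul_eq_one_right ?_⟩
    have hc : c ≠ 0 := fun h0 => a.ne_zero (by rw [e, h0, zero_smul])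
    rw [e, smul_mul_assoc, mul_smul_comm, smul_smul, mul_inv_cancel₀ hc, hB, one_smul]

theorem mem_proj2 {A : M3 F} {B : M2 F} (h : Blk X A B) {b : GL (Fin 2) F} {c : F} (e : b.1 = c • B) :
    b ∈ proj2 X := ⟨A, B, c, h, e⟩

/-- The chirp on the minus space, as an invertible matrix. -/
noncomputable def u2GL : GL (Fin 2) F :=
  GeneralLinearGroup.mkOfDetNeZero (u2 o) (by rw [det_u2]; exact one_ne_zero)

variable (F) in
/-- The dilation on the minus space, as an invertible matrix. -/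
noncomputable def h2GL : GL (Fin 2) F :=
  GeneralLinearGroup.mkOfDetNeZero (h2 F) (by rw [det_h2]; exact one_ne_zero)

/-- The Fourier matrix on the minus space, as an invertible matrix. -/
noncomputable def w2GL : GL (Fin 2) F :=
  GeneralLinearGroup.mkOfDetNeZero (w2 o) (by rw [det_w2]; exact one_ne_zero)

theorem u2GL_val : (u2GL o).1 = u2 o := rfl
theorem h2GL_val : (h2GL F).1 = h2 F := rfl
theorem w2GL_val : (w2GL o).1 = w2 o := rfl

namespace Setup

variable (S : Setup o X)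
include S

theorem u2_mem : u2GL o ∈ proj2 X := mem_proj2 (c := 1) (S.blk_u o) (by rw [one_smul]; rfl)
theorem h2_mem : h2GL F ∈ proj2 X := mem_proj2 (c := 1) (S.blk_h o) (by rw [one_smul]; rfl)
theorem w2_mem : w2GL o ∈ proj2 X := mem_proj2 (c := 1) (S.blk_w o) (by rw [one_smul]; rfl)

/-- Conjugation of the kernel on the plus space. -/
theorem plusK_conj {A : M3 F} {B : M2 F} (h : Blk X A B) {g : GL (Fin 3) F} (hg : g.1 = A) :
    ∀ a ∈ plusK X, g * a * g⁻¹ ∈ plusK X := by
  intro a ha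
  obtain ⟨A', B', h', hA, -, hB, -⟩ := h.inv
  rw [mem_plusK, Units.val_mul, Units.val_mul, hg, show (g⁻¹).1 = A' from
    Units.inv_eq_of_mul_eq_one_right (by rw [hg]; exact hA)]
  simpa [hB] using (h.mul ha).mul h'

/-- Conjugation of the kernel on the minus space. -/
theorem botS_conj {g : GL (Fin 2) F} (hg : g ∈ proj2 X) : ∀ b ∈ botS X, g * b * g⁻¹ ∈ botS X := by
  intro b hb
  obtain ⟨A, B, c, h, e⟩ := hg
  obtain ⟨A', B', h', hA, -, hB, -⟩ := h.inv
  have hc : c ≠ 0 := fun h0 => g.ne_zero (by rw [e, h0, zero_smul])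
  rw [mem_botS, Units.val_mul, Units.val_mul, e, show (g⁻¹).1 = c⁻¹ • B' from
    Units.inv_eq_of_mul_eq_one_right (by
      rw [e, smul_mul_assoc, mul_smul_comm, smul_smul, mul_inv_cancel₀ hc, hB, one_smul]),
    smul_mul_assoc, smul_mul_assoc, mul_smul_comm, smul_smul, mul_inv_cancel₀ hc, one_smul]
  simpa [hA] using (h.mul hb).mul h'

theorem plusK_norm : Norm3 o (plusK X) :=
  ⟨S.plusK_conj o (S.blk_u o) rfl, S.plusK_conj o (S.blk_w o) rfl, S.plusK_conj o (S.blk_h o) rfl⟩

end Setup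

end CfsgLib.C6Five
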