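import Cfsg.Agent.C6Five.PCase
import Cfsg.Agent.DicksonPSL2.CoprimeCase
import Cfsg.Agent.DicksonPSL2.ElementOrders
import Mathlib.FieldTheory.Finite.GaloisField
import Mathlib.GroupTheory.SpecificGroups.Alternating.Simple

/-!
# A centraliser without elements of order `p` on the minus space acts as `A₅` there

The image on the minus space, up to scalars, lies in `PSL₂(p²)`; Dickson's list leaves `A₅`.
-/

set_option autoImplicit false
set_option linter.unusedSectionVars false
set_option linter.style.haveILetI false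

namespace CfsgLib.C6Five

open Matrix CfsgLib.DicksonPSL2 CfsgLib.SL2Trace
open scoped MatrixGroups commutatorElement

/-- A projective representation of `GL₂` over a prime field inside some `PSL₂`. -/
theorem exists_proj_hom {F : Type*} [Field F] [Fintype F] {p : ℕ} [Fact p.Prime]
    (hF : Fintype.card F = p) (hp : p ≠ 2) :
    ∃ (K : Type) (_ : Field K) (_ : Fintype K) (_ : CharP K p) (φ : GL (Fin 2) F →* PSL(2, K)),
      ∀ g, φ g = 1 ↔ IsSc g := by
  haveI : CharP F p := charP_of_card_eq_prime (R := F) hF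
  have hbij : Function.Bijective (ZMod.castHom dvd_rfl F : ZMod p →+* F) :=
    (Fintype.bijective_iff_injective_and_card _).2 ⟨RingHom.injective _, by rw [ZMod.card, hF]⟩
  letI : Fintype (GaloisField p 2) := Fintype.ofFinite _
  let ι : F →+* GaloisField p 2 :=
    (algebraMap (ZMod p) (GaloisField p 2)).comp (RingEquiv.ofBijective _ hbij).symm.toRingHom
  have hsq : ∀ a : F, ∃ r : GaloisField p 2, r * r = ι a := by
    intro a
    rcases eq_or_ne a 0 with rfl | ha
    · exact ⟨0, by simp⟩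
    have hι : ι a ≠ 0 := (map_ne_zero ι).2 ha
    obtain ⟨m, hm⟩ := (Fact.out : p.Prime).odd_of_ne_two hp
    have h1 : a ^ (2 * m) = 1 := by
      have := FiniteField.pow_card_sub_one_eq_one a ha
      rwa [hF, hm, Nat.add_sub_cancel] at this
    obtain ⟨r, hr⟩ : IsSquare (ι a) := by
      rw [FiniteField.isSquare_iff (by rw [ringChar.eq _ p]; exact hp) hι, ← Nat.card_eq_fintype_card,
        GaloisField.card p 2 two_ne_zero, show p ^ 2 / 2 = 2 * m * (m + 1) by
          rw [hm, show (2 * m + 1) ^ 2 = 2 * (2 * m * (m + 1)) + 1 by ring]; omega,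
        ← map_pow, pow_mul, h1, one_pow, map_one]
    exact ⟨r, hr.symm⟩
  choose r hr using hsq
  have hdet : ∀ g : GL (Fin 2) F, g.1.det ≠ 0 := fun g =>
    ((Matrix.isUnit_iff_isUnit_det _).1 g.isUnit).ne_zero
  have hr0 : ∀ g : GL (Fin 2) F, r g.1.det ≠ 0 := fun g h => by
    have := hr g.1.det
    rw [h, zero_mul, eq_comm, map_eq_zero] at this
    exact hdet g this
  have hdm : ∀ M : M2 F, (M.map ι).det = ι M.det := fun M => (RingHom.map_det ι M).symm
  have hone : (1 : M2 F).map ι = 1 := Matrix.map_one _ (map_zero _) (map_one _)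
  let lift : GL (Fin 2) F → SL(2, GaloisField p 2) := fun g =>
    ⟨(r g.1.det)⁻¹ • g.1.map ι, by
      rw [det_smul, hdm, Fintype.card_fin, ← hr, pow_two, mul_mul_mul_comm, inv_mul_cancel₀ (hr0 g),
        one_mul]⟩
  have hprop : ∀ {A B : SL(2, GaloisField p 2)} {c : GaloisField p 2}, A.1 = c • B.1 →
      proj A = proj B := by
    intro A B c h
    have h' := congrArg Matrix.det h
    rw [det_smul, A.2, B.2, Fintype.card_fin, mul_one] at h'
    rcases sq_eq_one_iff.1 h'.symm with rfl | rfl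
    · exact congrArg proj (Subtype.ext (by rw [h, one_smul]))
    · rw [show A = -B from Subtype.ext (by rw [h, neg_one_smul]; simp), proj_neg]
  let φ : GL (Fin 2) F →* PSL(2, GaloisField p 2) :=
    { toFun := fun g => proj (lift g)
      map_one' := by
        show proj (lift 1) = proj 1
        refine hprop (c := (r (1 : M2 F).det)⁻¹) ?_
        show _ • (((1 : GL (Fin 2) F) : M2 F).map ι) = _ • (1 : Matrix (Fin 2) (Fin 2) (GaloisField p 2))
        rw [Units.val_one, hone]
      map_mul' := fun g h => by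
        rw [← DicksonPSL2.proj_mul]
        refine hprop (c := (r (g * h).1.det)⁻¹ * (r g.1.det * r h.1.det)) ?_
        show _ • ((g.1 * h.1).map ι) = _ • ((_ • g.1.map ι) * (_ • h.1.map ι))
        rw [Matrix.map_mul, smul_mul_assoc, mul_smul_comm, smul_smul, smul_smul]
        congr 1
        have := hr0 g
        have := hr0 h
        field_simp }
  refine ⟨GaloisField p 2, inferInstance, inferInstance, inferInstance, φ, fun g => ?_⟩
  show proj (lift g) = 1 ↔ _
  rw [proj_eq_one_iff]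
  constructor
  · intro h
    obtain ⟨c, hc⟩ : ∃ c : GaloisField p 2,
        g.1.map ι = c • (1 : Matrix (Fin 2) (Fin 2) (GaloisField p 2)) := by
      rcases h with h | h
      · refine ⟨r g.1.det, ?_⟩
        have := congrArg Subtype.val h
        rw [show (lift g).1 = (r g.1.det)⁻¹ • g.1.map ι from rfl] at this
        rw [← Matrix.SpecialLinearGroup.coe_one, ← this, smul_inv_smul₀ (hr0 g)]
      · refine ⟨-r g.1.det, ?_⟩
        have := congrArg Subtype.val h
        rw [show (lift g).1 = (r g.1.det)⁻¹ • g.1.map ι from rfl] at this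
        have := congrArg (fun M : Matrix (Fin 2) (Fin 2) (GaloisField p 2) => r g.1.det • M) this
        simp only [smul_inv_smul₀ (hr0 g)] at this
        rw [this]
        simp
    have e := fun i j => congrFun (congrFun hc i) j
    have e00 := e 0 0; have e01 := e 0 1; have e10 := e 1 0; have e11 := e 1 1
    simp at e00 e01 e10 e11
    refine ⟨g.1 0 0, ?_⟩
    ext i j
    fin_cases i <;> fin_cases j
    · simp
    · simpa using e01
    · simpa using e10
    · simpa using ι.injective (e11.trans e00.symm)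
  · rintro ⟨c, hc⟩
    refine (proj_eq_one_iff _).1 ?_
    refine hprop (B := 1) (c := (r g.1.det)⁻¹ * ι c) ?_
    show _ • g.1.map ι = _ • (1 : Matrix (Fin 2) (Fin 2) (GaloisField p 2))
    rw [hc, Matrix.map_smul' _ _ _ (map_mul ι), hone, smul_smul]

variable {F : Type*} [Field F] [Finite F] (o : Root5 F) {X : Subgroup (GL Ix F)}

theorem Blk.invGL {a : GL (Fin 3) F} {b : GL (Fin 2) F} (h : Blk X a.1 b.1) :
    Blk X (a⁻¹).1 (b⁻¹).1 := by
  obtain ⟨A', B', h', hA, -, hB, -⟩ := h.inv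
  rwa [Units.inv_eq_of_mul_eq_one_right hA, Units.inv_eq_of_mul_eq_one_right hB]

theorem Blk.mulGL {a a' : GL (Fin 3) F} {b b' : GL (Fin 2) F} (h : Blk X a.1 b.1) (h' : Blk X a'.1 b'.1) :
    Blk X (a * a').1 (b * b').1 := by
  simpa only [Units.val_mul] using h.mul h'

/-- The elements of the minus space having a partner in `T`, up to scalars. -/
def sub2 (X : Subgroup (GL Ix F)) (T : Subgroup (GL (Fin 3) F)) : Subgroup (GL (Fin 2) F) where
  carrier := {b | ∃ a ∈ T, ∃ b', Blk X a.1 b'.1 ∧ pr b = pr b'}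
  one_mem' := ⟨1, T.one_mem, 1, by simpa using Blk.one, rfl⟩
  mul_mem' := by
    rintro b c ⟨a, ha, b', h, e⟩ ⟨a', ha', c', h', e'⟩
    exact ⟨a * a', T.mul_mem ha ha', b' * c', h.mulGL h', by rw [map_mul, map_mul, e, e']⟩
  inv_mem' := by
    rintro b ⟨a, ha, b', h, e⟩
    exact ⟨a⁻¹, T.inv_mem ha, b'⁻¹, h.invGL, by rw [map_inv, map_inv, e]⟩

theorem sub2_commutator_le {T U : Subgroup (GL (Fin 3) F)} (h : ∀ a ∈ T, ∀ a' ∈ T, ⁅a, a'⁆ ∈ U) :
    ⁅sub2 X T, sub2 X T⁆ ≤ sub2 X U := by
  rw [Subgroup.commutator_le]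
  rintro b ⟨a, ha, b', hb, e⟩ c ⟨a', ha', c', hc, e'⟩
  refine ⟨⁅a, a'⁆, h a ha a' ha', ⁅b', c'⁆, ?_, ?_⟩
  · simp only [commutatorElement_def]
    exact ((hb.mulGL hc).mulGL hb.invGL).mulGL hc.invGL
  · rw [map_commutatorElement, map_commutatorElement, e, e']

theorem sub2_mono {T U : Subgroup (GL (Fin 3) F)} (h : T ≤ U) : sub2 X T ≤ sub2 X U :=
  fun _ ⟨a, ha, r⟩ => ⟨a, h ha, r⟩

theorem sub2_conj {T : Subgroup (GL (Fin 3) F)} [T.Normal] {g b : GL (Fin 2) F}
    (hg : g ∈ sub2 X ⊤) (hb : b ∈ sub2 X T) : g * b * g⁻¹ ∈ sub2 X T := by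
  obtain ⟨a, -, g', hg', e⟩ := hg
  obtain ⟨a', ha', b', hb', e'⟩ := hb
  exact ⟨a * a' * a⁻¹, Subgroup.Normal.conj_mem inferInstance a' ha' a, g' * b' * g'⁻¹,
    (hg'.mulGL hb').mulGL hg'.invGL, by simp only [map_mul, map_inv, e, e']⟩

/-- What the group does on the minus space when it has no element of order `p` there. -/
structure Facts (X : Subgroup (GL Ix F)) : Prop where
  pow30 : ∀ {A : M3 F} {B : M2 F}, Blk X A B → ∃ c : F, B ^ 30 = c • 1
  lift : ∀ {A : M3 F} {B : M2 F}, Blk X A B →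
    ∃ (A' : M3 F) (B' : M2 F) (c : F), Blk X A' B' ∧ A'.det = 1 ∧ B'.det = 1 ∧ B = c • B'
  lift1 : ¬ Faith X → ∀ {A : M3 F} {B : M2 F}, Blk X A B →
    ∃ (B' : M2 F) (c : F), Blk X 1 B' ∧ B'.det = 1 ∧ B = c • B'

theorem w2_u2_not_comm : ¬ ∃ c : F, w2 o * u2 o = c • (u2 o * w2 o) := by
  rintro ⟨c, h⟩
  have h00 := congrFun (congrFun h 0) 0
  have h01 := congrFun (congrFun h 0) 1
  simp [w2, u2, Matrix.mul_apply, Matrix.vecMul, dotProduct, Fin.sum_univ_two] at h00 h01
  have hc : c = 1 := mul_right_cancel₀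
    (mul_ne_zero (o.e_ne_zero 1) (mul_ne_zero o.kappa_ne o.s_ne)) (by linear_combination -h00)
  subst hc
  exact absurd (o.e_injective (mul_left_cancel₀ (mul_ne_zero o.kappa_ne o.t_ne)
    (show o.kappa * o.t * o.e 1 = o.kappa * o.t * o.e 4 by linear_combination -h01))) (by decide)

theorem w2_u2_not_inverts : ¬ ∃ c : F, u2 o * w2 o * u2 o = c • w2 o := by
  rintro ⟨c, h⟩
  have h14 : o.e 1 * o.e 4 = 1 := by rw [← o.e_add]; exact o.e_zero
  have h00 := congrFun (congrFun h 0) 0
  have h01 := congrFun (congrFun h 0) 1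
  simp [w2, u2, Matrix.mul_apply, Matrix.vecMul, dotProduct, Fin.sum_univ_two] at h00 h01
  have hc : c = 1 := mul_right_cancel₀ (mul_ne_zero o.kappa_ne o.t_ne)
    (by linear_combination -h01 + o.kappa * o.t * h14)
  subst hc
  have h2 : o.e 1 * o.e 1 = 1 := mul_right_cancel₀ (mul_ne_zero o.kappa_ne o.s_ne)
    (by linear_combination h00)
  rw [← o.e_add] at h2
  exact absurd (o.e_eq_one h2) (by decide)

theorem u2_pow_five : u2 o ^ 5 = 1 := by
  rw [show u2 o = Matrix.diagonal ![o.e 1, o.e 4] by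
    ext i j; fin_cases i <;> fin_cases j <;> simp [u2], Matrix.diagonal_pow, ← Matrix.diagonal_one]
  congr 1
  funext i
  fin_cases i <;> simp [o.e_pow_five]

variable (S : Setup o X)
include S

theorem mem_sub2_top {A : M3 F} {B : M2 F} (h : Blk X A B) :
    GeneralLinearGroup.mkOfDetNeZero B (S.det_ne o h).2 ∈ sub2 X ⊤ :=
  ⟨GeneralLinearGroup.mkOfDetNeZero A (S.det_ne o h).1, Subgroup.mem_top _,
    GeneralLinearGroup.mkOfDetNeZero B (S.det_ne o h).2, h, rfl⟩

/-- **Without elements of order `p` on the minus space the image there is `A₅`.** -/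
theorem facts_of_not_unip [Fintype F] {p : ℕ} [hp' : Fact p.Prime] (hF : Fintype.card F = p)
    (hp : 5 < p) (hU : ¬ Unip X) : Facts X := by
  classical
  haveI : CharP F p := charP_of_card_eq_prime (R := F) hF
  obtain ⟨K, iK, jK, kK, φ, hφ⟩ := exists_proj_hom hF (by omega)
  have hker : ∀ g h : GL (Fin 2) F, pr g = pr h → φ g = φ h := by
    intro g h e
    rw [← mul_inv_eq_one, ← map_inv, ← map_mul, hφ, ← pr_eq_one, map_mul, map_inv, e, mul_inv_cancel]
  have hker' : ∀ g h : GL (Fin 2) F, φ g = φ h → ∃ c : F, g.1 = c • h.1 := by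
    intro g h e
    rw [← pr_eq, ← mul_inv_eq_one, ← map_inv, ← map_mul, pr_eq_one, ← hφ, map_mul, map_inv, e,
      mul_inv_cancel]
  set H := (sub2 X ⊤).map φ with hH
  set u := GeneralLinearGroup.mkOfDetNeZero (u2 o) (S.det_ne o (S.blk_u o)).2
  set w := GeneralLinearGroup.mkOfDetNeZero (w2 o) (S.det_ne o (S.blk_w o)).2
  have huH : φ u ∈ H := ⟨u, mem_sub2_top o S (S.blk_u o), rfl⟩
  have hwH : φ w ∈ H := ⟨w, mem_sub2_top o S (S.blk_w o), rfl⟩
  have hu1 : φ u ≠ 1 := fun e => by
    obtain ⟨c, hc⟩ := (hφ u).1 e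
    have h00 := congrFun (congrFun hc 0) 0
    have h11 := congrFun (congrFun hc 1) 1
    rw [show u.1 = u2 o from rfl] at h00 h11
    simp [u2] at h00 h11
    exact absurd (o.e_injective (h00.trans h11.symm)) (by decide)
  have hu5 : φ u ^ 5 = 1 := by
    have : u ^ 5 = 1 := Units.ext (by rw [Units.val_pow_eq_pow_val, Units.val_one]; exact u2_pow_five o)
    rw [← map_pow, this, map_one]
  have hncomm : ¬ φ w * φ u = φ u * φ w := fun e => by
    rw [← map_mul, ← map_mul] at e
    exact w2_u2_not_comm o (hker' _ _ e)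
  have hcop : ¬ p ∣ Nat.card H := by
    intro hdvd
    obtain ⟨x, hx⟩ := exists_prime_orderOf_dvd_card' (G := H) p hdvd
    obtain ⟨b, hb, hbx⟩ := Subgroup.mem_map.1 x.2
    obtain ⟨a, -, b', hblk, e⟩ := hb
    rw [orderOf_eq_iff hp'.out.pos] at hx
    have h1 : φ b' ^ p = 1 := by
      have h := congrArg Subtype.val hx.1
      rw [SubmonoidClass.coe_pow, Subgroup.coe_one, ← hbx] at h
      rw [← hker b b' e]
      exact h
    rw [← map_pow, hφ] at h1
    obtain ⟨β, hβ⟩ := h1
    rw [Units.val_pow_eq_pow_val] at hβ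
    have hfrob : β ^ p = β := hF ▸ FiniteField.pow_card β
    have hnil : IsNilpotent (b'.1 - β • 1) := ⟨p, by
      rw [sub_pow_char_of_commute p ((Commute.one_right _).smul_right β), hβ, smul_pow, one_pow, hfrob,
        sub_self]⟩
    have hsq : (b'.1 - β • 1) * (b'.1 - β • 1) = 0 := by
      have h1 := Matrix.isNilpotent_charpoly_sub_pow_of_isNilpotent hnil
      rw [isNilpotent_iff_eq_zero, sub_eq_zero, Fintype.card_fin] at h1
      have := (b'.1 - β • 1).aeval_self_charpoly
      rw [h1] at this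
      simpa [pow_two] using this
    have hne : b'.1 - β • 1 ≠ 0 := fun h0 => by
      have h := hx.2 1 (by omega) one_pos
      rw [pow_one] at h
      refine h (Subtype.ext ?_)
      rw [← hbx, hker b b' e, Subgroup.coe_one, hφ]
      exact ⟨β, sub_eq_zero.1 h0⟩
    have hβ0 : β ≠ 0 := fun h0 => (S.det_ne o (hblk.pow p)).2 (by simp [hβ, h0])
    refine hU ⟨_, _, β, β⁻¹ • (b'.1 - β • 1), hblk, smul_ne_zero (inv_ne_zero hβ0) hne, ?_, ?_⟩
    · rw [smul_mul_assoc, mul_smul_comm, hsq, smul_zero, smul_zero]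
    · rw [smul_add, smul_inv_smul₀ hβ0, add_sub_cancel]
  -- the cases of Dickson's list
  haveI := Fact.mk (show Nat.Prime 5 from Nat.prime_five)
  have h5 : 5 ∣ Nat.card H := by
    have : orderOf (⟨φ u, huH⟩ : H) = 5 := orderOf_eq_prime (Subtype.ext (by simpa using hu5))
      (fun h => hu1 (by simpa using congrArg Subtype.val h))
    exact this ▸ orderOf_dvd_natCard _
  rcases DicksonPSL2.coprime_case p hcop with hbot | ⟨x, hx, hle⟩ | ⟨h12, -⟩ | ⟨h24, -⟩ | ⟨-, -, ⟨eA⟩⟩
  · rw [hbot] at huH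
    exact absurd (Subgroup.mem_bot.1 huH) hu1
  · exfalso
    have hn : ∀ g ∈ H, g * x * g⁻¹ ∈ torus x := fun g hg =>
      (Subgroup.mem_normalizer_iff.1 (hle hg) x).1 (self_mem_torus x)
    have huT : φ u ∈ torus x := by
      rcases mem_or_inverts hx (hn _ huH) with h | ⟨h, -⟩
      · exact h
      · refine absurd ?_ hu1
        calc φ u = φ u ^ 5 * ((φ u * φ u) * (φ u * φ u))⁻¹ := by group
          _ = 1 := by rw [hu5, h]; simp
    rcases mem_or_inverts hx (hn _ hwH) with h | ⟨-, h⟩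
    · exact hncomm (torus_comm hx h huT)
    · have e : φ u * φ w * φ u = φ w := by
        have h' := h _ huT
        rw [mul_inv_eq_iff_eq_mul] at h'
        rw [mul_assoc, h', mul_inv_cancel_left]
      rw [← map_mul, ← map_mul] at e
      exact w2_u2_not_inverts o (hker' _ _ e)
  · rw [h12] at h5; norm_num at h5
  · rw [h24] at h5; norm_num at h5
  haveI : IsSimpleGroup H := (MulEquiv.isSimpleGroup_congr eA).2 inferInstance
  have hperf : ⁅H, H⁆ = H := by
    rcases IsSimpleGroup.eq_bot_or_eq_top_of_normal (commutator H) inferInstance with h | h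
    · refine absurd ?_ hncomm
      have := Subgroup.commutator_eq_bot_iff_le_centralizer.1 h
      exact congrArg Subtype.val
        (Subgroup.mem_centralizer_iff.1 (this (Subgroup.mem_top (⟨φ w, hwH⟩ : H))) ⟨φ u, huH⟩ trivial).symm
    · rw [← Subgroup.map_subtype_commutator, h, ← MonoidHom.range_eq_map, H.range_subtype]
  have hle : ∀ T, (sub2 X T).map φ ≤ H := fun T => Subgroup.map_mono (sub2_mono le_top)
  have hcomm : ∀ {T U : Subgroup (GL (Fin 3) F)}, (∀ a ∈ T, ∀ a' ∈ T, ⁅a, a'⁆ ∈ U) →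
      (sub2 X T).map φ = H → (sub2 X U).map φ = H := fun {T U} h e =>
    le_antisymm (hle U) (by
      rw [← hperf, ← e, ← Subgroup.map_commutator]
      exact Subgroup.map_mono (sub2_commutator_le h))
  have hget : ∀ {T : Subgroup (GL (Fin 3) F)}, (sub2 X T).map φ = H → ∀ {A : M3 F} {B : M2 F},
      Blk X A B → ∃ a ∈ T, ∃ b' : GL (Fin 2) F, Blk X a.1 b'.1 ∧ ∃ c : F, B = c • b'.1 := by
    intro T e A B h
    have hm : φ (GeneralLinearGroup.mkOfDetNeZero B (S.det_ne o h).2) ∈ H :=
      ⟨_, mem_sub2_top o S h, rfl⟩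
    rw [← e] at hm
    obtain ⟨b, ⟨a, ha, b', hb', hbb⟩, hbe⟩ := hm
    exact ⟨a, ha, b', hb', hker' (GeneralLinearGroup.mkOfDetNeZero B (S.det_ne o h).2) b'
      (hbe.symm.trans (hker _ _ hbb))⟩
  have hSL := hcomm (T := ⊤) (U := Cfsg.Geo.specialLinear (Fin 3) F) (fun a _ a' _ => by
    rw [Cfsg.Geo.specialLinear, MonoidHom.mem_ker, map_commutatorElement]
    exact commutatorElement_eq_one_iff_mul_comm.2 (mul_comm _ _)) rfl
  refine ⟨fun {A B} h => ?_, fun {A B} h => ?_, fun hK {A B} h => ?_⟩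
  · set b := GeneralLinearGroup.mkOfDetNeZero B (S.det_ne o h).2
    have key : ∀ x : H, x ^ 30 = 1 := fun x => eA.injective (by
      rw [map_pow, map_one]
      rcases DicksonPSL2.alt_five_pow (eA x) with e | e | e
      · rw [show (30 : ℕ) = 2 * 15 from rfl, pow_mul, e, one_pow]
      · rw [show (30 : ℕ) = 3 * 10 from rfl, pow_mul, e, one_pow]
      · rw [show (30 : ℕ) = 5 * 6 from rfl, pow_mul, e, one_pow])
    have := congrArg Subtype.val (key ⟨φ b, b, mem_sub2_top o S h, rfl⟩)
    rw [SubmonoidClass.coe_pow, Subgroup.coe_one, ← map_pow, hφ] at this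
    obtain ⟨c, hc⟩ := this
    rw [Units.val_pow_eq_pow_val] at hc
    exact ⟨c, hc⟩
  · obtain ⟨a, ha, b', hb', c, hc⟩ := hget hSL h
    have hda : a.1.det = 1 := by
      rwa [Cfsg.Geo.specialLinear, MonoidHom.mem_ker, Units.ext_iff,
        Matrix.GeneralLinearGroup.val_det_apply, Units.val_one] at ha
    exact ⟨a.1, b'.1, c, hb', hda, by simpa [hda] using S.blk_det o hb', hc⟩
  · have hN : ((sub2 X (Subgroup.center (GL (Fin 3) F))).map φ).subgroupOf H ≠ ⊥ := by
      simp only [Faith, not_forall] at hK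
      obtain ⟨A₀, B₀, h₀, hA, hB⟩ := hK
      obtain ⟨l, hl⟩ := hA
      set b := GeneralLinearGroup.mkOfDetNeZero B₀ (S.det_ne o h₀).2
      intro e
      have hm : (⟨φ b, b, mem_sub2_top o S h₀, rfl⟩ : H) ∈
          ((sub2 X (Subgroup.center (GL (Fin 3) F))).map φ).subgroupOf H := by
        rw [Subgroup.mem_subgroupOf]
        refine ⟨b, ⟨GeneralLinearGroup.mkOfDetNeZero A₀ (S.det_ne o h₀).1, ?_, b, h₀, rfl⟩, rfl⟩
        rw [← QuotientGroup.eq_one_iff]
        exact pr_eq_one.2 ⟨l, hl⟩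
      rw [e, Subgroup.mem_bot] at hm
      exact hB ((hφ b).1 (congrArg Subtype.val hm))
    haveI : (((sub2 X (Subgroup.center (GL (Fin 3) F))).map φ).subgroupOf H).Normal := by
      refine ⟨fun n hn g => ?_⟩
      rw [Subgroup.mem_subgroupOf] at hn ⊢
      obtain ⟨c, hc, hce⟩ := hn
      obtain ⟨d, hd, hde⟩ := g.2
      exact ⟨_, sub2_conj hd hc, by simp [hce, hde]⟩
    have htop := (IsSimpleGroup.eq_bot_or_eq_top_of_normal _ inferInstance).resolve_left hN
    rw [Subgroup.subgroupOf_eq_top] at htop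
    have h1 := hcomm (T := Subgroup.center (GL (Fin 3) F)) (U := ⊥) (fun a ha a' _ => by
      rw [Subgroup.mem_bot, commutatorElement_eq_one_iff_mul_comm]
      exact (Subgroup.mem_center_iff.1 ha a').symm) (le_antisymm (hle _) htop)
    obtain ⟨a, ha, b', hb', c, hc⟩ := hget h1 h
    rw [Subgroup.mem_bot] at ha
    rw [ha, Units.val_one] at hb'
    exact ⟨b'.1, c, hb', by simpa using S.blk_det o hb', hc⟩

end CfsgLib.C6Five
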