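import Mathlib.LinearAlgebra.Matrix.GeneralLinearGroup.Projective
import Mathlib.GroupTheory.Solvable
import Mathlib.LinearAlgebra.Matrix.Determinant.Basic
import Mathlib.Tactic.LinearCombination

/-!
# Linear groups modulo scalars
-/

set_option autoImplicit false
set_option linter.unusedSectionVars false

namespace CfsgLib.C6Five

open Matrix
open scoped commutatorElement

variable {F : Type*} [Field F] {ι : Type} [Fintype ι] [DecidableEq ι]

/-- Scalar elements. -/
def IsSc (g : GL ι F) : Prop := ∃ c : F, (g : Matrix ι ι F) = c • 1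

/-- The projective image. -/
def pr : GL ι F →* GL ι F ⧸ Subgroup.center (GL ι F) := QuotientGroup.mk' _

theorem pr_eq_one {g : GL ι F} : pr g = 1 ↔ IsSc g := by
  rw [pr, QuotientGroup.mk'_apply, QuotientGroup.eq_one_iff,
    Matrix.GeneralLinearGroup.mem_center_iff_val_mem_range_scalar, Set.mem_range]
  simp only [IsSc, Matrix.scalar_apply, Matrix.smul_one_eq_diagonal, eq_comm]

theorem pr_eq {g h : GL ι F} :
    pr g = pr h ↔ ∃ c : F, (g : Matrix ι ι F) = c • (h : Matrix ι ι F) := by
  rw [← mul_inv_eq_one, ← map_inv, ← map_mul, pr_eq_one, IsSc]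
  refine exists_congr fun c => ⟨fun e => ?_, fun e => ?_⟩
  · rw [Units.val_mul] at e
    rw [← Units.inv_mul_cancel_right (g : Matrix ι ι F) h, e, smul_mul_assoc, one_mul]
  · rw [Units.val_mul, e, smul_mul_assoc, Units.mul_inv]

/-- Conjugation of matrices by an invertible matrix. -/
def cj (g : GL ι F) (X : Matrix ι ι F) : Matrix ι ι F := g.1 * X * (g⁻¹ : GL ι F).1

theorem cj_val (g b : GL ι F) : cj g (b : Matrix ι ι F) = ((g * b * g⁻¹ : GL ι F) : Matrix ι ι F) := by
  simp [cj]

theorem cj_smul (g : GL ι F) (c : F) (X : Matrix ι ι F) : cj g (c • X) = c • cj g X := by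
  simp [cj, mul_smul_comm]

theorem cj_of_mul {g : GL ι F} {X Y : Matrix ι ι F} {c : F} (h : g.1 * X = c • (Y * g.1)) :
    cj g X = c • Y := by
  rw [cj, h, smul_mul_assoc, Units.mul_inv_cancel_right]

/-- The span of the matrices of a subgroup. -/
def spanOf (D : Subgroup (GL ι F)) : Submodule F (Matrix ι ι F) :=
  Submodule.span F ((fun g : GL ι F => (g : Matrix ι ι F)) '' (D : Set (GL ι F)))

theorem mem_spanOf {D : Subgroup (GL ι F)} {g : GL ι F} (hg : g ∈ D) : g.1 ∈ spanOf D :=
  Submodule.subset_span ⟨g, hg, rfl⟩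

theorem cj_mem_spanOf {D : Subgroup (GL ι F)} {g : GL ι F} (hg : ∀ b ∈ D, g * b * g⁻¹ ∈ D)
    {X : Matrix ι ι F} (hX : X ∈ spanOf D) : cj g X ∈ spanOf D := by
  induction hX using Submodule.span_induction with
  | mem Z hZ =>
    obtain ⟨b, hb, rfl⟩ := hZ
    exact Submodule.subset_span ⟨_, hg b hb, (cj_val g b).symm⟩
  | zero => simp [cj]
  | add Z W _ _ hZ hW => simp only [cj, mul_add, add_mul] at *; exact (spanOf D).add_mem hZ hW
  | smul r Z _ hZ => rw [cj_smul]; exact (spanOf D).smul_mem _ hZ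

theorem commute_spanOf {D : Subgroup (GL ι F)} {Z X : Matrix ι ι F} (h : ∀ b ∈ D, Commute Z b.1)
    (hX : X ∈ spanOf D) : Commute Z X := by
  induction hX using Submodule.span_induction with
  | mem W hW =>
    obtain ⟨b, hb, rfl⟩ := hW
    exact h b hb
  | zero => exact Commute.zero_right _
  | add V W _ _ hV hW => exact hV.add_right hW
  | smul r V _ hV => exact hV.smul_right r

theorem pow_swap' {X Y : Matrix ι ι F} {l : F} (h : X * Y = l • (Y * X)) (n : ℕ) :
    X ^ n * Y = l ^ n • (Y * X ^ n) := by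
  induction n with
  | zero => simp
  | succ n ih =>
    rw [pow_succ' X, mul_assoc, ih, mul_smul_comm, ← mul_assoc, h, smul_mul_assoc, smul_smul,
      mul_assoc Y, ← pow_succ]

/-- A commutation factor is a root of unity of order the dimension. -/
theorem pow_card_of_swap {x y : GL ι F} {l : F} (h : x.1 * y.1 = l • (y.1 * x.1)) :
    l ^ Fintype.card ι = 1 := by
  have h' := congrArg Matrix.det h
  rw [det_smul, det_mul, det_mul] at h'
  exact mul_right_cancel₀ (mul_ne_zero ((Matrix.isUnit_iff_isUnit_det _).1 y.isUnit).ne_zero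
    ((Matrix.isUnit_iff_isUnit_det _).1 x.isUnit).ne_zero) (by linear_combination -h')

/-- If commutators are scalar, powers to the dimension centralise. -/
theorem commute_pow_card {x y : GL ι F} (h : pr x * pr y = pr y * pr x) :
    Commute (x ^ Fintype.card ι) y := by
  rw [← map_mul, ← map_mul, pr_eq, Units.val_mul, Units.val_mul] at h
  obtain ⟨l, hl⟩ := h
  refine Units.ext ?_
  rw [Units.val_mul, Units.val_mul, Units.val_pow_eq_pow_val, pow_swap' hl, pow_card_of_swap hl, one_smul]

/-- A soluble group which is not scalar has a non-scalar term whose commutators are scalar, normalised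
by whatever normalises the group. -/
theorem exists_nearly_abelian {D : Subgroup (GL ι F)} [Group.IsSolvable D]
    (hns : ∃ x ∈ D, ¬ IsSc x) : ∃ E : Subgroup (GL ι F), E ≤ D ∧ (∃ x ∈ E, ¬ IsSc x) ∧
      (∀ x ∈ E, ∀ y ∈ E, pr x * pr y = pr y * pr x) ∧
      ∀ g, (∀ x ∈ D, g * x * g⁻¹ ∈ D) → ∀ x ∈ E, g * x * g⁻¹ ∈ E := by
  classical
  set Γ : ℕ → Subgroup (GL ι F) := fun n => (derivedSeries D n).map D.subtype with hΓ
  have hsucc : ∀ n, Γ (n + 1) = ⁅Γ n, Γ n⁆ := fun n => by
    simp only [hΓ, derivedSeries_succ, Subgroup.map_commutator]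
  have hzero : Γ 0 = D := by simp [hΓ, ← MonoidHom.range_eq_map]
  have hex : ∃ n, ∀ x ∈ Γ n, IsSc x := by
    obtain ⟨n, hn⟩ := (Group.isSolvable_def D).1 inferInstance
    refine ⟨n, fun x hx => ⟨1, ?_⟩⟩
    simp only [hΓ, hn, Subgroup.map_bot, Subgroup.mem_bot] at hx
    simp [hx]
  have h0 : ¬ ∀ x ∈ Γ 0, IsSc x := fun h => by
    obtain ⟨x, hx, hx'⟩ := hns
    exact hx' (h x (hzero ▸ hx))
  obtain ⟨m, hm⟩ : ∃ m, Nat.find hex = m + 1 :=
    Nat.exists_eq_succ_of_ne_zero fun h => h0 (h ▸ Nat.find_spec hex)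
  have hmns := Nat.find_min hex (show m < Nat.find hex by omega)
  push Not at hmns
  refine ⟨Γ m, fun x ⟨y, _, e⟩ => e ▸ y.2, hmns, fun x hx y hy => ?_, fun g hg => ?_⟩
  · have h := Nat.find_spec hex
    rw [hm, hsucc] at h
    have h' := pr_eq_one.2 (h _ (Subgroup.commutator_mem_commutator hx hy))
    rw [map_commutatorElement] at h'
    exact commutatorElement_eq_one_iff_mul_comm.1 h'
  · suffices hle : ∀ n, (Γ n).map (MulAut.conj g).toMonoidHom ≤ Γ n from
      fun x hx => hle m ⟨x, hx, rfl⟩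
    intro n
    induction n with
    | zero =>
      rw [hzero]
      rintro _ ⟨x, hx, rfl⟩
      exact hg x hx
    | succ n ih =>
      rw [hsucc, Subgroup.map_commutator]
      exact Subgroup.commutator_mono ih ih

end CfsgLib.C6Five
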