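import Cfsg.Agent.C6Five.Model
import Cfsg.Agent.C6Five.Lin
import Mathlib.GroupTheory.PGroup
import Mathlib.RingTheory.RootsOfUnity.PrimitiveRoots

/-!
# Subgroups normalised by the normaliser of the Heisenberg group of order 125

A non-scalar one spans a space containing the Weyl monomials, so its centraliser is scalar, and a
soluble one forces its normaliser to normalise the Heisenberg group.
-/

set_option autoImplicit false
set_option linter.unusedSectionVars false
set_option linter.style.haveILetI false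

namespace CfsgLib.C6Five

open Matrix Cfsg.Geo

variable {F : Type*} [Field F] (o : Root5 F)

/-! ### Conjugation by monomials -/

theorem cj_clock (k : Fin 5) (X : M5 F) (i j : Fin 5) :
    cj (weylGL o k 0) X i j = o.e (k * (i - j)) * X i j := by
  have h0 : ∀ k j : Fin 5, -k * (j + -0) = -(k * j) := by decide
  have h1 : ∀ k i j : Fin 5, k * i + -(k * j) = k * (i - j) := by decide
  show (weyl o k 0 * X * (o.e (-(k * 0)) • weyl o (-k) (-0))) i j = _
  rw [Matrix.mul_smul, Matrix.smul_apply, smul_eq_mul]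
  simp only [weyl]
  rw [mul_mono, neg_zero]
  simp only [add_zero]
  rw [show (mono (fun j : Fin 5 => j) (fun j => o.e (k * j)) * X) i j = o.e (k * i) * X i j from
    mono_mul (f := fun j => j) Function.bijective_id _ _ i j, mul_zero, neg_zero, o.e_zero, one_mul,
    mul_right_comm, ← o.e_add, ← h1, neg_mul]

theorem cj_shift (k : Fin 5) (X : M5 F) (i j : Fin 5) :
    cj (weylGL o 0 k) X (i + k) (j + k) = X i j := by
  show (weyl o 0 k * X * (o.e (-(0 * k)) • weyl o (-0) (-k))) (i + k) (j + k) = _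
  rw [Matrix.mul_smul, Matrix.smul_apply, smul_eq_mul]
  simp only [weyl, neg_zero, zero_mul, o.e_zero, one_mul]
  rw [mul_mono, mul_one, show (mono (fun j : Fin 5 => j + k) (fun _ => (1 : F)) * X) (i + k) (j + k + -k)
      = 1 * X i (j + k + -k) from mono_mul (fin5_bijective_add k) _ _ i _, one_mul, add_neg_cancel_right]

theorem weyl_apply (a b i j : Fin 5) : weyl o a b i j = if i - j = b then o.e (a * i) else 0 := by
  simp only [weyl, mono, Matrix.of_apply, sub_eq_iff_eq_add']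
  split_ifs with h
  · rw [h]
  · rfl

/-- **Components.** A space stable under conjugation by the monomials contains, with a non-scalar
matrix, a non-scalar monomial. -/
theorem exists_weyl_mem {S : Submodule F (M5 F)}
    (hc : ∀ k, ∀ X ∈ S, cj (weylGL o k 0) X ∈ S) (hs : ∀ k, ∀ X ∈ S, cj (weylGL o 0 k) X ∈ S)
    {X : M5 F} (hX : X ∈ S) (hns : ¬ ∃ c : F, X = c • 1) :
    ∃ a b, ¬ (a = 0 ∧ b = 0) ∧ weyl o a b ∈ S := by
  -- the diagonals
  set D : Fin 5 → M5 F := fun d => ∑ k, o.e (-(k * d)) • cj (weylGL o k 0) X with hD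
  have hDmem : ∀ d, D d ∈ S := fun d => S.sum_mem fun k _ => S.smul_mem _ (hc k X hX)
  have hDval : ∀ d i j, D d i j = if i - j = d then 5 * X i j else 0 := by
    intro d i j
    have h : ∀ k i j d : Fin 5, -(k * d) + k * (i - j) = (i - j - d) * k := by decide
    simp only [hD, Matrix.sum_apply, Matrix.smul_apply, smul_eq_mul, cj_clock, ← mul_assoc, ← o.e_add, h,
      ← Finset.sum_mul, o.sum_e_mul, ite_mul, zero_mul]
    split_ifs with h1 h2 h2 <;> first | rfl | exact absurd (sub_eq_zero.1 h1) h2 |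
      exact absurd (sub_eq_zero.2 h2) h1
  -- the Fourier coefficients along a diagonal
  set T : Fin 5 → Fin 5 → M5 F := fun a d => ∑ k, o.e (a * k) • cj (weylGL o 0 k) (D d) with hT
  set c : Fin 5 → Fin 5 → F := fun a d => 5 * ∑ m, o.e (-(a * m)) * X m (m - d) with hcdef
  have hTval : ∀ a d, T a d = c a d • weyl o a d := by
    intro a d
    ext i j
    have hcj : ∀ k, cj (weylGL o 0 k) (D d) i j = if i - j = d then 5 * X (i - k) (j - k) else 0 := by
      intro k
      have := cj_shift o k (D d) (i - k) (j - k)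
      rw [sub_add_cancel, sub_add_cancel, hDval, sub_sub_sub_cancel_right] at this
      exact this
    simp only [hT, Matrix.sum_apply, Matrix.smul_apply, smul_eq_mul, hcj, weyl_apply, mul_ite, mul_zero]
    split_ifs with h
    · subst h
      simp only [hcdef, Finset.mul_sum, Finset.sum_mul]
      refine Fintype.sum_bijective (fun k => i - k) (Equiv.subLeft i).bijective _ _ fun k => ?_
      rw [show i - k - (i - j) = j - k by abel]
      have e : ∀ a i k : Fin 5, a * k = -(a * (i - k)) + a * i := by decide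
      rw [e a i k, o.e_add]
      ring
    · exact Finset.sum_const_zero
  have hmem : ∀ a d, c a d ≠ 0 → weyl o a d ∈ S := by
    intro a d h
    have hm : T a d ∈ S := S.sum_mem fun k _ => S.smul_mem (o.e (a * k)) (hs k _ (hDmem d))
    have := S.smul_mem (c a d)⁻¹ hm
    rwa [hTval, inv_smul_smul₀ h] at this
  by_contra hno
  push Not at hno
  have hc0 : ∀ a d, ¬ (a = 0 ∧ d = 0) → c a d = 0 := fun a d h =>
    by_contra fun h' => hno a d (fun ha hd => h ⟨ha, hd⟩) (hmem a d h')
  -- inversion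
  have hinv : ∀ i j, ∑ a, o.e (a * i) * c a (i - j) = 25 * X i j := by
    intro i j
    have h : ∀ a m : Fin 5, a * i + -(a * m) = (i - m) * a := fun a m => by
      revert i m a; decide
    simp only [hcdef, Finset.mul_sum, mul_left_comm (o.e _) (5 : F), ← mul_assoc (o.e _), ← o.e_add, h]
    rw [Finset.sum_comm]
    simp only [← Finset.sum_mul, ← Finset.mul_sum, o.sum_e_mul, ite_mul, zero_mul, sub_eq_zero]
    rw [Finset.sum_ite_eq]
    simp only [Finset.mem_univ, if_true, sub_sub_cancel]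
    ring
  refine hns ⟨c 0 0 / 25, Matrix.ext fun i j => ?_⟩
  have h25 : (25 : F) ≠ 0 := by
    rw [show (25 : F) = 5 * 5 by norm_num]
    exact mul_ne_zero o.five o.five
  rw [Matrix.smul_apply, Matrix.one_apply, smul_eq_mul, mul_ite, mul_one, mul_zero,
    eq_comm, ← mul_right_inj' h25, ← hinv, mul_ite, mul_zero, mul_div_cancel₀ _ h25]
  split_ifs with hij
  · subst hij
    rw [sub_self, Finset.sum_eq_single 0 (fun a _ ha => by rw [hc0 a 0 fun h => ha h.1, mul_zero])
      (by simp), zero_mul, o.e_zero, one_mul]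
  · exact (Finset.sum_eq_zero fun a _ => by
      rw [hc0 a (i - j) fun h => hij (sub_eq_zero.1 h.2), mul_zero]).symm

/-- An element commuting with clock and shift up to scalars is scalar times a monomial. -/
theorem eig_weyl {y : GL (Fin 5) F}
    (hy : ∀ a b, pr (weylGL o a b) * pr y = pr y * pr (weylGL o a b)) :
    ∃ (c : F) (a b : Fin 5), y.1 = c • weyl o a b := by
  by_cases hsc : IsSc y
  · obtain ⟨c, hc⟩ := hsc
    exact ⟨c, 0, 0, by rw [hc, weyl_zero]⟩
  have hst : ∀ a b, ∀ X ∈ Submodule.span F {y.1}, cj (weylGL o a b) X ∈ Submodule.span F {y.1} := by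
    intro a b X hX
    obtain ⟨t, rfl⟩ := Submodule.mem_span_singleton.1 hX
    have h := hy a b
    rw [← map_mul, ← map_mul, pr_eq, Units.val_mul, Units.val_mul] at h
    obtain ⟨l, hl⟩ := h
    rw [cj_smul, cj_of_mul hl]
    exact Submodule.smul_mem _ _ (Submodule.smul_mem _ _ (Submodule.mem_span_singleton_self _))
  obtain ⟨a, b, -, hab⟩ := exists_weyl_mem o (fun k => hst k 0) (fun k => hst 0 k)
    (Submodule.mem_span_singleton_self _) hsc
  obtain ⟨t, ht⟩ := Submodule.mem_span_singleton.1 hab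
  have ht0 : t ≠ 0 := fun h => (weylGL o a b).ne_zero (by rw [weylGL_val, ← ht, h, zero_smul])
  exact ⟨t⁻¹, a, b, by rw [← ht, inv_smul_smul₀ ht0]⟩

/-- The two generators of the orbit of exponents. -/
theorem orbit_all {T : Fin 5 → Fin 5 → Prop} (h1 : ∀ a b, T a b → T (a + 2 * b) b)
    (h2 : ∀ a b, T a b → T b (-a)) {a b : Fin 5} (h0 : ¬ (a = 0 ∧ b = 0)) (hab : T a b) :
    ∀ a' b' : Fin 5, ¬ (a' = 0 ∧ b' = 0) → T a' b' := by
  let f : Fin 5 × Fin 5 → Fin 5 × Fin 5 := fun q => (q.1 + 2 * q.2, q.2)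
  have hf : ∀ (n : ℕ) q, T q.1 q.2 → T (f^[n] q).1 (f^[n] q).2 := by
    intro n
    induction n with
    | zero => exact fun q h => h
    | succ n ih => exact fun q h => by rw [Function.iterate_succ_apply']; exact h1 _ _ (ih q h)
  have hcov : ∀ a a' b : Fin 5, b ≠ 0 →
      ∃ n : Fin 5, (fun q : Fin 5 × Fin 5 => (q.1 + 2 * q.2, q.2))^[n.val] (a, b) = (a', b) := by decide
  have hrow : ∀ a a' b, b ≠ 0 → T a b → T a' b := fun a a' b hb h => by
    obtain ⟨n, hn⟩ := hcov a a' b hb
    have := hf n.val (a, b) h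
    rwa [hn] at this
  -- an element off the axis
  obtain ⟨x, y, hy, hxy⟩ : ∃ x y, y ≠ 0 ∧ T x y := by
    by_cases hb : b = 0
    · exact ⟨b, -a, neg_ne_zero.2 fun ha => h0 ⟨ha, hb⟩, h2 a b hab⟩
    · exact ⟨a, b, hb, hab⟩
  have hrows : ∀ a' b', b' ≠ 0 → T a' b' := fun a' b' hb' =>
    hrow _ a' b' hb' (by simpa using h2 _ _ (hrow x (-b') y hy hxy))
  intro a' b' h
  by_cases hb' : b' = 0
  · subst hb'
    exact h2 _ _ (hrows 0 a' fun ha => h ⟨ha, rfl⟩) |> fun h => by simpa using h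
  · exact hrows a' b' hb'

section Normalised

variable [Finite F] {D : Subgroup (GL (Fin 5) F)}

/-- The centraliser of a non-scalar normalised subgroup is scalar. -/
theorem isSc_of_centralises (hD : ∀ g ∈ heisNormalizer o, ∀ x ∈ D, g * x * g⁻¹ ∈ D)
    (hns : ∃ x ∈ D, ¬ IsSc x) {z : GL (Fin 5) F} (hz : ∀ x ∈ D, Commute z x) : IsSc z := by
  obtain ⟨x, hx, hx'⟩ := hns
  have hst : ∀ g ∈ heisNormalizer o, ∀ X ∈ spanOf D, cj g X ∈ spanOf D := fun g hg _ h =>
    cj_mem_spanOf (hD g hg) h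
  obtain ⟨a, b, hab, hmem⟩ := exists_weyl_mem o (fun k => hst _ (weyl_mem' o k 0))
    (fun k => hst _ (weyl_mem' o 0 k)) (mem_spanOf hx) hx'
  have hall := orbit_all (T := fun a b => weyl o a b ∈ spanOf D)
    (fun a b h => by
      have h' := hst _ (chirp_mem' o) _ h
      rw [cj_of_mul (chirp_weyl o a b)] at h'
      simpa [smul_smul, o.e_ne_zero] using (spanOf D).smul_mem (o.e (-(b * b)))⁻¹ h')
    (fun a b h => by
      have h' := hst _ (four_mem' o) _ h
      rw [cj_of_mul (four_weyl o a b)] at h'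
      simpa [smul_smul, o.e_ne_zero] using (spanOf D).smul_mem (o.e (a * b))⁻¹ h') hab hmem
  have hcom : ∀ a b, Commute z.1 (weyl o a b) := fun a b => by
    by_cases h0 : a = 0 ∧ b = 0
    · rw [h0.1, h0.2, weyl_zero]; exact Commute.one_right _
    · exact commute_spanOf (fun x hx => congrArg Units.val (hz x hx)) (hall a b h0)
  obtain ⟨c, p, q, hc⟩ := eig_weyl o (y := z) fun a b => by
    rw [← map_mul, ← map_mul, pr_eq]
    exact ⟨1, by rw [one_smul, Units.val_mul, Units.val_mul]; exact (hcom a b).eq.symm⟩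
  by_cases hpq : p = 0 ∧ q = 0
  · exact ⟨c, by rw [hc, hpq.1, hpq.2, weyl_zero]⟩
  · exfalso
    obtain ⟨a, b, hne⟩ := (by decide : ∀ p q : Fin 5, ¬ (p = 0 ∧ q = 0) →
      ∃ a b : Fin 5, p * b - q * a ≠ 0) p q hpq
    have h := (hcom a b).eq
    have hc0 : c ≠ 0 := fun h0 => z.ne_zero (by rw [hc, h0, zero_smul])
    rw [hc, smul_mul_assoc, mul_smul_comm, weyl_comm o p q a b, smul_smul] at h
    have h' := smul_left_injective F ((weylGL o a b * weylGL o p q : GL (Fin 5) F).ne_zero)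
      (show (c * o.e (p * b - q * a)) • ((weylGL o a b * weylGL o p q : GL (Fin 5) F) : M5 F) =
        c • ((weylGL o a b * weylGL o p q : GL (Fin 5) F) : M5 F) by rw [Units.val_mul]; exact h)
    exact hne (o.e_eq_one (mul_left_cancel₀ hc0 (h'.trans (mul_one c).symm)))

theorem weylGL_pow_five (a b : Fin 5) (g : GL (Fin 5) F) (k : Fin 5)
    (hg : g.1 = o.e k • weyl o a b) : g ^ 5 = 1 := by
  refine Units.ext ?_
  rw [Units.val_pow_eq_pow_val, Units.val_one, hg, smul_pow, o.e_pow_five, one_smul, pow_succ, pow_succ,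
    pow_succ, pow_succ, pow_one]
  simp only [weyl_mul, Matrix.smul_mul, smul_smul, ← o.e_add]
  have h0 : ∀ c : Fin 5, c + c + c + c + c = 0 := by decide
  rw [h0, h0, weyl_zero]
  have : ∀ a b : Fin 5, -(b * a) + -((b + b) * a) + -((b + b + b) * a) + -((b + b + b + b) * a) = 0 := by
    decide
  rw [this, o.e_zero, one_smul]

/-- **A soluble non-scalar normal subgroup forces the Heisenberg group to be normal.** -/
theorem le_normalizer_of_solvable {M : Subgroup (GL (Fin 5) F)} (hNM : heisNormalizer o ≤ M)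
    [Group.IsSolvable D] (hD : ∀ g ∈ M, ∀ x ∈ D, g * x * g⁻¹ ∈ D) (hns : ∃ x ∈ D, ¬ IsSc x) :
    M ≤ subgroupNormalizer (heis o) := by
  classical
  haveI : Fact (Nat.Prime 5) := ⟨Nat.prime_five⟩
  obtain ⟨E, -, hEns, hEc, hEn⟩ := exists_nearly_abelian hns
  have hE : ∀ g ∈ M, ∀ x ∈ E, g * x * g⁻¹ ∈ E := fun g hg => hEn g (hD g hg)
  set Q := E.map (pr (F := F) (ι := Fin 5))
  have hQe : ∀ q ∈ Q, q ^ 5 = 1 := by
    rintro _ ⟨x, hx, rfl⟩
    rw [← map_pow, pr_eq_one]
    refine isSc_of_centralises o (fun g hg => hE g (hNM hg)) hEns fun y hy => ?_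
    simpa using commute_pow_card (hEc x hx y hy)
  have hQn : ∀ g ∈ M, ∀ q ∈ Q, pr g * q * (pr g)⁻¹ ∈ Q := by
    rintro g hg _ ⟨x, hx, rfl⟩
    exact ⟨g * x * g⁻¹, hE g hg x hx, by rw [map_mul, map_mul, map_inv]⟩
  have hheisM : heis o ≤ M := fun x hx => hNM ⟨heis_le_normalizer o hx, heis_le_specialLinear o hx⟩
  letI : MulAction (heis o) Q :=
    { smul := fun g q => ⟨pr (g : GL (Fin 5) F) * q * (pr (g : GL (Fin 5) F))⁻¹, hQn _ (hheisM g.2) _ q.2⟩
      one_smul := fun q => Subtype.ext (by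
        show pr ((1 : heis o) : GL (Fin 5) F) * q * (pr ((1 : heis o) : GL (Fin 5) F))⁻¹ = (q : _)
        simp)
      mul_smul := fun g g' q => Subtype.ext (by
        show pr ((g * g' : heis o) : GL (Fin 5) F) * q * (pr ((g * g' : heis o) : GL (Fin 5) F))⁻¹ =
          pr (g : GL (Fin 5) F) * (pr (g' : GL (Fin 5) F) * q * (pr (g' : GL (Fin 5) F))⁻¹) *
            (pr (g : GL (Fin 5) F))⁻¹
        rw [Subgroup.coe_mul, map_mul]
        group) }
  have hsmul : ∀ (g : heis o) (q : Q), ((g • q : Q) : GL (Fin 5) F ⧸ Subgroup.center (GL (Fin 5) F)) =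
      pr (g : GL (Fin 5) F) * q * (pr (g : GL (Fin 5) F))⁻¹ := fun g q => rfl
  have hp : IsPGroup 5 (heis o) := fun g => ⟨1, Subtype.ext (by
    obtain ⟨k, a, b, hg⟩ := g.2
    rw [pow_one, SubmonoidClass.coe_pow, weylGL_pow_five o a b _ k hg, Subgroup.coe_one])⟩
  obtain ⟨x₀, hx₀, hx₀'⟩ := hEns
  have hdvd : 5 ∣ Nat.card Q := by
    have h5 : orderOf (⟨pr x₀, x₀, hx₀, rfl⟩ : Q) = 5 := orderOf_eq_prime
      (Subtype.ext (by simpa using hQe _ ⟨x₀, hx₀, rfl⟩))
      (fun h => hx₀' (pr_eq_one.1 (by simpa using congrArg Subtype.val h)))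
    exact (dvd_of_eq h5.symm).trans (orderOf_dvd_natCard _)
  obtain ⟨⟨q, hq⟩, hfix, hq1⟩ := hp.exists_fixed_point_of_prime_dvd_card_of_fixed_point Q hdvd
    (a := 1) (fun g => Subtype.ext (by rw [hsmul]; simp))
  obtain ⟨y, hy, rfl⟩ := hq
  obtain ⟨c, a, b, hyw⟩ := eig_weyl o (y := y) fun a b => mul_inv_eq_iff_eq_mul.1
    (congrArg Subtype.val (hfix ⟨weylGL o a b, weylGL_mem o a b⟩))
  have hab : ¬ (a = 0 ∧ b = 0) := fun h => hq1 (Subtype.ext (by
    rw [Subgroup.coe_one]
    exact (pr_eq_one.2 ⟨c, by rw [hyw, h.1, h.2, weyl_zero]⟩).symm))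
  have hmem : pr (weylGL o a b) ∈ Q := by
    have : pr y = pr (weylGL o a b) := pr_eq.2 ⟨c, by rw [weylGL_val, hyw]⟩
    exact this ▸ ⟨y, hy, rfl⟩
  have hconj : ∀ {g : GL (Fin 5) F} (_ : g ∈ heisNormalizer o) {a b a' b' k : Fin 5},
      g.1 * weyl o a b = o.e k • (weyl o a' b' * g.1) → pr (weylGL o a b) ∈ Q →
        pr (weylGL o a' b') ∈ Q := by
    intro g hg a b a' b' k h hm
    have h' := hQn g (hNM hg) _ hm
    rwa [← map_inv, ← map_mul, ← map_mul,
      show pr (g * weylGL o a b * g⁻¹) = pr (weylGL o a' b') from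
        pr_eq.2 ⟨o.e k, by
          rw [Units.val_mul, Units.val_mul, weylGL_val, weylGL_val, h, smul_mul_assoc,
            Units.mul_inv_cancel_right]⟩] at h'
  have hall := orbit_all (T := fun a b => pr (weylGL o a b) ∈ Q)
    (fun a b h => hconj (chirp_mem' o) (chirp_weyl o a b) h)
    (fun a b h => hconj (four_mem' o) (four_weyl o a b) h) hab hmem
  have hallQ : ∀ a b, pr (weylGL o a b) ∈ Q := fun a b => by
    by_cases h0 : a = 0 ∧ b = 0
    · rw [pr_eq_one.2 ⟨1, by rw [weylGL_val, h0.1, h0.2, weyl_zero, one_smul]⟩]; exact Q.one_mem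
    · exact hall a b h0
  have hQc : ∀ a ∈ Q, ∀ b ∈ Q, a * b = b * a := by
    rintro _ ⟨x, hx, rfl⟩ _ ⟨y, hy, rfl⟩
    exact hEc x hx y hy
  intro g hg
  refine mem_normalizer_of_weyl o fun a b => ?_
  obtain ⟨x, hx, hxe⟩ := hQn g hg _ (hallQ a b)
  obtain ⟨d, a', b', hd⟩ := eig_weyl o (y := x) fun p q => hQc _ (hallQ p q) _ ⟨x, hx, rfl⟩
  obtain ⟨e, he⟩ := pr_eq.1 (show pr (g * weylGL o a b * g⁻¹) = pr x by
    rw [hxe, map_mul, map_mul, map_inv])
  rw [hd, smul_smul] at he
  have h5 : (e * d) ^ 5 = 1 := by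
    have hW5 : ∀ a b, weylGL o a b ^ 5 = 1 := fun a b =>
      weylGL_pow_five o a b _ 0 (by rw [o.e_zero, one_smul, weylGL_val])
    have h := congrArg (fun X : M5 F => X ^ 5) he
    simp only [← Units.val_pow_eq_pow_val, conj_pow, hW5, mul_one, mul_inv_cancel, smul_pow,
      Units.val_one] at h
    rw [← weylGL_val o a' b', ← Units.val_pow_eq_pow_val, hW5, Units.val_one] at h
    simpa using (congrFun (congrFun h 0) 0).symm
  have hprim : IsPrimitiveRoot o.w 5 := by
    rw [← orderOf_eq_prime o.pow_five o.ne_one]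
    exact IsPrimitiveRoot.orderOf _
  obtain ⟨i, hi, hie⟩ := hprim.eq_pow_of_pow_eq_one h5
  refine ⟨⟨i, hi⟩, a', b', ?_⟩
  rw [Units.val_mul, Units.val_mul, weylGL_val] at he
  rw [show o.e ⟨i, hi⟩ = e * d from hie, ← smul_mul_assoc, ← he, Units.inv_mul_cancel_right]

end Normalised

end CfsgLib.C6Five
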