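import Cfsg.Agent.C6Five.Centralizer
import Cfsg.Agent.C6Five.Span
import Cfsg.Agent.MaxSub.Transvection

/-!
# A transvection on the minus space generates the special linear group

Its conjugates under the monomials and the dilation give all elementary root groups.
-/

set_option autoImplicit false
set_option linter.unusedSectionVars false

namespace CfsgLib.C6Five

open Matrix Cfsg.Geo CfsgLib.MaxSub

variable {F : Type*} [Field F] (o : Root5 F)

/-- A coordinate vector. -/
def bv (F : Type*) [Field F] (i : Fin 5) : Fin 5 → F := Pi.single i 1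

theorem weyl_mulVec (k b : Fin 5) (v : Fin 5 → F) :
    weyl o k b *ᵥ v = fun i => o.e (k * i) * v (i - b) := by
  funext i
  simp only [mulVec, dotProduct, weyl_apply, ite_mul, zero_mul]
  rw [Finset.sum_eq_single (i - b) (fun j _ hj => if_neg fun h => hj (by rw [← h]; abel))
    (by simp), if_pos (by abel)]

theorem vecMul_weyl_inv (k b : Fin 5) (a : Fin 5 → F) :
    a ᵥ* ((weylGL o k b)⁻¹ : GL (Fin 5) F).1 = fun i => o.e (-(k * i)) * a (i - b) := by
  have h : ∀ k b i : Fin 5, -(k * b) + -k * (i + -b) = -(k * i) := by decide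
  funext i
  show (a ᵥ* (o.e (-(k * b)) • weyl o (-k) (-b))) i = _
  simp only [vecMul, dotProduct, Matrix.smul_apply, smul_eq_mul, weyl_apply, mul_ite, mul_zero]
  rw [Finset.sum_eq_single (i + -b) (fun j _ hj => if_neg fun h' => hj (by rw [← h']; abel))
    (by simp), if_pos (by abel), ← o.e_add, h, ← sub_eq_add_neg, mul_comm]

variable [Finite F] {M : Subgroup (GL (Fin 5) F)}

theorem rootIn_weyl (hN : heisNormalizer o ≤ M) {v a : Fin 5 → F} (h : RootIn M v a) (k b : Fin 5) :
    RootIn M (fun i => o.e (k * i) * v (i - b)) (fun i => o.e (-(k * i)) * a (i - b)) := by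
  have h' := h.conj (hN (weyl_mem' o k b))
  rwa [weylGL_val, weyl_mulVec, vecMul_weyl_inv] at h'

/-- **A transvection on the minus space gives the special linear group.** -/
theorem specialLinear_le_of_transvection [Fintype F] {p : ℕ} [Fact p.Prime] (hF : Fintype.card F = p)
    (hN : heisNormalizer o ≤ M) {a : F} (ha : a ≠ 0)
    (h : Blk (M.map (toB o).toMonoidHom) 1 !![1, a; 0, 1]) : specialLinear (Fin 5) F ≤ M := by
  obtain ⟨_, ⟨g, hg, rfl⟩, hval⟩ := h
  have h2 := o.two
  set s1 : Fin 5 → F := bv F 1 - bv F 4 with hs1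
  set s2 : Fin 5 → F := bv F 2 - bv F 3 with hs2
  have hdot : s2 ⬝ᵥ s1 = 0 := by simp [hs1, hs2, bv, dotProduct, Fin.sum_univ_five, Pi.single_apply]
  have hgv : g = tv ((a / 2) • s1) s2 := by
    refine (toB o).injective (Units.ext ?_)
    rw [show (toB o g).1 = _ from hval, toB_val, tv_coe (by rw [dotProduct_smul, hdot, smul_zero]),
      Matrix.mul_add, Matrix.add_mul, Matrix.mul_one, baseV_mul_baseU o.two, Matrix.mul_vecMulVec,
      Matrix.vecMulVec_mul]
    have h22 : (2⁻¹ : F) + 2⁻¹ = 1 := by rw [← two_mul, mul_inv_cancel₀ h2]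
    ext i j
    rcases i with i | i <;> rcases j with j | j <;> fin_cases i <;> fin_cases j <;>
      simp [hs1, hs2, bv, baseU, baseV, vecMulVec, mulVec, vecMul, dotProduct, Fin.sum_univ_five,
        Pi.single_apply] <;>
      grind
  have hroot : RootIn M s1 s2 := by
    refine ⟨hdot, fun d => ?_⟩
    obtain ⟨n, hn⟩ := exists_natCast_eq hF (d / (a / 2))
    have hm : ∀ n : ℕ, tv ((n : F) • ((a / 2) • s1)) s2 ∈ M := by
      intro n
      induction n with
      | zero => simp [tv_zero_left]
      | succ n ih =>
        rw [Nat.cast_succ, add_smul, one_smul]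
        exact tv_mem_add_left (by simp [dotProduct_smul, hdot]) (by simp [dotProduct_smul, hdot]) ih
          (hgv ▸ hg)
    have := hm n
    rwa [hn, smul_smul, div_mul_cancel₀ _ (div_ne_zero ha h2)] at this
  have hroot' : RootIn M s2 s1 := by
    have h' := (hroot.smul_left (-1)).smul_right 1
    have hd := h'.conj (hN (dil_mem' o))
    convert hd using 1
    · funext i
      show _ = (mono (fun j => 2 * j) (fun _ => (-1 : F)) *ᵥ ((-1 : F) • s1)) i
      fin_cases i <;>
        simp (config := { decide := true }) [hs1, hs2, bv, mono, mulVec, dotProduct, Fin.sum_univ_five,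
          Pi.single_apply]
    · funext i
      show _ = (((1 : F) • s2) ᵥ* mono (fun j => 3 * j) (fun _ => (-1 : F))) i
      fin_cases i <;>
        simp (config := { decide := true }) [hs1, hs2, bv, mono, vecMul, dotProduct, Fin.sum_univ_five,
          Pi.single_apply]
  -- more centres for the first axis
  have hA : ∀ k : Fin 5, RootIn M (fun i => o.e (k * i) * s2 (i - 3)) s2 := fun k => by
    have hr := rootIn_weyl o hN hroot' k 3
    refine hroot.rule_axis hr.1 hr.mem ?_ ?_
    · simp (config := { decide := true }) [hs1, hs2, bv, dotProduct, Fin.sum_univ_five, Pi.single_apply]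
    · simp (config := { decide := true }) [hs1, hs2, bv, dotProduct, Fin.sum_univ_five, Pi.single_apply,
        o.e_ne_zero]
  have hB : RootIn M (fun i => o.e (0 * i) * s2 (i - 2)) s2 := by
    have hr := rootIn_weyl o hN hroot' 0 2
    refine hroot.rule_axis hr.1 hr.mem ?_ ?_
    · simp (config := { decide := true }) [hs1, hs2, bv, dotProduct, Fin.sum_univ_five, Pi.single_apply]
    · simp (config := { decide := true }) [hs1, hs2, bv, dotProduct, Fin.sum_univ_five, Pi.single_apply,
        o.e_zero]
  have hw : o.e 1 - 1 ≠ 0 := sub_ne_zero.2 fun h => absurd (o.e_eq_one h) (by decide)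
  have r1 : RootIn M (bv F 1) s2 := by
    have hc := ((hA 0).add_left ((hA 1).smul_left (-1))).smul_left (o.e 1 - 1)⁻¹
    convert hc using 1
    funext i
    fin_cases i <;>
      simp (config := { decide := true }) [hs2, bv, Pi.single_apply, o.e_zero] <;> field_simp <;> ring
  have r0 : RootIn M (bv F 0) s2 := by
    have hc := (hA 0).add_left r1
    convert hc using 1
    funext i
    fin_cases i <;> simp (config := { decide := true }) [hs2, bv, Pi.single_apply, o.e_zero]
  have r4 : RootIn M (bv F 4) s2 := by
    have hc := hB.add_left r0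
    convert hc using 1
    funext i
    fin_cases i <;> simp (config := { decide := true }) [hs2, bv, Pi.single_apply, o.e_zero]
  -- separate the axes
  have haxes : ∀ i : Fin 5, RootIn M (bv F i) s2 → RootIn M (bv F i) (bv F 2) ∧ RootIn M (bv F i) (bv F 3) := by
    intro i hi
    have hr : RootIn M (bv F i) (fun j => o.e (-(1 * j)) * s2 j) := by
      have hr := (rootIn_weyl o hN hi 1 0).smul_left (o.e (-(1 * i)))
      simp only [sub_zero] at hr
      convert hr using 1
      funext j
      rcases eq_or_ne j i with rfl | hne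
      · simp [bv, ← o.e_add, o.e_zero]
      · simp [bv, hne]
    have h3 : RootIn M (bv F i) (bv F 3) := by
      have hc := ((hr.smul_right (o.e 2)).add_right (hi.smul_right (-1))).smul_right (1 - o.e 4)⁻¹
      have h4 : (1 : F) - o.e 4 ≠ 0 := sub_ne_zero.2 fun h => absurd (o.e_eq_one h.symm) (by decide)
      convert hc using 1
      funext j
      fin_cases j <;>
        simp (config := { decide := true }) [hs2, bv, Pi.single_apply, ← o.e_add, o.e_zero] <;>
        field_simp <;> simp only [show ((2 : Fin 5) + -3) = 4 by decide] <;> ring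
    refine ⟨?_, h3⟩
    have hc := hi.add_right h3
    rwa [hs2, sub_add_cancel] at hc
  have hall : ∀ i j : Fin 5, i ≠ j → RootIn M (bv F i) (bv F j) := by
    have hcov : ∀ i j : Fin 5, i ≠ j → ∃ b : Fin 5,
        (i - b = 0 ∨ i - b = 1 ∨ i - b = 4) ∧ (j - b = 2 ∨ j - b = 3) := by decide
    intro i j hij
    obtain ⟨b, hi, hj⟩ := hcov i j hij
    have hbase : RootIn M (bv F (i - b)) (bv F (j - b)) := by
      rcases hi with e | e | e <;> rw [e]
      · rcases hj with e | e <;> rw [e]
        exacts [(haxes 0 r0).1, (haxes 0 r0).2]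
      · rcases hj with e | e <;> rw [e]
        exacts [(haxes 1 r1).1, (haxes 1 r1).2]
      · rcases hj with e | e <;> rw [e]
        exacts [(haxes 4 r4).1, (haxes 4 r4).2]
    have hr := rootIn_weyl o hN hbase 0 b
    convert hr using 1 <;> funext l <;> simp [bv, Pi.single_apply, o.e_zero, sub_left_inj]
  have hfull : FullAxis M (bv F 0) := by
    refine fullAxis_of_centres fun v hv => ?_
    have hv0 : v 0 = 0 := by simpa [bv] using hv
    rw [show v = v 1 • bv F 1 + v 2 • bv F 2 + v 3 • bv F 3 + v 4 • bv F 4 by
      funext i; fin_cases i <;> simp (config := { decide := true }) [bv, Pi.single_apply, hv0]]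
    exact add_mem (add_mem (add_mem (Submodule.smul_mem _ _ (hall 1 0 (by decide)))
      (Submodule.smul_mem _ _ (hall 2 0 (by decide)))) (Submodule.smul_mem _ _ (hall 3 0 (by decide))))
      (Submodule.smul_mem _ _ (hall 4 0 (by decide)))
  refine specialLinear_le_of_fullAxis (fun W hW => ?_) (by simp [bv]) hfull
  by_contra hcon
  push Not at hcon
  obtain ⟨w, hw', hw0⟩ := Submodule.exists_mem_ne_zero_of_ne_bot hcon.1
  refine hcon.2 (Submodule.eq_top_iff'.mpr fun v => ?_)
  obtain ⟨j, hj⟩ := Function.ne_iff.1 hw0
  have step : ∀ {u : Fin 5 → F} {i j : Fin 5}, u ∈ W → u j ≠ 0 → i ≠ j → bv F i ∈ W := by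
    intro u i j hu hne hij
    have hr := hall i j hij
    have h' := hW _ hr.mem u hu
    rw [tv_mulVec hr.1] at h'
    have h'' := W.smul_mem (u j)⁻¹ (W.sub_mem h' hu)
    rwa [add_sub_cancel_left, show bv F j ⬝ᵥ u = u j by simp [bv], inv_smul_smul₀ hne] at h''
  have hev : ∀ i, bv F i ∈ W := by
    intro i
    rcases eq_or_ne i j with rfl | hne
    · obtain ⟨l, hl⟩ := exists_ne i
      exact step (step hw' hj hl) (by simp [bv]) hl.symm
    · exact step hw' hj hne
  rw [show v = ∑ i, v i • bv F i from (by
    funext i; simp [bv, Pi.single_apply])]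
  exact W.sum_mem fun i _ => W.smul_mem _ (hev i)

end CfsgLib.C6Five
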