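import Cfsg.Agent.C6Five.Dickson
import Cfsg.Agent.S0215
import Cfsg.Agent.PLocal.Cores

/-!
# The central involution is isolated

Otherwise an element of the centraliser of a conjugate would act on a minus space with two eigenvalues
whose thirtieth powers differ, or an involution on the plus space would be isolated among its conjugates,
which Glauberman's theorem and the three-dimensional action of `A₅` forbid.
-/

set_option autoImplicit false
set_option linter.unusedSectionVars false
set_option linter.style.haveILetI false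

namespace CfsgLib.C6Five

open Matrix

/-! ### Glauberman's theorem for matrix groups -/

/-- An involution of a finite group commuting with none of its other conjugates is central modulo a
subgroup of odd order, stable under every automorphism. -/
theorem exists_odd_of_isolated {G : Type*} [Group G] [Finite G] {u : G} (hu : u * u = 1) (hu1 : u ≠ 1)
    (hiso : ∀ g : G, u * (g * u * g⁻¹) = g * u * g⁻¹ * u → g * u * g⁻¹ = u) :
    ∀ g : G, u * g * u⁻¹ * g⁻¹ ∈ Cfsg.pPrimeCore 2 G := by
  classical
  haveI : Fact (Nat.Prime 2) := ⟨Nat.prime_two⟩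
  have hou : orderOf u = 2 := orderOf_eq_prime (by rw [pow_two, hu]) hu1
  have hpz : IsPGroup 2 (Subgroup.zpowers u) :=
    IsPGroup.of_card (n := 1) (by rw [Nat.card_zpowers, hou, pow_one])
  obtain ⟨P, hP⟩ := hpz.exists_le_sylow
  have huP : u ∈ (P : Subgroup G) := hP (Subgroup.mem_zpowers u)
  have hcentral : ∀ v ∈ (P : Subgroup G), v * u = u * v := by
    set uP : (P : Subgroup G) := ⟨u, huP⟩
    set C := Subgroup.centralizer ({uP} : Set (P : Subgroup G))
    have htop : C = ⊤ := by
      by_contra hne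
      haveI := P.isPGroup'.isNilpotent
      obtain ⟨n, hn, hnC⟩ := SetLike.exists_of_lt
        (Group.normalizerCondition_of_isNilpotent C (lt_top_iff_ne_top.2 hne))
      have huC : uP ∈ C := Subgroup.mem_centralizer_singleton_iff.2 rfl
      have h := Subgroup.mem_centralizer_singleton_iff.1 ((Subgroup.mem_normalizer_iff.1 hn uP).1 huC)
      have h' := hiso n (congrArg Subtype.val h.symm)
      exact hnC (Subgroup.mem_centralizer_singleton_iff.2 (Subtype.ext (mul_inv_eq_iff_eq_mul.1 h')))
    intro v hv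
    have hm : (⟨v, hv⟩ : (P : Subgroup G)) ∈ C := htop.symm.le (Subgroup.mem_top _)
    exact congrArg Subtype.val (Subgroup.mem_centralizer_singleton_iff.1 hm)
  obtain ⟨N, hNn, hNodd, hN⟩ :=
    Cfsg.Agent.S0215.result P u hou huP fun g hg => hiso g (hcentral _ hg).symm
  exact fun g => CfsgLib.PLocal.le_pPrimeCore (Nat.coprime_two_right.2 hNodd) (hN g)

/-- The odd core of a subgroup, in the whole group. -/
def coreIn {G : Type*} [Group G] (X : Subgroup G) : Subgroup G :=
  (Cfsg.pPrimeCore 2 X).map X.subtype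

theorem coreIn_le {G : Type*} [Group G] (X : Subgroup G) : coreIn X ≤ X := Subgroup.map_subtype_le _

theorem odd_coreIn {G : Type*} [Group G] [Finite G] (X : Subgroup G) : Odd (Nat.card (coreIn X)) := by
  rw [coreIn, Subgroup.card_subtype]
  exact Nat.coprime_two_right.1 (CfsgLib.PLocal.coprime_card_pPrimeCore 2 X)

theorem coreIn_conj {G : Type*} [Group G] [Finite G] {X : Subgroup G} {c : G}
    (hc : ∀ x ∈ X, c * x * c⁻¹ ∈ X) : ∀ x ∈ coreIn X, c * x * c⁻¹ ∈ coreIn X := by
  rintro _ ⟨y, hy, rfl⟩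
  let f : X →* X :=
    { toFun := fun x => ⟨c * x * c⁻¹, hc x x.2⟩
      map_one' := Subtype.ext (by simp)
      map_mul' := fun a b => Subtype.ext (by simp [mul_assoc]) }
  have hinj : Function.Injective f := fun a b h =>
    Subtype.ext (mul_left_cancel (mul_right_cancel (congrArg Subtype.val h)))
  haveI := CfsgLib.PLocal.pPrimeCoreCharacteristic 2 X
  have he := Subgroup.characteristic_iff_map_eq.1 (inferInstance : (Cfsg.pPrimeCore 2 X).Characteristic)
    (MulEquiv.ofBijective f (Finite.injective_iff_bijective.1 hinj))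
  exact ⟨f y, he ▸ Subgroup.mem_map_of_mem _ hy, rfl⟩

theorem commutator_mem_coreIn {G : Type*} [Group G] [Finite G] {X : Subgroup G} {u : G} (huX : u ∈ X)
    (hu : u * u = 1) (hu1 : u ≠ 1)
    (hiso : ∀ g ∈ X, u * (g * u * g⁻¹) = g * u * g⁻¹ * u → g * u * g⁻¹ = u) {g : G} (hg : g ∈ X) :
    u * g * u⁻¹ * g⁻¹ ∈ coreIn X := by
  have h := exists_odd_of_isolated (u := (⟨u, huX⟩ : X)) (Subtype.ext hu)
    (fun h => hu1 (congrArg Subtype.val h))
    (fun g h => Subtype.ext (hiso g g.2 (congrArg Subtype.val h))) ⟨g, hg⟩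
  exact ⟨_, h, rfl⟩

/-! ### Involutions in small dimension -/

variable {F : Type*} [Field F]

theorem inv2 {B : M2 F} (h : B * B = 1) : B = 1 ∨ B = -1 ∨ (B.det = -1 ∧ B.trace = 0) := by
  have hch : (B.trace) • B = (1 + B.det) • (1 : M2 F) := by
    have e := fun i j => congrFun (congrFun h i) j
    have e00 := e 0 0; have e01 := e 0 1; have e10 := e 1 0; have e11 := e 1 1
    simp only [Matrix.mul_apply, Fin.sum_univ_two, Matrix.one_apply, Fin.reduceEq, if_true, if_false]
      at e00 e01 e10 e11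
    ext i j
    simp only [Matrix.smul_apply, smul_eq_mul, det_fin_two, trace_fin_two, Matrix.one_apply]
    fin_cases i <;> fin_cases j <;>
      simp only [Fin.zero_eta, Fin.mk_one, Fin.reduceEq, if_true, if_false, Fin.isValue]
    · linear_combination e00
    · linear_combination e01
    · linear_combination e10
    · linear_combination e11
  by_cases ht : B.trace = 0
  · rw [ht, zero_smul] at hch
    refine Or.inr (Or.inr ⟨?_, ht⟩)
    have := congrFun (congrFun hch 0) 0
    simp at this
    linear_combination -this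
  · have hB : B = ((1 + B.det) / B.trace) • (1 : M2 F) := by
      rw [div_eq_inv_mul, ← smul_smul, ← hch, inv_smul_smul₀ ht]
    set k := (1 + B.det) / B.trace
    have hk := congrFun (congrFun h 0) 0
    rw [hB] at hk
    simp at hk
    rcases mul_self_eq_one_iff.1 hk with hk | hk
    · exact Or.inl (by rw [hB, hk, one_smul])
    · exact Or.inr (Or.inl (by rw [hB, hk, neg_one_smul]))

theorem inv3 {A : M3 F} (h : A * A = 1) (hd : A.det = 1) : A = 1 ∨ A.trace = -1 := by
  have hch := A.aeval_self_charpoly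
  have hdeg : A.charpoly.natDegree = 3 := by rw [charpoly_natDegree_eq_dim, Fintype.card_fin]
  rw [Polynomial.aeval_eq_sum_range, hdeg] at hch
  have h3 : A.charpoly.coeff 3 = 1 := by
    have := A.charpoly_monic.coeff_natDegree
    rwa [hdeg] at this
  simp only [Finset.sum_range_succ, Finset.sum_range_zero, zero_add, pow_zero, pow_one, h3, one_smul,
    show A ^ 2 = 1 by rw [pow_two, h], show A ^ 3 = A by rw [pow_succ, pow_two, h, one_mul]] at hch
  have hc0 : A.det = -A.charpoly.coeff 0 := by
    rw [det_eq_sign_charpoly_coeff, Fintype.card_fin]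
    ring
  have hc2 : A.trace = -A.charpoly.coeff 2 := by
    rw [trace_eq_neg_charpoly_coeff, Fintype.card_fin]
  set c0 := A.charpoly.coeff 0
  set c1 := A.charpoly.coeff 1
  set c2 := A.charpoly.coeff 2
  have hkey : (c1 + 1) • A = (-(c0 + c2)) • (1 : M3 F) := by
    rw [neg_smul, eq_neg_iff_add_eq_zero, ← hch]
    simp only [add_smul, one_smul]
    abel
  by_cases h1 : c1 + 1 = 0
  · rw [h1, zero_smul] at hkey
    have := congrFun (congrFun hkey 0) 0
    simp at this
    exact Or.inr (by linear_combination hc2 - this + hc0 - hd)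
  · have hA : A = (-(c0 + c2) / (c1 + 1)) • (1 : M3 F) := by
      rw [div_eq_inv_mul, ← smul_smul, ← hkey, inv_smul_smul₀ h1]
    set k := -(c0 + c2) / (c1 + 1)
    have hk := congrFun (congrFun h 0) 0
    rw [hA] at hk hd
    simp at hk hd
    have : k = 1 := by linear_combination hd - k * hk
    exact Or.inl (by rw [hA, this, one_smul])

/-! ### The blocks of a commuting element -/

variable (o : Root5 F) {X : Subgroup (GL Ix F)}

/-- The central involution in the adapted basis. -/
def zB : GL Ix F := toB o (cent F)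

theorem zB_val : (zB o).1 = fromBlocks 1 0 0 (-1) := toB_cent o

theorem zB_sq : zB o * zB o = 1 := Units.ext (by rw [Units.val_mul, zB_val]; simp [fromBlocks_multiply])

theorem eq_zero_of_neg (o : Root5 F) {a : F} (h : a = -a) : a = 0 :=
  (mul_eq_zero.1 (show 2 * a = 0 by linear_combination h)).resolve_left o.two

theorem blk_of_comm {t : GL Ix F} (ht : t ∈ X) (h : t * zB o = zB o * t) :
    ∃ A B, t.1 = fromBlocks A 0 0 B ∧ Blk X A B := by
  refine ⟨t.1.toBlocks₁₁, t.1.toBlocks₂₂, ?_, _, ht, ?_⟩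
  all_goals
    have h' := congrArg Units.val h
    rw [Units.val_mul, Units.val_mul, zB_val, ← fromBlocks_toBlocks t.1, fromBlocks_multiply,
      fromBlocks_multiply, fromBlocks_inj] at h'
    obtain ⟨-, h12, h21, -⟩ := h'
    simp at h12 h21
    have e12 : t.1.toBlocks₁₂ = 0 := Matrix.ext fun i j =>
      eq_zero_of_neg o (congrFun (congrFun h12 i) j).symm
    have e21 : t.1.toBlocks₂₁ = 0 := Matrix.ext fun i j =>
      eq_zero_of_neg o (congrFun (congrFun h21 i) j)
    conv_lhs => rw [← fromBlocks_toBlocks t.1, e12, e21]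

/-- A vector negated by the central involution lies in the minus space. -/
theorem minus_vec {u : Ix → F} (h : (zB o).1 *ᵥ u = -u) : u = Sum.elim (0 : Fin 3 → F) (u ∘ Sum.inr) := by
  funext i
  rcases i with i | i
  · have := congrFun h (Sum.inl i)
    rw [zB_val, fromBlocks_mulVec] at this
    simp at this
    simpa using eq_zero_of_neg o this
  · rfl

variable [Finite F] (S : Setup o X)
include S

/-- Eigenvalues of an element of a conjugate centraliser on the minus space have the same thirtieth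
power. -/
theorem pow30_eq (Fc : Facts X) {x g y : GL Ix F} (hx : x ∈ X) (hy : x⁻¹ * zB o * x = y) (hg : g ∈ X)
    (hgy : g * y = y * g) {v w : Ix → F} {a b : F} (hv0 : v ≠ 0) (hw0 : w ≠ 0)
    (hv : y.1 *ᵥ v = -v) (hw : y.1 *ᵥ w = -w)
    (gv : g.1 *ᵥ v = a • v) (gw : g.1 *ᵥ w = b • w) : a ^ 30 = b ^ 30 := by
  subst hy
  obtain ⟨A, B, hg', hblk⟩ := blk_of_comm o (t := x * g * x⁻¹) (X.mul_mem (X.mul_mem hx hg) (X.inv_mem hx))
    (by
      calc x * g * x⁻¹ * zB o = x * (g * (x⁻¹ * zB o * x)) * x⁻¹ := by group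
        _ = zB o * (x * g * x⁻¹) := by rw [hgy]; group)
  obtain ⟨k, hk⟩ := Fc.pow30 hblk
  have key : ∀ (v : Ix → F) (a : F), v ≠ 0 → (x⁻¹ * zB o * x).1 *ᵥ v = -v → g.1 *ᵥ v = a • v →
      a ^ 30 = k := by
    intro v a hv0 hv gv
    have hz : (zB o).1 *ᵥ (x.1 *ᵥ v) = -(x.1 *ᵥ v) := by
      rw [← mulVec_neg, ← hv, mulVec_mulVec, mulVec_mulVec, ← Units.val_mul, ← Units.val_mul]
      congr 2
      group
    have hxv := minus_vec o hz
    set r := (x.1 *ᵥ v) ∘ Sum.inr
    have hr : B *ᵥ r = a • r := by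
      have h : (x * g * x⁻¹).1 *ᵥ (x.1 *ᵥ v) = a • (x.1 *ᵥ v) := by
        rw [← mulVec_smul, ← gv, mulVec_mulVec, mulVec_mulVec, ← Units.val_mul, ← Units.val_mul]
        congr 2
        group
      rw [hxv, hg', fromBlocks_mulVec] at h
      funext i
      simpa using congrFun h (Sum.inr i)
    have hr0 : r ≠ 0 := fun h0 => hv0 (mulVec_injective_iff_isUnit.mpr x.isUnit (by
      show x.1 *ᵥ v = x.1 *ᵥ 0
      rw [mulVec_zero, hxv, h0]
      funext i
      rcases i with i | i <;> rfl))
    have hpow : ∀ n : ℕ, B ^ n *ᵥ r = a ^ n • r := by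
      intro n
      induction n with
      | zero => simp
      | succ n ih => rw [pow_succ', ← mulVec_mulVec, ih, mulVec_smul, hr, smul_smul, ← pow_succ]
    have := hpow 30
    rw [hk, smul_mulVec, one_mulVec] at this
    exact (smul_left_injective F hr0 this).symm
  rw [key v a hv0 hv gv, key w b hw0 hw gw]

/-- Transfer to the centraliser of a conjugate of the kernel on the plus space. -/
theorem lift_at (Fc : Facts X) (hK : ¬ Faith X) {x t y : GL Ix F} (hx : x ∈ X) (hy : x⁻¹ * zB o * x = y)
    (ht : t ∈ X) (htt : t * t = 1) (hty : t * y = y * t) {v w : Ix → F} (hv0 : v ≠ 0) (hw0 : w ≠ 0)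
    (hv : y.1 *ᵥ v = -v) (hw : y.1 *ᵥ w = -w)
    (tv : t.1 *ᵥ v = v) (tw : t.1 *ᵥ w = -w) :
    ∃ g ∈ X, ∃ c : F, c ^ 2 = -1 ∧
      (2 : F) • g.1 = (1 + y.1) + c • (t.1 * (1 - y.1)) := by
  subst hy
  obtain ⟨A, B, ht', hblk⟩ := blk_of_comm o (t := x * t * x⁻¹) (X.mul_mem (X.mul_mem hx ht) (X.inv_mem hx))
    (by
      calc x * t * x⁻¹ * zB o = x * (t * (x⁻¹ * zB o * x)) * x⁻¹ := by group
        _ = zB o * (x * t * x⁻¹) := by rw [hty]; group)
  have hBB : B * B = 1 := by
    have h : (x * t * x⁻¹).1 * (x * t * x⁻¹).1 = 1 := by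
      rw [← Units.val_mul, show x * t * x⁻¹ * (x * t * x⁻¹) = x * (t * t) * x⁻¹ by group, htt]
      simp
    rw [ht', fromBlocks_multiply, ← fromBlocks_one, fromBlocks_inj] at h
    simpa using h.2.2.2
  have key : ∀ (v : Ix → F) (s : F), v ≠ 0 → (x⁻¹ * zB o * x).1 *ᵥ v = -v → t.1 *ᵥ v = s • v →
      ∃ r : Fin 2 → F, r ≠ 0 ∧ B *ᵥ r = s • r := by
    intro v s hv0 hv tv
    have hz : (zB o).1 *ᵥ (x.1 *ᵥ v) = -(x.1 *ᵥ v) := by
      rw [← mulVec_neg, ← hv, mulVec_mulVec, mulVec_mulVec, ← Units.val_mul, ← Units.val_mul]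
      congr 2
      group
    have hxv := minus_vec o hz
    refine ⟨(x.1 *ᵥ v) ∘ Sum.inr, fun h0 => hv0 (mulVec_injective_iff_isUnit.mpr x.isUnit (by
      show x.1 *ᵥ v = x.1 *ᵥ 0
      rw [mulVec_zero, hxv, h0]
      funext i
      rcases i with i | i <;> rfl)), ?_⟩
    have h : (x * t * x⁻¹).1 *ᵥ (x.1 *ᵥ v) = s • (x.1 *ᵥ v) := by
      rw [← mulVec_smul, ← tv, mulVec_mulVec, mulVec_mulVec, ← Units.val_mul, ← Units.val_mul]
      congr 2
      group
    rw [hxv, ht', fromBlocks_mulVec] at h
    funext i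
    simpa using congrFun h (Sum.inr i)
  obtain ⟨r₁, hr₁, e₁⟩ := key v 1 hv0 hv (by rw [tv, one_smul])
  obtain ⟨r₂, hr₂, e₂⟩ := key w (-1) hw0 hw (by rw [tw, neg_one_smul])
  have hdB : B.det = -1 := by
    rcases inv2 hBB with h | h | h
    · refine absurd (funext fun i => eq_zero_of_neg o ?_) hr₂
      rw [h, one_mulVec, neg_one_smul] at e₂
      exact congrFun e₂ i
    · refine absurd (funext fun i => eq_zero_of_neg o ?_) hr₁
      rw [h, neg_mulVec, one_mulVec, one_smul] at e₁
      exact (congrFun e₁ i).symm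
    · exact h.1
  obtain ⟨B'', c, hB'', hd, hc⟩ := Fc.lift1 hK hblk
  have hc2 : c ^ 2 = -1 := by
    rw [← hdB, hc, det_smul, hd, Fintype.card_fin, mul_one]
  have hc0 : c ≠ 0 := fun h0 => by simp [h0] at hc2
  obtain ⟨g, hg, hg'⟩ := hB''
  refine ⟨x⁻¹ * g * x, X.mul_mem (X.mul_mem (X.inv_mem hx) hg) hx, c⁻¹,
    by rw [inv_pow, hc2, inv_neg, inv_one], ?_⟩
  have h2 : (2 : F) • g.1 = (1 + (zB o).1) + c⁻¹ • ((x * t * x⁻¹).1 * (1 - (zB o).1)) := by
    rw [hg', ht', zB_val, ← fromBlocks_one, sub_eq_add_neg, fromBlocks_neg, fromBlocks_add, fromBlocks_add,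
      fromBlocks_multiply, fromBlocks_smul, fromBlocks_smul, fromBlocks_add]
    congr 1
    · simp [two_smul]
    · simp
    · simp
    · rw [hc]
      simp [smul_smul, two_smul, ← add_assoc, mul_add, inv_mul_cancel₀ hc0]
  calc (2 : F) • (x⁻¹ * g * x).1 = (x⁻¹).1 * ((2 : F) • g.1) * x.1 := by
        rw [Units.val_mul, Units.val_mul, mul_smul_comm, smul_mul_assoc]
    _ = _ := by
        rw [h2]
        simp only [mul_add, add_mul, mul_smul_comm, smul_mul_assoc, mul_sub, sub_mul, mul_one, one_mul,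
          Units.val_mul, Units.inv_mul]
        simp only [mul_assoc, Units.inv_mul_cancel_left, Units.inv_mul, mul_one]

/-- The three generators act on the plus space inside the kernel. -/
theorem mem_plusK_of_facts (Fc : Facts X) (hK : ¬ Faith X) {g : GL (Fin 3) F} {B : M2 F}
    (h : Blk X g.1 B) (hd : B.det = 1) : g ∈ plusK X := by
  obtain ⟨B'', c, hB'', hd', hc⟩ := Fc.lift1 hK h
  obtain ⟨A', B', h', hA, -, hB, -⟩ := hB''.inv
  rw [one_mul] at hA
  subst hA
  have hp := h.mul h'
  rw [mul_one, hc, smul_mul_assoc, hB] at hp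
  have hc2 : c ^ 2 = 1 := by
    rw [← hd, hc, det_smul, hd', Fintype.card_fin, mul_one]
  rcases sq_eq_one_iff.1 hc2 with rfl | rfl
  · rwa [one_smul] at hp
  · have := S.neg o hp
    rwa [neg_smul, neg_neg, one_smul] at this

/-- An involution of the kernel on the plus space which is conjugate to the central involution
commutes with none of its other conjugates there. -/
theorem plus_isolated (Fc : Facts X) (hK : ¬ Faith X) {a b : GL (Fin 3) F} (ha : a ∈ plusK X)
    (hb : b ∈ plusK X) (haa : a * a = 1) (htr : a.1.trace = -1) {x y : GL Ix F} (hx : x ∈ X)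
    (hy : x⁻¹ * zB o * x = y) (hxa : y.1 = fromBlocks a.1 0 0 1)
    (hcomm : a * (b * a * b⁻¹) = b * a * b⁻¹ * a) : b * a * b⁻¹ = a := by
  by_contra hne
  set a' := b * a * b⁻¹ with ha'def
  have ha' : a' ∈ plusK X := (plusK X).mul_mem ((plusK X).mul_mem hb ha) ((plusK X).inv_mem hb)
  obtain ⟨t, ht, htv⟩ := mem_plusK.1 ha'
  obtain ⟨β, hβ, hβv⟩ := mem_plusK.1 hb
  have hda : ∀ {c : GL (Fin 3) F}, c ∈ plusK X → c.1.det = 1 := fun hc => by
    simpa using S.blk_det o (mem_plusK.1 hc)
  have haa' : a' * a' = 1 := by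
    rw [ha'def, show b * a * b⁻¹ * (b * a * b⁻¹) = b * (a * a) * b⁻¹ by group, haa]
    group
  -- the eigenvectors
  have hA1 : a.1 * a.1 = 1 := by rw [← Units.val_mul, haa, Units.val_one]
  have hA2 : a'.1 * a'.1 = 1 := by rw [← Units.val_mul, haa', Units.val_one]
  have hA3 : a.1 * a'.1 = a'.1 * a.1 := by rw [← Units.val_mul, hcomm, Units.val_mul]
  have htr' : a'.1.trace = -1 := by
    rw [ha'def, Units.val_mul, Units.val_mul, trace_units_conj, htr]
  have htau : (a.1 * a'.1).trace = -1 := by
    refine (inv3 ?_ ?_).resolve_left fun h => hne ?_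
    · rw [mul_assoc, ← mul_assoc a'.1, ← hA3, mul_assoc, hA2, mul_one, hA1]
    · rw [det_mul, hda ha, hda ha', one_mul]
    · refine Units.ext ?_
      have := congrArg (a.1 * ·) h
      simp only [← mul_assoc, hA1, one_mul, mul_one] at this
      exact this
  have hvec : ∀ s s' : F, s * s = 1 → s' * s' = 1 → 3 - s - s' - s * s' ≠ 0 →
      ∃ e : Fin 3 → F, e ≠ 0 ∧ a.1 *ᵥ e = s • e ∧ a'.1 *ᵥ e = s' • e := by
    intro s s' hs hs' hne0
    set M : M3 F := (1 + s • a.1) * (1 + s' • a'.1) with hM
    have hMt : M.trace = 3 - s - s' - s * s' := by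
      simp only [hM, mul_add, add_mul, one_mul, mul_one, smul_mul_assoc, mul_smul_comm, smul_smul,
        trace_add, trace_smul, trace_one, htr, htr', htau, Fintype.card_fin, smul_eq_mul]
      push_cast
      ring
    obtain ⟨j, hj⟩ : ∃ j, M *ᵥ Pi.single j 1 ≠ 0 := by
      by_contra hall
      push Not at hall
      have : M = 0 := Matrix.ext_of_mulVec_single fun j => by rw [hall j, zero_mulVec]
      exact hne0 (by rw [← hMt, this, trace_zero])
    have h1 : a.1 * (1 + s • a.1) = s • (1 + s • a.1) := by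
      rw [mul_add, mul_one, mul_smul_comm, hA1, smul_add, smul_smul, hs, one_smul, add_comm]
    have h2 : a'.1 * (1 + s' • a'.1) = s' • (1 + s' • a'.1) := by
      rw [mul_add, mul_one, mul_smul_comm, hA2, smul_add, smul_smul, hs', one_smul, add_comm]
    have h3 : a'.1 * (1 + s • a.1) = (1 + s • a.1) * a'.1 := by
      rw [mul_add, add_mul, mul_one, one_mul, mul_smul_comm, smul_mul_assoc, hA3]
    refine ⟨_, hj, ?_, ?_⟩
    · rw [mulVec_mulVec, hM, ← mul_assoc, h1, smul_mul_assoc, smul_mulVec]
    · rw [mulVec_mulVec, hM, ← mul_assoc, h3, mul_assoc, h2, mul_smul_comm, smul_mulVec]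
  have h2 := o.two
  have h4 : (4 : F) ≠ 0 := by rw [show (4 : F) = 2 * 2 by norm_num]; exact mul_ne_zero h2 h2
  obtain ⟨e1, n1, p1, q1⟩ := hvec 1 (-1) (by norm_num) (by norm_num) (by ring_nf; exact h4)
  obtain ⟨e2, n2, p2, q2⟩ := hvec (-1) 1 (by norm_num) (by norm_num) (by ring_nf; exact h4)
  obtain ⟨e3, n3, p3, q3⟩ := hvec (-1) (-1) (by norm_num) (by norm_num) (by ring_nf; exact h4)
  have hpad : ∀ {A : M3 F} (e : Fin 3 → F) (s : F), A *ᵥ e = s • e →
      fromBlocks A 0 0 (1 : M2 F) *ᵥ Sum.elim e 0 = s • Sum.elim e 0 := by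
    intro A e s h
    rw [fromBlocks_mulVec]
    funext i
    rcases i with i | i
    · simpa using congrFun h i
    · simp
  have hpad0 : ∀ e : Fin 3 → F, e ≠ 0 → (Sum.elim e 0 : Ix → F) ≠ 0 := fun e he h =>
    he (funext fun i => congrFun h (Sum.inl i))
  have hyX : y ∈ X := hy ▸ X.mul_mem (X.mul_mem (X.inv_mem hx) S.z) hx
  have hty : t * y = y * t := Units.ext (by
    rw [Units.val_mul, Units.val_mul, htv, hxa, fromBlocks_multiply, fromBlocks_multiply]
    simp [hA3])
  have htt : t * t = 1 := Units.ext (by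
    rw [Units.val_mul, htv, fromBlocks_multiply, hA2]
    simp)
  have hyy : y * y = 1 := by
    rw [← hy, show x⁻¹ * zB o * x * (x⁻¹ * zB o * x) = x⁻¹ * (zB o * zB o) * x by group, zB_sq]
    group
  have ht' : (x * β⁻¹)⁻¹ * zB o * (x * β⁻¹) = t := by
    rw [show (x * β⁻¹)⁻¹ * zB o * (x * β⁻¹) = β * y * β⁻¹ by rw [← hy]; group, mul_inv_eq_iff_eq_mul]
    refine Units.ext ?_
    rw [Units.val_mul, Units.val_mul, htv, hxa, hβv, fromBlocks_multiply, fromBlocks_multiply,
      ← Units.val_mul a' b, ha'def, inv_mul_cancel_right, Units.val_mul]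
    simp
  obtain ⟨g1, hg1, c, hc, hg1v⟩ := lift_at o S Fc hK hx hy ht htt hty (hpad0 e2 n2) (hpad0 e3 n3)
    (by rw [hxa, hpad e2 (-1) p2, neg_one_smul]) (by rw [hxa, hpad e3 (-1) p3, neg_one_smul])
    (by rw [htv, hpad e2 1 q2, one_smul]) (by rw [htv, hpad e3 (-1) q3, neg_one_smul])
  obtain ⟨g2, hg2, d, hd, hg2v⟩ := lift_at o S Fc hK (X.mul_mem hx (X.inv_mem hβ)) ht' hyX hyy
    hty.symm (hpad0 e1 n1) (hpad0 e3 n3)
    (by rw [htv, hpad e1 (-1) q1, neg_one_smul]) (by rw [htv, hpad e3 (-1) q3, neg_one_smul])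
    (by rw [hxa, hpad e1 1 p1, one_smul]) (by rw [hxa, hpad e3 (-1) p3, neg_one_smul])
  have hcy : Commute y.1 t.1 := (congrArg Units.val hty).symm
  have hcg : ∀ {g : GL Ix F} {M : MB F}, (2 : F) • g.1 = M → Commute y.1 M → g * y = y * g := by
    intro g M h hM
    refine Units.ext ?_
    have h' := hM.eq
    rw [← h, mul_smul_comm, smul_mul_assoc] at h'
    exact (smul_right_injective _ h2 h').symm
  have hG : g1 * g2 * y = y * (g1 * g2) := by
    rw [mul_assoc, hcg hg2v ?_, ← mul_assoc, hcg hg1v ?_, mul_assoc]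
    · exact ((Commute.one_right _).add_right (Commute.refl _)).add_right
        ((hcy.mul_right ((Commute.one_right _).sub_right (Commute.refl _))).smul_right c)
    · exact ((Commute.one_right _).add_right hcy).add_right
        (((Commute.refl _).mul_right ((Commute.one_right _).sub_right hcy)).smul_right d)
  have hfix : ∀ {g s y' : GL Ix F} {k : F} {u : Ix → F}, (2 : F) • g.1 = (1 + y'.1) + k • (s.1 * (1 - y'.1)) →
      y'.1 *ᵥ u = u → g.1 *ᵥ u = u := by
    intro g s y' k u h hu
    refine smul_right_injective _ h2 ?_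
    show (2 : F) • (g.1 *ᵥ u) = (2 : F) • u
    rw [← smul_mulVec, h, add_mulVec, add_mulVec, one_mulVec, hu, smul_mulVec, ← mulVec_mulVec, sub_mulVec,
      one_mulVec, hu, sub_self, mulVec_zero, smul_zero, add_zero, two_smul]
  have hneg : ∀ {g s y' : GL Ix F} {k l : F} {u : Ix → F},
      (2 : F) • g.1 = (1 + y'.1) + k • (s.1 * (1 - y'.1)) →
      y'.1 *ᵥ u = -u → s.1 *ᵥ u = l • u → g.1 *ᵥ u = (k * l) • u := by
    intro g s y' k l u h hu hs
    refine smul_right_injective _ h2 ?_
    show (2 : F) • (g.1 *ᵥ u) = (2 : F) • ((k * l) • u)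
    rw [← smul_mulVec, h, add_mulVec, add_mulVec, one_mulVec, hu, smul_mulVec, ← mulVec_mulVec, sub_mulVec,
      one_mulVec, hu, sub_neg_eq_add, mulVec_add, hs, add_neg_cancel, zero_add, ← two_smul F (l • u),
      smul_smul, smul_smul, smul_smul]
    congr 1
    ring
  have h30 : c ^ 30 = (c * d) ^ 30 := pow30_eq o S Fc hx hy (X.mul_mem hg1 hg2) hG (hpad0 e2 n2) (hpad0 e3 n3)
    (by rw [hxa, hpad e2 (-1) p2, neg_one_smul]) (by rw [hxa, hpad e3 (-1) p3, neg_one_smul])
    (by
      rw [Units.val_mul, ← mulVec_mulVec, hfix hg2v (by rw [htv, hpad e2 1 q2, one_smul]),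
        hneg hg1v (l := 1) (by rw [hxa, hpad e2 (-1) p2, neg_one_smul])
          (by rw [htv, hpad e2 1 q2]), mul_one])
    (by
      rw [Units.val_mul, ← mulVec_mulVec, hneg hg2v (l := -1) (by rw [htv, hpad e3 (-1) q3, neg_one_smul])
          (by rw [hxa, hpad e3 (-1) p3]), mulVec_smul,
        hneg hg1v (l := -1) (by rw [hxa, hpad e3 (-1) p3, neg_one_smul]) (by rw [htv, hpad e3 (-1) q3]),
        smul_smul]
      congr 1
      ring)
  rw [mul_pow, show (30 : ℕ) = 2 * 15 from rfl, pow_mul c 2, pow_mul d 2, hc, hd,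
    Odd.neg_one_pow (by decide)] at h30
  exact h2 (by linear_combination -h30)

/-- No involution of the kernel on the plus space is conjugate to the central involution. -/
theorem no_plus_conjugate (Fc : Facts X) (hK : ¬ Faith X) {a : GL (Fin 3) F} (ha : a ∈ plusK X)
    (haa : a * a = 1) (htr : a.1.trace = -1) {x y : GL Ix F} (hx : x ∈ X)
    (hy : x⁻¹ * zB o * x = y) (hxa : y.1 = fromBlocks a.1 0 0 1) : False := by
  have hns : ¬ IsSc a := by
    rintro ⟨k, hk⟩
    have h1 : k * k = 1 := by
      have := congrArg Units.val haa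
      rw [Units.val_mul, hk, Units.val_one] at this
      simpa using congrFun (congrFun this 0) 0
    have h3 : k ^ 3 = 1 := by simpa [hk] using S.blk_det o (mem_plusK.1 ha)
    rw [hk] at htr
    simp at htr
    have : k = 1 := by linear_combination h3 - k * h1
    subst this
    exact o.two (mul_self_eq_zero.1 (show (2 : F) * 2 = 0 by linear_combination htr))
  have ha1 : a ≠ 1 := fun h => hns ⟨1, by rw [h, one_smul, Units.val_one]⟩
  have hO := isSc_of_odd3 o (odd_coreIn (plusK X))
    ⟨coreIn_conj (S.plusK_norm o).u, coreIn_conj (S.plusK_norm o).w, coreIn_conj (S.plusK_norm o).h⟩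
  have hcomm : ∀ g ∈ plusK X, Commute a g := by
    intro g hg
    obtain ⟨k, hk⟩ := hO _ (commutator_mem_coreIn ha haa ha1
      (fun b hb h => plus_isolated o S Fc hK ha hb haa htr hx hy hxa h) hg)
    have hag : a.1 * g.1 = k • (g.1 * a.1) := by
      have := congrArg (· * (g * a).1) hk
      simp only [← Units.val_mul, smul_mul_assoc, one_mul] at this
      rw [show a * g * a⁻¹ * g⁻¹ * (g * a) = a * g by group] at this
      simpa only [Units.val_mul] using this
    have h3 : k ^ 3 = 1 := by simpa using pow_card_of_swap hag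
    have h2 : k ^ 2 = 1 := by
      have := pow_swap' hag 2
      rw [show a.1 ^ 2 = 1 by rw [pow_two, ← Units.val_mul, haa, Units.val_one], one_mul, mul_one] at this
      exact smul_left_injective F g.ne_zero (this.symm.trans (one_smul F g.1).symm)
    have hk1 : k = 1 := by linear_combination h3 - k * h2
    rw [hk1, one_smul] at hag
    exact Units.ext hag
  have hmem : ∀ {g : GL (Fin 3) F} {B : M2 F}, Blk X g.1 B → B.det = 1 →
      ∀ y ∈ Subgroup.zpowers a, g * y * g⁻¹ ∈ Subgroup.zpowers a := by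
    intro g B h hd y hy
    obtain ⟨n, rfl⟩ := hy
    show g * a ^ n * g⁻¹ ∈ _
    rw [← conj_zpow, ← (hcomm g (mem_plusK_of_facts o S Fc hK h hd)).eq, mul_inv_cancel_right]
    exact Subgroup.zpow_mem _ (Subgroup.mem_zpowers a) n
  exact hns (isSc_of_solvable3 o
    (D := Subgroup.zpowers a) ⟨hmem (S.blk_u o) (det_u2 o), hmem (S.blk_w o) (det_w2 o), hmem (S.blk_h o) det_h2⟩
    a (Subgroup.mem_zpowers a))

/-- **The central involution commutes with none of its other conjugates.** -/
theorem isolated_of_facts (Fc : Facts X) {x : GL Ix F} (hx : x ∈ X)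
    (h : zB o * (x * zB o * x⁻¹) = x * zB o * x⁻¹ * zB o) : x * zB o * x⁻¹ = zB o := by
  set y := x⁻¹ * zB o * x with hy
  have hyz : y * zB o = zB o * y := by
    calc y * zB o = x⁻¹ * (zB o * (x * zB o * x⁻¹)) * x := by rw [hy]; group
      _ = zB o * y := by rw [h, hy]; group
  suffices hyz' : y = zB o by
    calc x * zB o * x⁻¹ = x * y * x⁻¹ := by rw [hyz']
      _ = zB o := by rw [hy]; group
  have hyX : y ∈ X := X.mul_mem (X.mul_mem (X.inv_mem hx) S.z) hx
  obtain ⟨A, B, hyv, hblk⟩ := blk_of_comm o hyX hyz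
  clear_value y
  have hyy : y.1 * y.1 = 1 := by
    rw [← Units.val_mul, show y * y = x⁻¹ * (zB o * zB o) * x by rw [hy]; group, zB_sq]
    simp
  rw [hyv, fromBlocks_multiply, ← fromBlocks_one, fromBlocks_inj] at hyy
  obtain ⟨hAA, -, -, hBB⟩ := hyy
  simp at hAA hBB
  have htr : A.trace + B.trace = 1 := by
    have e : ∀ (A : M3 F) (B : M2 F), (fromBlocks A 0 0 B : MB F).trace = A.trace + B.trace := fun A B => by
      simp [Matrix.trace, Fintype.sum_sum_type]
    rw [← e, ← hyv, hy, Units.val_mul, Units.val_mul, trace_units_conj', zB_val, e]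
    simp
    norm_num
  have hdet := S.blk_det o hblk
  rcases inv2 hBB with hB | hB | ⟨hdB, htB⟩
  · -- trivial on the minus space
    exfalso
    subst hB
    rw [det_one, mul_one] at hdet
    have htA : A.trace = -1 := by
      rw [trace_one, Fintype.card_fin] at htr
      push_cast at htr
      linear_combination htr
    by_cases hK : Faith X
    · obtain ⟨k, hk⟩ := scalar_of_faith o S hK (β := 1) (by rw [one_smul]; exact hblk)
      rcases inv3 hAA hdet with h1 | -
      · rw [h1] at htA
        simp at htA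
        exact o.two (mul_self_eq_zero.1 (show (2 : F) * 2 = 0 by linear_combination htA))
      · subst hk
        have h1 : k * k = 1 := by simpa using congrFun (congrFun hAA 0) 0
        simp at htA hdet
        have : k = 1 := by linear_combination hdet - k * h1
        subst this
        exact o.two (mul_self_eq_zero.1 (show (2 : F) * 2 = 0 by linear_combination htA))
    · exact no_plus_conjugate o S Fc hK (a := GeneralLinearGroup.mkOfDetNeZero A (S.det_ne o hblk).1)
        hblk (Units.ext hAA) htA hx hy.symm hyv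
  · -- minus one on the minus space
    subst hB
    rw [det_neg, det_one, Fintype.card_fin] at hdet
    norm_num at hdet
    rcases inv3 hAA hdet with h1 | h1
    · exact Units.ext (by rw [hyv, h1, zB_val])
    · exfalso
      rw [trace_neg, trace_one, Fintype.card_fin, h1] at htr
      push_cast at htr
      exact o.two (mul_self_eq_zero.1 (show (2 : F) * 2 = 0 by linear_combination -htr))
  · exfalso
    rw [hdB, mul_neg_one, neg_eq_iff_eq_neg] at hdet
    obtain ⟨e, he0, he⟩ : ∃ e : Fin 3 → F, e ≠ 0 ∧ A *ᵥ e = -e := by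
      obtain ⟨e, he0, he⟩ := Matrix.exists_mulVec_eq_zero_iff.2 (show (A + 1).det = 0 by
        by_contra hne
        have h1 : (A + 1) * (A - 1) = 0 := by rw [add_mul, mul_sub, one_mul, hAA]; simp
        have hA1 : A - 1 = 0 :=
          (Matrix.isUnit_iff_isUnit_det _).2 (isUnit_iff_ne_zero.2 hne) |>.mul_right_eq_zero.1 h1
        rw [sub_eq_zero.1 hA1, det_one] at hdet
        exact o.two (by linear_combination hdet))
      exact ⟨e, he0, eq_neg_of_add_eq_zero_left (by rwa [add_mulVec, one_mulVec] at he)⟩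
    obtain ⟨f, hf0, hf⟩ : ∃ f : Fin 2 → F, f ≠ 0 ∧ B *ᵥ f = -f := by
      obtain ⟨e, he0, he⟩ := Matrix.exists_mulVec_eq_zero_iff.2 (show (B + 1).det = 0 by
        rw [det_fin_two] at hdB
        rw [trace_fin_two] at htB
        simp [det_fin_two]
        linear_combination hdB + htB)
      exact ⟨e, he0, eq_neg_of_add_eq_zero_left (by rwa [add_mulVec, one_mulVec] at he)⟩
    have hve : y.1 *ᵥ Sum.elim e 0 = -Sum.elim e 0 := by
      rw [hyv, fromBlocks_mulVec]
      funext i
      rcases i with i | i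
      · simpa using congrFun he i
      · simp
    have hvf : y.1 *ᵥ Sum.elim (0 : Fin 3 → F) f = -Sum.elim (0 : Fin 3 → F) f := by
      rw [hyv, fromBlocks_mulVec]
      funext i
      rcases i with i | i
      · simp
      · simpa using congrFun hf i
    obtain ⟨A', B', m, c, hblk', hA, hB, hc2, hm⟩ : ∃ (A' : M3 F) (B' : M2 F) (m c : F), Blk X A' B' ∧
        A * A' = A' * A ∧ B = c • B' ∧ c ^ 2 = -1 ∧ A' *ᵥ e = m • e ∧ m ^ 30 = 1 := by
      have hcd : ∀ {B' : M2 F} {c : F}, B'.det = 1 → B = c • B' → c ^ 2 = -1 := fun {B'} {c} h1 h2 => by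
        rw [← hdB, h2, det_smul, h1, Fintype.card_fin, mul_one]
      by_cases hK : Faith X
      · obtain ⟨A', B', c, hblk', hA', hB', hc⟩ := Fc.lift hblk
        obtain ⟨A'', B'', h'', hA, -, hB, -⟩ := hblk'.inv
        have hprod := hblk.mul h''
        rw [hc, smul_mul_assoc, hB] at hprod
        obtain ⟨l, hl⟩ := scalar_of_faith o S hK hprod
        have hAl : A = l • A' := by
          calc A = A * (A'' * A') := by rw [mul_eq_one_comm.1 hA, mul_one]
            _ = l • A' := by rw [← mul_assoc, hl, smul_mul_assoc, one_mul]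
        have hl3 : l ^ 3 = -1 := by
          rw [← hdet, hAl, det_smul, hA', Fintype.card_fin, mul_one]
        have hl0 : l ≠ 0 := fun h0 => by simp [h0] at hl3
        refine ⟨A', B', -l⁻¹, c, hblk', by rw [hAl, smul_mul_assoc, mul_smul_comm], hc, hcd hB' hc, ?_, ?_⟩
        · rw [hAl, smul_mulVec] at he
          rw [neg_smul, ← smul_neg, ← he, inv_smul_smul₀ hl0]
        · rw [Even.neg_pow (by decide), inv_pow, show (30 : ℕ) = 3 * 10 from rfl, pow_mul, hl3,
            Even.neg_one_pow (by decide), inv_one]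
      · obtain ⟨B', c, hblk', hB', hc⟩ := Fc.lift1 hK hblk
        exact ⟨1, B', 1, c, hblk', by rw [one_mul, mul_one], hc, hcd hB' hc, by rw [one_mulVec, one_smul],
          one_pow _⟩
    obtain ⟨he', hm⟩ := hm
    have hc0 : c ≠ 0 := fun h0 => by simp [h0] at hc2
    obtain ⟨g, hg, hgv⟩ := hblk'
    have h30 := pow30_eq o S Fc hx hy.symm hg (v := Sum.elim e 0) (w := Sum.elim (0 : Fin 3 → F) f) (a := m) (b := -c⁻¹)
      (Units.ext (by
        rw [Units.val_mul, Units.val_mul, hgv, hyv, fromBlocks_multiply, fromBlocks_multiply]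
        simp [hA, hB]))
      (fun h0 => he0 (funext fun i => congrFun h0 (Sum.inl i)))
      (fun h0 => hf0 (funext fun i => congrFun h0 (Sum.inr i))) hve hvf
      (by
        rw [hgv, fromBlocks_mulVec]
        funext i
        rcases i with i | i
        · simpa using congrFun he' i
        · simp)
      (by
        rw [hgv, fromBlocks_mulVec]
        rw [hB, smul_mulVec] at hf
        have hf' : B' *ᵥ f = (-c⁻¹) • f := by rw [neg_smul, ← smul_neg, ← hf, inv_smul_smul₀ hc0]
        funext i
        rcases i with i | i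
        · simp
        · simpa using congrFun hf' i)
    rw [hm, Even.neg_pow (by decide), inv_pow, show (30 : ℕ) = 2 * 15 from rfl, pow_mul, hc2,
      Odd.neg_one_pow (by decide), inv_neg, inv_one] at h30
    exact o.two (by linear_combination h30)

end CfsgLib.C6Five
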