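import Cfsg.Agent.C6Five.Span
import Cfsg.Agent.Solvable.Nilpotent
import Mathlib.LinearAlgebra.Eigenspace.Basic
import Mathlib.RingTheory.RootsOfUnity.PrimitiveRoots

/-!
# The normal form of a group of symplectic type of exponent five in `GL₅`

Its commutators are scalar, so two non-commuting elements become the clock and the shift in a basis
of eigenvectors, and every element is then a scalar multiple of a Weyl monomial.
-/

set_option autoImplicit false
set_option linter.unusedSectionVars false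
set_option linter.style.haveILetI false

namespace CfsgLib.C6Five

open Matrix Cfsg.Geo
open scoped commutatorElement Fin.NatCast

section Group

variable {Q : Type*} [Group Q] [Finite Q] {p : ℕ} [Fact p.Prime]

/-- A `p`-group whose characteristic abelian subgroups are central has central commutator subgroup. -/
theorem commutator_le_center_of_char (hQ : IsPGroup p Q)
    (hc : ∀ A : Subgroup Q, A.Characteristic → (∀ a ∈ A, ∀ b ∈ A, a * b = b * a) → A ≤ Subgroup.center Q) :
    commutator Q ≤ Subgroup.center Q := by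
  have := hQ.isNilpotent
  let π := QuotientGroup.mk' (Subgroup.center Q)
  let Z2 : Subgroup Q := (Subgroup.center (Q ⧸ Subgroup.center Q)).comap π
  have hcen : ∀ (τ : Q ≃* Q) {z : Q}, z ∈ Subgroup.center Q → τ z ∈ Subgroup.center Q := by
    intro τ z hz
    rw [Subgroup.mem_center_iff] at hz ⊢
    intro y
    obtain ⟨y, rfl⟩ := τ.surjective y
    rw [← map_mul, ← map_mul, hz y]
  have hZ2 : ∀ x ∈ Z2, ∀ y : Q, ⁅x, y⁆ ∈ Subgroup.center Q := by
    intro x hx y
    rw [← QuotientGroup.eq_one_iff]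
    show π ⁅x, y⁆ = 1
    rw [map_commutatorElement, commutatorElement_eq_one_iff_mul_comm]
    exact (Subgroup.mem_center_iff.1 hx (π y)).symm
  have hZ2i : Z2.Characteristic := by
    rw [Subgroup.characteristic_iff_map_le]
    intro τ
    rw [Subgroup.map_le_iff_le_comap]
    intro x hx
    show π (τ x) ∈ Subgroup.center (Q ⧸ Subgroup.center Q)
    rw [Subgroup.mem_center_iff]
    intro q
    obtain ⟨y, rfl⟩ := QuotientGroup.mk'_surjective (Subgroup.center Q) q
    obtain ⟨y, rfl⟩ := τ.surjective y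
    show π (τ y) * π (τ x) = π (τ x) * π (τ y)
    rw [eq_comm, ← commutatorElement_eq_one_iff_mul_comm, ← map_commutatorElement π]
    refine (QuotientGroup.eq_one_iff _).2 ?_
    show ⁅τ x, τ y⁆ ∈ Subgroup.center Q
    rw [← map_commutatorElement]
    exact hcen τ (hZ2 x hx y)
  have hcomm : ∀ x ∈ Z2, ∀ y ∈ commutator Q, ⁅x, y⁆ = 1 := by
    have hc : ⁅commutator Q, Z2⁆ = ⊥ := by
      rw [commutator_def]
      refine Subgroup.commutator_commutator_eq_bot_of_rotate ?_ ?_
      · rw [Subgroup.commutator_eq_bot_iff_le_centralizer, Subgroup.commutator_le]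
        intro a _ b hb
        rw [Subgroup.mem_centralizer_iff]
        intro g _
        rw [← commutatorElement_inv]
        exact Subgroup.mem_center_iff.1 (inv_mem (hZ2 b hb a)) g
      · rw [Subgroup.commutator_eq_bot_iff_le_centralizer, Subgroup.commutator_le]
        intro b hb a _
        rw [Subgroup.mem_centralizer_iff]
        intro g _
        exact Subgroup.mem_center_iff.1 (hZ2 b hb a) g
    intro x hx y hy
    have h4 : ⁅y, x⁆ ∈ ⁅commutator Q, Z2⁆ := Subgroup.commutator_mem_commutator hy hx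
    rw [hc, Subgroup.mem_bot] at h4
    rw [← commutatorElement_inv, h4, inv_one]
  have hN : commutator Q ⊓ Z2 ≤ Subgroup.center Q := by
    haveI := hZ2i
    refine hc _ ?_ fun a ha b hb => commutatorElement_eq_one_iff_mul_comm.1 (hcomm a ha.2 b hb.1)
    rw [Subgroup.characteristic_iff_comap_eq]
    intro τ
    rw [Subgroup.comap_inf, Subgroup.characteristic_iff_comap_eq.1 inferInstance τ,
      Subgroup.characteristic_iff_comap_eq.1 hZ2i τ]
  by_contra hne
  have hne' : (commutator Q).map π ≠ ⊥ := by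
    rw [Ne, Subgroup.map_eq_bot_iff, QuotientGroup.ker_mk']
    exact hne
  haveI : ((commutator Q).map π).Normal :=
    Subgroup.Normal.map inferInstance _ (QuotientGroup.mk'_surjective _)
  haveI := (hQ.to_quotient (Subgroup.center Q)).isNilpotent
  obtain ⟨⟨z, hz⟩, hz1⟩ := (Subgroup.ne_bot_iff_exists_ne_one).1
    (CfsgLib.Solvable.inf_center_ne_bot hne')
  replace hz1 : z ≠ 1 := fun e => hz1 (Subtype.ext (by simpa using e))
  obtain ⟨x, hx, rfl⟩ := hz.1
  exact hz1 (by
    show π x = 1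
    rw [← MonoidHom.mem_ker, QuotientGroup.ker_mk']
    exact hN ⟨hx, hz.2⟩)

/-- In exponent `p`, cyclic characteristic subgroups are central. -/
theorem le_center_of_isCyclic (hQ : IsPGroup p Q) (hexp : ∀ g : Q, g ^ p = 1) (A : Subgroup Q)
    [A.Characteristic] [IsCyclic A] : A ≤ Subgroup.center Q := by
  obtain ⟨⟨a, ha⟩, hgen⟩ := IsCyclic.exists_generator (α := A)
  have hA : ∀ b ∈ A, ∃ k : ℕ, a ^ k = b := fun b hb => by
    obtain ⟨k, hk⟩ := mem_powers_iff_mem_zpowers.2 (hgen ⟨b, hb⟩)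
    exact ⟨k, congrArg Subtype.val hk⟩
  rcases eq_or_ne a 1 with rfl | ha1
  · intro b hb
    obtain ⟨k, rfl⟩ := hA b hb
    rw [one_pow]
    exact one_mem _
  have hord : orderOf a = p := orderOf_eq_prime (hexp a) ha1
  haveI : Finite A := inferInstance
  have hcard : Nat.card A = p := by
    have h : Nat.card A = orderOf (⟨a, ha⟩ : A) := (orderOf_eq_card_of_forall_mem_zpowers hgen).symm
    rw [h, Subgroup.orderOf_mk, hord]
  haveI := hQ.isNilpotent
  have hne : A ≠ ⊥ := fun e => ha1 (by rw [e, Subgroup.mem_bot] at ha; exact ha)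
  obtain ⟨⟨z, hz⟩, hz1⟩ := (Subgroup.ne_bot_iff_exists_ne_one).1 (CfsgLib.Solvable.inf_center_ne_bot hne)
  replace hz1 : z ≠ 1 := fun e => hz1 (Subtype.ext (by simpa using e))
  have hle : Subgroup.zpowers z = A := by
    refine Subgroup.eq_of_le_of_card_ge (Subgroup.zpowers_le.2 hz.1) (le_of_eq ?_)
    rw [hcard, Nat.card_zpowers, orderOf_eq_prime (hexp z) hz1]
  rw [← hle]
  exact Subgroup.zpowers_le.2 hz.2

end Group

variable {F : Type*} [Field F] (o : Root5 F)

theorem Root5.exists_e {c : F} (hc : c ^ 5 = 1) : ∃ i, c = o.e i := by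
  haveI : Fact (Nat.Prime 5) := ⟨Nat.prime_five⟩
  have hd : orderOf o.w = 5 := orderOf_eq_prime o.pow_five o.ne_one
  obtain ⟨i, hi, h⟩ := (hd ▸ IsPrimitiveRoot.orderOf o.w : IsPrimitiveRoot o.w 5).eq_pow_of_pow_eq_one hc
  exact ⟨⟨i, hi⟩, h.symm⟩

theorem Root5.e_one_pow (i : Fin 5) : o.e 1 ^ (i : ℕ) = o.e i := by rw [o.e_one]; rfl

theorem weylGL_mul_clock (a : Fin 5) (b : Fin 5) :
    weylGL o a b = weylGL o a 0 * weylGL o 0 b := Units.ext (by
  rw [Units.val_mul, weylGL_val, weylGL_val, weylGL_val, weyl_mul, zero_mul, neg_zero, o.e_zero, one_smul,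
    add_zero, zero_add])

theorem weylGL_eq_pow : ∀ a b : Fin 5,
    weylGL o a b = weylGL o 1 0 ^ (a : ℕ) * weylGL o 0 1 ^ (b : ℕ) := by
  have h : ∀ n : ℕ, weylGL o 1 0 ^ n = weylGL o (n : Fin 5) 0 ∧ weylGL o 0 1 ^ n = weylGL o 0 (n : Fin 5) := by
    intro n
    induction n with
    | zero => constructor <;> refine Units.ext ?_ <;> simp [weyl_zero]
    | succ n ih =>
      constructor <;> rw [pow_succ] <;> [rw [ih.1]; rw [ih.2]] <;> refine Units.ext ?_ <;>
        rw [Units.val_mul, weylGL_val, weylGL_val, weylGL_val, weyl_mul] <;>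
        simp [o.e_zero]
  intro a b
  rw [(h _).1, (h _).2, weylGL_mul_clock, Fin.cast_val_eq_self, Fin.cast_val_eq_self]

/-- **The normal form.** -/
theorem exists_normal_form [Fintype F] {R : Subgroup (GL (Fin 5) F)}
    (hR : IsLinearSymplecticTypeData 5 R) :
    ∃ P : GL (Fin 5) F, ∀ g, g ∈ R ↔ P⁻¹ * g * P ∈ heis o := by
  classical
  haveI : Fact (Nat.Prime 5) := ⟨Nat.prime_five⟩
  have hexp : ∀ g : R, g ^ 5 = 1 := fun g => by
    have h := Monoid.pow_exponent_eq_one g
    rwa [hR.symplecticType.exponent_eq, show Nat.gcd 2 5 = 1 from rfl, mul_one] at h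
  have hcl : commutator R ≤ Subgroup.center R :=
    commutator_le_center_of_char hR.symplecticType.pGroup fun A hA hab => by
      haveI := hA
      haveI := hR.symplecticType.cyclic_of_characteristic A hA
        ⟨⟨fun a b => Subtype.ext (hab a a.2 b b.2)⟩⟩
      exact le_center_of_isCyclic hR.symplecticType.pGroup hexp A
  -- commutators are fifth roots of unity
  have hcm : ∀ a b : GL (Fin 5) F, a ∈ R → b ∈ R → ∃ i, a.1 * b.1 = o.e i • (b.1 * a.1) := by
    intro a b ha hb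
    set z : R := ⁅(⟨a, ha⟩ : R), ⟨b, hb⟩⁆ with hz
    obtain ⟨c, hc⟩ := hR.absIrred.2 (z : GL (Fin 5) F).1 (by
      rintro _ ⟨g, hg, rfl⟩
      exact (congrArg (fun t : R => (t : GL (Fin 5) F).1) (Subgroup.mem_center_iff.1
        (hcl (Subgroup.commutator_mem_commutator (Subgroup.mem_top _) (Subgroup.mem_top _))) ⟨g, hg⟩)).symm)
    have h5 := congrArg (fun t : R => (t : GL (Fin 5) F).1) (hexp z)
    simp only [Subgroup.coe_pow, Units.val_pow_eq_pow_val, hc, smul_pow, one_pow, Subgroup.coe_one,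
      Units.val_one] at h5
    obtain ⟨i, rfl⟩ := o.exists_e (c := c) (by simpa using congrFun (congrFun h5 0) 0)
    refine ⟨i, ?_⟩
    have h : a * b = (z : GL (Fin 5) F) * (b * a) := by
      rw [hz, commutatorElement_def]; push_cast; group
    rw [← Units.val_mul, h, Units.val_mul, hc, smul_mul_assoc, one_mul, Units.val_mul]
  -- two elements with commutator the first root
  obtain ⟨_, _, -, -, hdata⟩ := hR.field
  obtain ⟨hZ, m, hm, hcard⟩ : Nat.card (Subgroup.center R) = 5 ∧ ∃ m : ℕ, 1 ≤ m ∧ Nat.card R = 5 ^ (1 + 2 * m) := by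
    rcases hdata with ⟨-, -, h1, h2⟩ | ⟨h, -⟩ | ⟨h, -⟩
    · exact ⟨h1, h2⟩
    all_goals norm_num at h
  obtain ⟨X, hXR, Y₀, hY₀R, hne⟩ : ∃ X ∈ R, ∃ Y ∈ R, X * Y ≠ Y * X := by
    by_contra hn
    push Not at hn
    have htop : Subgroup.center R = ⊤ := eq_top_iff.2 fun x _ =>
      Subgroup.mem_center_iff.2 fun y => Subtype.ext (hn y y.2 x x.2)
    rw [htop, Subgroup.card_top, hcard] at hZ
    have : 5 ^ 3 ≤ 5 ^ (1 + 2 * m) := Nat.pow_le_pow_right (by norm_num) (by omega)
    omega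
  obtain ⟨i, hi⟩ := hcm X Y₀ hXR hY₀R
  have hi0 : i ≠ 0 := fun h => hne (Units.ext (by
    rw [Units.val_mul, Units.val_mul, hi, h, o.e_zero, one_smul]))
  obtain ⟨k, hk⟩ : ∃ k : Fin 5, i * k = 1 := (show ∀ i : Fin 5, i ≠ 0 → ∃ k, i * k = 1 by decide) i hi0
  have hcomm_pow : ∀ n : ℕ, X.1 * Y₀.1 ^ n = o.e i ^ n • (Y₀.1 ^ n * X.1) := by
    intro n
    induction n with
    | zero => simp
    | succ n ih =>
      rw [pow_succ, ← mul_assoc, ih, smul_mul_assoc, mul_assoc, hi, mul_smul_comm, smul_smul, ← mul_assoc, pow_succ]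
  obtain ⟨Y, hYR, hXY⟩ : ∃ Y ∈ R, X.1 * Y.1 = o.e 1 • (Y.1 * X.1) := by
    refine ⟨Y₀ ^ (k : ℕ), R.pow_mem hY₀R _, ?_⟩
    rw [Units.val_pow_eq_pow_val, hcomm_pow, ← hk]
    congr 1
    rw [o.e_pow, Root5.e, Fin.val_mul, ← o.pow_mod]
  have hpow5 : ∀ g ∈ R, g.1 ^ 5 = 1 := fun g hg => by
    have := congrArg (fun t : R => (t : GL (Fin 5) F).1) (hexp ⟨g, hg⟩)
    simpa using this
  have hYpow : ∀ n : ℕ, Y.1 ^ n = Y.1 ^ (n % 5) := fun n => pow_eq_pow_mod n (hpow5 Y hYR)
  have hmove : ∀ (n : ℕ) (j : Fin 5) (u : Fin 5 → F), X.1 *ᵥ u = o.e j • u →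
      X.1 *ᵥ (Y.1 ^ n *ᵥ u) = o.e (j + n) • (Y.1 ^ n *ᵥ u) := by
    intro n
    induction n with
    | zero => intro j u h; simpa using h
    | succ n ih =>
      intro j u h
      rw [pow_succ', ← mulVec_mulVec, mulVec_mulVec _ X.1, hXY, smul_mulVec, ← mulVec_mulVec, ih j u h,
        mulVec_smul, smul_smul, ← o.e_add]
      congr 2
      rw [Nat.cast_succ]
      abel
  have hYne : ∀ (n : ℕ) (u : Fin 5 → F), u ≠ 0 → Y.1 ^ n *ᵥ u ≠ 0 := fun n u hu h => hu (by
    rw [← Units.val_pow_eq_pow_val] at h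
    have := congrArg (((Y ^ n)⁻¹ : GL (Fin 5) F).1 *ᵥ ·) h
    simpa [mulVec_mulVec, ← Units.val_pow_eq_pow_val, ← Units.val_mul] using this)
  -- a fixed vector of `X`
  obtain ⟨v, hv0, hv⟩ : ∃ v : Fin 5 → F, v ≠ 0 ∧ X.1 *ᵥ v = v := by
    set u : Fin 5 → F := Pi.single 0 1 with hu
    set w : Fin 5 → Fin 5 → F := fun j => ∑ n : Fin 5, o.e (-(j * n)) • (X.1 ^ (n : ℕ) *ᵥ u) with hw
    have hXw : ∀ j, X.1 *ᵥ w j = o.e j • w j := by
      intro j
      rw [hw, mulVec_sum, Finset.smul_sum]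
      refine Fintype.sum_equiv (Equiv.addRight 1) _ _ fun n => ?_
      have e : ∀ j n : Fin 5, j + -(j * (n + 1)) = -(j * n) := by decide
      rw [Equiv.coe_addRight, smul_smul, ← o.e_add, e, mulVec_smul, mulVec_mulVec, ← pow_succ',
        pow_eq_pow_mod ((n : ℕ) + 1) (hpow5 X hXR)]
      simp [Fin.val_add]
    obtain ⟨j, hj⟩ : ∃ j, w j ≠ 0 := by
      by_contra hall
      push Not at hall
      have hsum : ∑ j, w j = (5 : F) • u := by
        simp only [hw]
        rw [Finset.sum_comm]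
        simp only [← Finset.sum_smul]
        have e : ∀ j n : Fin 5, -(j * n) = -n * j := by decide
        simp only [e, o.sum_e_mul, neg_eq_zero, ite_smul, zero_smul, Finset.sum_ite_eq', Finset.mem_univ, if_true,
          Fin.val_zero, pow_zero, one_mulVec]
      rw [Finset.sum_eq_zero fun j _ => hall j] at hsum
      have := congrFun hsum 0
      simp [hu] at this
      exact o.five this.symm
    refine ⟨_, hYne ((-j : Fin 5) : ℕ) _ hj, ?_⟩
    rw [hmove _ j _ (hXw j), Fin.cast_val_eq_self, add_neg_cancel, o.e_zero, one_smul]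
  -- the basis
  set col : Fin 5 → Fin 5 → F := fun j => Y.1 ^ (j : ℕ) *ᵥ v with hcol
  have hXcol : ∀ j, X.1 *ᵥ col j = o.e j • col j := fun j => by
    rw [hcol]
    have := hmove (j : ℕ) 0 v (by rw [o.e_zero, one_smul, hv])
    rwa [zero_add, Fin.cast_val_eq_self] at this
  have hli : LinearIndependent F col :=
    Module.End.eigenvectors_linearIndependent' (Matrix.toLin' X.1) o.e o.e_injective col fun j =>
      Module.End.hasEigenvector_iff.2 ⟨Module.End.mem_eigenspace_iff.2 (by rw [toLin'_apply, hXcol]),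
        hYne _ v hv0⟩
  set Pm : M5 F := (Matrix.of col)ᵀ with hPm
  have hunit : IsUnit Pm := Matrix.linearIndependent_cols_iff_isUnit.1 (hli)
  set P := hunit.unit with hP
  have hPv : P.1 = Pm := rfl
  have hclk : P⁻¹ * X * P = weylGL o 1 0 := by
    rw [mul_assoc, inv_mul_eq_iff_eq_mul]
    refine Units.ext (Matrix.ext fun r s => ?_)
    rw [Units.val_mul, Units.val_mul, hPv, weylGL_val, weyl, mul_mono]
    show (X.1 *ᵥ col s) r = Pm r (s + 0) * o.e (1 * (s + 0))
    rw [hXcol, add_zero, one_mul, Pi.smul_apply, smul_eq_mul, mul_comm]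
    rfl
  have hshf : P⁻¹ * Y * P = weylGL o 0 1 := by
    rw [mul_assoc, inv_mul_eq_iff_eq_mul]
    refine Units.ext (Matrix.ext fun r s => ?_)
    rw [Units.val_mul, Units.val_mul, hPv, weylGL_val, weyl, mul_mono]
    show (Y.1 *ᵥ col s) r = col (s + 1) r * o.e (0 * (s + 1))
    rw [zero_mul, o.e_zero, mul_one, hcol, mulVec_mulVec, ← pow_succ', hYpow ((s : ℕ) + 1)]
    simp [Fin.val_add]
  set R' := R.comap (MulAut.conj P).toMonoidHom with hR'
  have hmemR : ∀ g, P⁻¹ * g * P ∈ R' ↔ g ∈ R := fun g => by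
    rw [hR', Subgroup.mem_comap]
    show P * (P⁻¹ * g * P) * P⁻¹ ∈ R ↔ _
    rw [show P * (P⁻¹ * g * P) * P⁻¹ = g by group]
  have hA : weylGL o 1 0 ∈ R' := by rw [← hclk]; exact (hmemR _).2 hXR
  have hB : weylGL o 0 1 ∈ R' := by rw [← hshf]; exact (hmemR _).2 hYR
  have hW : ∀ a b, weylGL o a b ∈ R' := fun a b => by
    rw [weylGL_eq_pow]; exact R'.mul_mem (R'.pow_mem hA _) (R'.pow_mem hB _)
  set z := weylGL o 1 0 * weylGL o 0 1 * (weylGL o 0 1 * weylGL o 1 0)⁻¹ with hzdef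
  have hz : z.1 = o.e 1 • (1 : M5 F) := by
    rw [hzdef, Units.val_mul, Units.val_mul, weylGL_val, weylGL_val, weyl_comm]
    rw [smul_mul_assoc, ← weylGL_val, ← weylGL_val, ← Units.val_mul, Units.mul_inv]
    congr 2
  have hzk : ∀ k : Fin 5, (z ^ (k : ℕ)).1 = o.e k • (1 : M5 F) := fun k => by
    rw [Units.val_pow_eq_pow_val, hz, smul_pow, one_pow, o.e_one_pow]
  have hle : heis o ≤ R' := by
    rintro g ⟨k, a, b, hg⟩
    rw [show g = z ^ (k : ℕ) * weylGL o a b from Units.ext (by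
      rw [Units.val_mul, hzk, hg, smul_mul_assoc, one_mul, weylGL_val])]
    exact R'.mul_mem (R'.pow_mem (R'.mul_mem (R'.mul_mem hA hB) (R'.inv_mem (R'.mul_mem hB hA))) _) (hW a b)
  refine ⟨P, fun g => ⟨fun hg => ?_, fun hg => (hmemR g).1 (hle hg)⟩⟩
  set r := P⁻¹ * g * P with hr
  have hrR : r ∈ R' := (hmemR g).2 hg
  have hconj : ∀ a, a ∈ R' → P * a * P⁻¹ ∈ R := fun a ha => Subgroup.mem_comap.1 ha
  have hcm' : ∀ a b, a ∈ R' → b ∈ R' → ∃ i, a.1 * b.1 = o.e i • (b.1 * a.1) := by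
    intro a b ha hb
    obtain ⟨i, hi⟩ := hcm _ _ (hconj a ha) (hconj b hb)
    refine ⟨i, ?_⟩
    simp only [Units.val_mul, mul_assoc, Units.inv_mul_cancel_left] at hi
    rw [← mul_smul_comm, Units.mul_right_inj, ← mul_assoc, ← mul_assoc b.1, ← smul_mul_assoc, Units.mul_left_inj] at hi
    exact hi
  obtain ⟨c, a, b, hrc⟩ := eig_weyl o (y := r) fun a b => by
    obtain ⟨i, hi⟩ := hcm' _ _ (hW a b) hrR
    rw [← map_mul, ← map_mul, pr_eq, Units.val_mul, Units.val_mul]
    exact ⟨o.e i, hi⟩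
  have hu : r * (weylGL o a b)⁻¹ ∈ R' := R'.mul_mem hrR (R'.inv_mem (hW a b))
  have h5 := congrArg (fun t : R => (t : GL (Fin 5) F).1) (hexp ⟨_, hconj _ hu⟩)
  have hu1 : (P * (r * (weylGL o a b)⁻¹) * P⁻¹).1 = c • 1 := by
    rw [Units.val_mul, Units.val_mul, Units.val_mul r, hrc, smul_mul_assoc, ← weylGL_val, Units.mul_inv,
      mul_smul_comm, mul_one, smul_mul_assoc, Units.mul_inv]
  simp only [Subgroup.coe_pow, Units.val_pow_eq_pow_val, hu1, smul_pow, one_pow, Subgroup.coe_one, Units.val_one] at h5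
  obtain ⟨k, rfl⟩ := o.exists_e (c := c) (by simpa using congrFun (congrFun h5 0) 0)
  exact ⟨k, a, b, hrc⟩

end CfsgLib.C6Five
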