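import Cfsg.Agent.C6Five.Overgroup
import Cfsg.Agent.C6Five.Normal

/-!
# The normaliser of an extraspecial group of order 125 is maximal in `SL₅ (p)`
-/

set_option autoImplicit false
set_option linter.unusedSectionVars false
set_option linter.style.haveILetI false

namespace CfsgLib.C6Five

open Matrix Cfsg.Geo CfsgLib.MaxSub

variable {F : Type*} [Field F] [Fintype F]

/-- **The normaliser of an extraspecial group of order 125 is maximal in `SL₅ (p)`, `p ≡ 1 (mod 5)`.** -/
theorem isMaximalIn_extraspecial {p : ℕ} (hp : p.Prime) (hF : Fintype.card F = p) (h1 : p % 5 = 1)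
    {R : Subgroup (GL (Fin 5) F)} (hR : IsLinearSymplecticTypeData 5 R) :
    IsMaximalIn (specialLinear (Fin 5) F) (subgroupNormalizer R ⊓ specialLinear (Fin 5) F) := by
  haveI : Fact p.Prime := ⟨hp⟩
  have hp5 : 5 < p := by
    have := hp.two_le
    omega
  obtain ⟨o⟩ := exists_root5 hp hF h1
  obtain ⟨P, hP⟩ := exists_normal_form o hR
  haveI : (specialLinear (Fin 5) F).Normal := MonoidHom.normal_ker _
  have hiff : ∀ g, g ∈ subgroupNormalizer R ↔ P⁻¹ * g * P ∈ subgroupNormalizer (heis o) := by
    intro g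
    show g ∈ Subgroup.normalizer (R : Set (GL (Fin 5) F)) ↔
      P⁻¹ * g * P ∈ Subgroup.normalizer (heis o : Set (GL (Fin 5) F))
    rw [Subgroup.mem_normalizer_iff, Subgroup.mem_normalizer_iff]
    constructor
    · intro h x
      have hx := h (P * x * P⁻¹)
      simp only [hP] at hx
      simpa only [mul_assoc, inv_mul_cancel_left, inv_mul_cancel, mul_one, _root_.mul_inv_rev, inv_inv] using hx
    · intro h x
      have hx := h (P⁻¹ * x * P)
      rw [hP, hP]
      simpa only [mul_assoc, mul_inv_cancel_left, inv_mul_cancel_left, inv_mul_cancel, mul_inv_cancel, mul_one,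
        _root_.mul_inv_rev, inv_inv] using hx
  have hconj : ∀ x, x ∈ specialLinear (Fin 5) F → P⁻¹ * x * P ∈ specialLinear (Fin 5) F := fun x hx => by
    have h := Subgroup.Normal.conj_mem (inferInstance : (specialLinear (Fin 5) F).Normal) _ hx P⁻¹
    rwa [inv_inv] at h
  have hconj' : ∀ x, x ∈ specialLinear (Fin 5) F → P * x * P⁻¹ ∈ specialLinear (Fin 5) F := fun x hx =>
    Subgroup.Normal.conj_mem inferInstance _ hx P
  refine isMaximalIn_of inf_le_right ?_ fun M hHM hMK g hg hg' x hx => ?_
  · obtain ⟨t, ht, htn⟩ := exists_not_normalises o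
    refine ⟨P * t * P⁻¹, hconj' t ht, fun h => htn ?_⟩
    have := (hiff _).1 h.1
    rwa [show P⁻¹ * (P * t * P⁻¹) * P = t by group] at this
  · set c := (MulAut.conj P).toMonoidHom with hc
    have hcapp : ∀ y, c y = P * y * P⁻¹ := fun y => rfl
    have hle := specialLinear_le_of_heisNormalizer o hF hp5 (M := M.comap c)
      (fun y hy => hHM ⟨(hiff _).2 (by rw [hcapp, show P⁻¹ * (P * y * P⁻¹) * P = y by group]; exact hy.1),
        hconj' y hy.2⟩)
      (fun y hy => by
        have := hconj _ (hMK (Subgroup.mem_comap.1 hy))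
        rwa [hcapp, show P⁻¹ * (P * y * P⁻¹) * P = y by group] at this)
      (g := P⁻¹ * g * P)
      (by rw [Subgroup.mem_comap, hcapp, show P * (P⁻¹ * g * P) * P⁻¹ = g by group]; exact hg)
      (fun h => hg' ⟨(hiff g).2 h, hMK hg⟩)
    have := Subgroup.mem_comap.1 (hle (hconj x hx))
    rwa [hcapp, show P * (P⁻¹ * x * P) * P⁻¹ = x by group] at this

end CfsgLib.C6Five
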