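import Cfsg.Agent.C6Five.Root
import Cfsg.Prelude.Def_GeometricClasses
import Mathlib.LinearAlgebra.Matrix.Permutation

/-!
# The Heisenberg group of order 125 in `GL₅` and elements normalising it

Weyl monomials, the chirp, the dilation and the Fourier matrix.
-/

set_option autoImplicit false
set_option linter.unusedSectionVars false

namespace CfsgLib.C6Five

open Matrix Cfsg.Geo

variable {F : Type*} [Field F] (o : Root5 F)

/-- The matrices of dimension five. -/
abbrev M5 (F : Type*) := Matrix (Fin 5) (Fin 5) F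

/-- A monomial matrix: column `j` has its entry `d j` in row `f j`. -/
def mono (f : Fin 5 → Fin 5) (d : Fin 5 → F) : M5 F := Matrix.of fun i j => if i = f j then d j else 0

theorem mul_mono (A : M5 F) (f : Fin 5 → Fin 5) (d : Fin 5 → F) (i j : Fin 5) :
    (A * mono f d) i j = A i (f j) * d j := by
  simp [mono, Matrix.mul_apply, mul_ite]

theorem mono_mul_mono (f f' : Fin 5 → Fin 5) (d d' : Fin 5 → F) :
    mono f d * mono f' d' = mono (f ∘ f') (fun j => d (f' j) * d' j) := by
  ext i j
  rw [mul_mono]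
  simp [mono, ite_mul]

theorem mono_mul {f : Fin 5 → Fin 5} (hf : Function.Bijective f) (d : Fin 5 → F) (A : M5 F)
    (k j : Fin 5) : (mono f d * A) (f k) j = d k * A k j := by
  simp [mono, Matrix.mul_apply, ite_mul, hf.1.eq_iff]

theorem mono_one {d : Fin 5 → F} (hd : ∀ j, d j = 1) : mono (fun j => j) d = 1 := by
  ext i j
  simp [mono, hd, Matrix.one_apply]

theorem mono_congr {f g : Fin 5 → Fin 5} {d d' : Fin 5 → F} (hf : ∀ j, f j = g j) (hd : ∀ j, d j = d' j) :
    mono f d = mono g d' := by
  rw [funext hf, funext hd]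

theorem smul_mono (c : F) (f : Fin 5 → Fin 5) (d : Fin 5 → F) :
    c • mono f d = mono f fun j => c * d j := by
  ext i j
  simp [mono]

theorem det_mono_perm (π : Equiv.Perm (Fin 5)) :
    (mono π fun _ => (1 : F)).det = ((Equiv.Perm.sign π : ℤ) : F) := by
  have : mono π (fun _ => (1 : F)) = Equiv.Perm.permMatrix F π.symm := by
    ext i j
    simp [mono, Equiv.Perm.permMatrix, Equiv.toPEquiv, PEquiv.toMatrix, Equiv.eq_symm_apply, eq_comm]
  rw [this, Matrix.det_permutation, Equiv.Perm.sign_symm]

/-! ### Weyl monomials -/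

/-- The product of the `a`-th power of the clock and the `b`-th power of the shift. -/
def weyl (a b : Fin 5) : M5 F := mono (fun j => j + b) fun j => o.e (a * (j + b))

theorem weyl_zero : weyl o 0 0 = 1 :=
  (mono_congr (fun j => add_zero j) (fun _ => rfl)).trans (mono_one fun j => by simp [o.e_zero])

theorem fin5_weyl_mul : ∀ a a' b b' j : Fin 5,
    a * (j + b' + b) + a' * (j + b') = (a + a') * (j + (b + b')) + -(b * a') := by decide

theorem weyl_mul (a b a' b' : Fin 5) :
    weyl o a b * weyl o a' b' = o.e (-(b * a')) • weyl o (a + a') (b + b') := by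
  rw [weyl, weyl, weyl, mono_mul_mono, smul_mono]
  refine mono_congr (fun j => by simp [add_assoc, add_comm b]) fun j => ?_
  rw [← o.e_add, ← o.e_add, fin5_weyl_mul, add_comm]

theorem fin5_inv_aux : ∀ a b : Fin 5, -(a * b) + -(b * -a) = 0 ∧ -(a * b) + -(-b * a) = 0 := by decide

/-- The Weyl monomials as invertible matrices. -/
def weylGL (a b : Fin 5) : GL (Fin 5) F where
  val := weyl o a b
  inv := o.e (-(a * b)) • weyl o (-a) (-b)
  val_inv := by
    rw [Matrix.mul_smul, weyl_mul, smul_smul, ← o.e_add, add_neg_cancel, add_neg_cancel, weyl_zero,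
      (fin5_inv_aux a b).1, o.e_zero, one_smul]
  inv_val := by
    rw [Matrix.smul_mul, weyl_mul, smul_smul, ← o.e_add, neg_add_cancel, neg_add_cancel, weyl_zero,
      (fin5_inv_aux a b).2, o.e_zero, one_smul]

@[simp] theorem weylGL_val (a b : Fin 5) : (weylGL o a b : M5 F) = weyl o a b := rfl

theorem weyl_comm (a b a' b' : Fin 5) :
    weyl o a b * weyl o a' b' = o.e (a * b' - b * a') • (weyl o a' b' * weyl o a b) := by
  rw [weyl_mul, weyl_mul, smul_smul, ← o.e_add, add_comm a', add_comm b']
  congr 2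
  revert a b a' b'
  decide

/-- The Heisenberg group. -/
def heis : Subgroup (GL (Fin 5) F) where
  carrier := {g | ∃ k a b, (g : M5 F) = o.e k • weyl o a b}
  one_mem' := ⟨0, 0, 0, by simp [weyl_zero, o.e_zero]⟩
  mul_mem' := by
    rintro g h ⟨k, a, b, hg⟩ ⟨k', a', b', hh⟩
    refine ⟨k + k' + -(b * a'), a + a', b + b', ?_⟩
    rw [Units.val_mul, hg, hh, Matrix.smul_mul, Matrix.mul_smul, weyl_mul, smul_smul, smul_smul,
      ← o.e_add, ← o.e_add, add_assoc]
  inv_mem' := by
    rintro g ⟨k, a, b, hg⟩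
    refine ⟨-k + -(a * b), -a, -b, Units.inv_eq_of_mul_eq_one_right ?_⟩
    rw [hg, Matrix.smul_mul, Matrix.mul_smul, weyl_mul, smul_smul, smul_smul, ← o.e_add, ← o.e_add,
      add_neg_cancel, add_neg_cancel, weyl_zero,
      show k + (-k + -(a * b)) + -(b * -a) = 0 by rw [add_neg_cancel_left, (fin5_inv_aux a b).1],
      o.e_zero, one_smul]

theorem mem_heis {g : GL (Fin 5) F} : g ∈ heis o ↔ ∃ k a b, (g : M5 F) = o.e k • weyl o a b := Iff.rfl

theorem weylGL_mem (a b : Fin 5) : weylGL o a b ∈ heis o :=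
  ⟨0, a, b, by rw [o.e_zero, one_smul, weylGL_val]⟩

/-- An element carrying every Weyl monomial to a multiple of one normalises the Heisenberg group. -/
theorem mem_normalizer_of_weyl [Finite F] {g : GL (Fin 5) F}
    (h : ∀ a b, ∃ k a' b', (g : M5 F) * weyl o a b = o.e k • (weyl o a' b' * (g : M5 F))) :
    g ∈ subgroupNormalizer (heis o) := by
  have hle : ∀ x ∈ heis o, g * x * g⁻¹ ∈ heis o := by
    rintro x ⟨k, a, b, hx⟩
    obtain ⟨k', a', b', h'⟩ := h a b
    refine ⟨k + k', a', b', ?_⟩
    rw [Units.val_mul, Units.val_mul, hx, Matrix.mul_smul, h', smul_smul, ← o.e_add, Matrix.smul_mul,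
      Units.mul_inv_cancel_right]
  have hfin : Finite (heis o) := inferInstance
  show g ∈ Subgroup.normalizer (heis o : Set (GL (Fin 5) F))
  rw [Subgroup.mem_normalizer_iff]
  let φ : heis o → heis o := fun x => ⟨g * x * g⁻¹, hle _ x.2⟩
  have hφ : Function.Injective φ := fun x y h => Subtype.ext
    (mul_left_cancel (mul_right_cancel
      (show g * (x : GL (Fin 5) F) * g⁻¹ = g * (y : GL (Fin 5) F) * g⁻¹ from congrArg Subtype.val h)))
  refine fun x => ⟨hle x, fun hx => ?_⟩
  obtain ⟨y, hy⟩ := (Finite.injective_iff_surjective.1 hφ) ⟨_, hx⟩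
  have hyx : (y : GL (Fin 5) F) = x := by simpa [φ] using congrArg Subtype.val hy
  exact hyx ▸ y.2

/-! ### The chirp, the dilation and the Fourier matrix -/

/-- The chirp. -/
def chirp : GL (Fin 5) F where
  val := mono (fun j => j) fun j => o.e (j * j)
  inv := mono (fun j => j) fun j => o.e (-(j * j))
  val_inv := by
    rw [mono_mul_mono]
    exact (mono_congr (fun _ => rfl) fun _ => rfl).trans
      (mono_one fun j => by rw [← o.e_add, add_neg_cancel, o.e_zero])
  inv_val := by
    rw [mono_mul_mono]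
    exact (mono_congr (fun _ => rfl) fun _ => rfl).trans
      (mono_one fun j => by rw [← o.e_add, neg_add_cancel, o.e_zero])

theorem fin5_two_three : ∀ j : Fin 5, 2 * (3 * j) = j ∧ 3 * (2 * j) = j := by decide

variable (F) in
/-- The dilation. -/
def dil : GL (Fin 5) F where
  val := mono (fun j => 2 * j) fun _ => -1
  inv := mono (fun j => 3 * j) fun _ => -1
  val_inv := by
    rw [mono_mul_mono]
    exact (mono_congr (fun j => (fin5_two_three j).1) fun _ => rfl).trans (mono_one fun j => by simp)
  inv_val := by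
    rw [mono_mul_mono]
    exact (mono_congr (fun j => (fin5_two_three j).2) fun _ => rfl).trans (mono_one fun j => by simp)

variable (F) in
/-- The central involution. -/
def cent : GL (Fin 5) F where
  val := mono (fun j => -j) fun _ => 1
  inv := mono (fun j => -j) fun _ => 1
  val_inv := by
    rw [mono_mul_mono]
    exact (mono_congr (fun j => neg_neg j) fun _ => rfl).trans (mono_one fun j => by simp)
  inv_val := by
    rw [mono_mul_mono]
    exact (mono_congr (fun j => neg_neg j) fun _ => rfl).trans (mono_one fun j => by simp)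

/-- The Fourier matrix without normalisation. -/
def fourMat : M5 F := Matrix.of fun i j => o.e (i * j)

/-- Its conjugate. -/
def fourBar : M5 F := Matrix.of fun i j => o.e (-(i * j))

theorem fourMat_mul_bar : fourMat o * fourBar o = (5 : F) • (1 : M5 F) ∧
    fourBar o * fourMat o = (5 : F) • (1 : M5 F) := by
  have h1 : ∀ i j k : Fin 5, i * k + -(k * j) = (i - j) * k := by decide
  have h2 : ∀ i j k : Fin 5, -(i * k) + k * j = (j - i) * k := by decide
  constructor <;> ext i j <;>
    simp only [fourMat, fourBar, Matrix.mul_apply, Matrix.of_apply, ← o.e_add, h1, h2, o.sum_e_mul,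
      sub_eq_zero, Matrix.smul_apply, Matrix.one_apply, smul_eq_mul, mul_ite, mul_one, mul_zero]
  by_cases h : i = j <;> simp [h, eq_comm]

theorem fourMat_sq : fourMat o * fourMat o = (5 : F) • (cent F : M5 F) := by
  have h : ∀ i j k : Fin 5, i * k + k * j = (i + j) * k := by decide
  ext i j
  show (fourMat o * fourMat o) i j = ((5 : F) • mono (fun j => -j) fun _ => (1 : F)) i j
  simp only [fourMat, mono, Matrix.mul_apply, Matrix.of_apply, ← o.e_add, h, o.sum_e_mul,
    add_eq_zero_iff_eq_neg, Matrix.smul_apply, smul_eq_mul, mul_ite, mul_one, mul_zero]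

theorem det_cent : (cent F : M5 F).det = 1 := by
  show (mono (⇑(Equiv.neg (Fin 5))) fun _ => (1 : F)).det = 1
  rw [det_mono_perm, show Equiv.Perm.sign (Equiv.neg (Fin 5)) = 1 by decide]
  simp

/-- The sign making the Fourier matrix of determinant one. -/
def Root5.sgn : F := (o.g⁻¹ • fourMat o).det

theorem Root5.sgn_sq : o.sgn ^ 2 = 1 := by
  rw [Root5.sgn, ← Matrix.det_pow, pow_two, Matrix.smul_mul, Matrix.mul_smul, smul_smul, fourMat_sq,
    smul_smul, ← mul_inv, ← pow_two, o.g_sq, inv_mul_cancel₀ o.five, one_smul, det_cent]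

theorem Root5.sgn_ne : o.sgn ≠ 0 := fun h => by
  have := o.sgn_sq
  rw [h] at this
  simp at this

/-- The Fourier matrix of determinant one. -/
def four : GL (Fin 5) F where
  val := (o.sgn * o.g⁻¹) • fourMat o
  inv := (o.sgn * o.g⁻¹) • fourBar o
  val_inv := by
    rw [Matrix.smul_mul, Matrix.mul_smul, smul_smul, (fourMat_mul_bar o).1, smul_smul,
      mul_mul_mul_comm, ← pow_two, o.sgn_sq, one_mul, ← mul_inv, ← pow_two, o.g_sq,
      inv_mul_cancel₀ o.five, one_smul]
  inv_val := by
    rw [Matrix.smul_mul, Matrix.mul_smul, smul_smul, (fourMat_mul_bar o).2, smul_smul,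
      mul_mul_mul_comm, ← pow_two, o.sgn_sq, one_mul, ← mul_inv, ← pow_two, o.g_sq,
      inv_mul_cancel₀ o.five, one_smul]

theorem four_sq : four o * four o = cent F := by
  refine Units.ext ?_
  show ((o.sgn * o.g⁻¹) • fourMat o) * ((o.sgn * o.g⁻¹) • fourMat o) = (cent F : M5 F)
  rw [Matrix.smul_mul, Matrix.mul_smul, smul_smul, fourMat_sq, smul_smul, mul_mul_mul_comm, ← pow_two,
    o.sgn_sq, one_mul, ← mul_inv, ← pow_two, o.g_sq, inv_mul_cancel₀ o.five, one_smul]

theorem chirp_weyl (a b : Fin 5) :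
    (chirp o : M5 F) * weyl o a b = o.e (-(b * b)) • (weyl o (a + 2 * b) b * (chirp o : M5 F)) := by
  have h : ∀ a b j : Fin 5, (j + b) * (j + b) + a * (j + b) =
      -(b * b) + ((a + 2 * b) * (j + b) + j * j) := by decide
  show mono _ _ * mono _ _ = _ • (mono _ _ * mono _ _)
  rw [mono_mul_mono, mono_mul_mono, smul_mono]
  refine mono_congr (fun _ => rfl) fun j => ?_
  rw [← o.e_add, h, o.e_add, o.e_add]

theorem dil_weyl (a b : Fin 5) :
    (dil F : M5 F) * weyl o a b = weyl o (3 * a) (2 * b) * (dil F : M5 F) := by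
  have h : ∀ a b j : Fin 5, 2 * (j + b) = 2 * j + 2 * b ∧ a * (j + b) = 3 * a * (2 * j + 2 * b) := by
    decide
  show mono _ _ * mono _ _ = mono _ _ * mono _ _
  rw [mono_mul_mono, mono_mul_mono]
  refine mono_congr (fun j => (h a b j).1) fun j => ?_
  rw [mul_comm, (h a b j).2]

theorem fin5_bijective_add (b : Fin 5) : Function.Bijective fun j : Fin 5 => j + b :=
  (Equiv.addRight b).bijective

theorem four_weyl (a b : Fin 5) :
    (four o : M5 F) * weyl o a b = o.e (a * b) • (weyl o b (-a) * (four o : M5 F)) := by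
  have h : ∀ a b i j : Fin 5, (i + -a) * (j + b) + a * (j + b) =
      a * b + (b * (i + -a) + i * j) := by decide
  show ((o.sgn * o.g⁻¹) • fourMat o) * weyl o a b = _ • (_ * ((o.sgn * o.g⁻¹) • fourMat o))
  rw [Matrix.smul_mul, Matrix.mul_smul, smul_comm (o.e (a * b))]
  congr 1
  ext i j
  obtain ⟨i, rfl⟩ := (fin5_bijective_add (-a)).2 i
  rw [Matrix.smul_apply, smul_eq_mul, weyl, weyl, mul_mono, mono_mul (fin5_bijective_add (-a))]
  simp only [fourMat, Matrix.of_apply]
  rw [← o.e_add, h, o.e_add, o.e_add]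

variable [Finite F]

theorem chirp_mem : chirp o ∈ subgroupNormalizer (heis o) :=
  mem_normalizer_of_weyl o fun a b => ⟨_, _, _, chirp_weyl o a b⟩

theorem four_mem : four o ∈ subgroupNormalizer (heis o) :=
  mem_normalizer_of_weyl o fun a b => ⟨_, _, _, four_weyl o a b⟩

theorem dil_mem : dil F ∈ subgroupNormalizer (heis o) :=
  mem_normalizer_of_weyl o fun a b => ⟨0, _, _, by rw [o.e_zero, one_smul]; exact dil_weyl o a b⟩

theorem heis_le_normalizer : heis o ≤ subgroupNormalizer (heis o) := Subgroup.le_normalizer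

/-! ### Determinants -/

theorem det_weyl_zero (a : Fin 5) : (weyl o a 0).det = 1 := by
  have hd : weyl o a 0 = Matrix.diagonal fun j => o.e (a * j) := by
    ext i j
    simp only [weyl, mono, Matrix.of_apply, add_zero, Matrix.diagonal_apply]
    by_cases h : i = j <;> simp [h]
  rw [hd, Matrix.det_diagonal, Fin.prod_univ_five, ← o.e_add, ← o.e_add, ← o.e_add, ← o.e_add,
    (by decide : ∀ c : Fin 5, c * 0 + c * 1 + c * 2 + c * 3 + c * 4 = 0) a, o.e_zero]

theorem det_four : (four o : M5 F).det = 1 := by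
  show ((o.sgn * o.g⁻¹) • fourMat o).det = 1
  rw [mul_smul, Matrix.det_smul, Fintype.card_fin, ← Root5.sgn]
  calc o.sgn ^ 5 * o.sgn = (o.sgn ^ 2) ^ 3 := by ring
    _ = 1 := by rw [o.sgn_sq, one_pow]

theorem det_weyl (a b : Fin 5) : (weyl o a b).det = 1 := by
  have hb : ∀ b, (weyl o 0 b).det = 1 := fun b => by
    have h := congrArg Matrix.det (four_weyl o 0 b)
    rw [zero_mul, o.e_zero, one_smul, neg_zero, Matrix.det_mul, Matrix.det_mul, det_four, one_mul,
      mul_one, det_weyl_zero] at h
    exact h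
  have h := weyl_mul o a 0 0 b
  rw [zero_mul, neg_zero, o.e_zero, one_smul, add_zero, zero_add] at h
  rw [← h, Matrix.det_mul, det_weyl_zero, hb, one_mul]

theorem det_chirp : (chirp o : M5 F).det = 1 := by
  have hd : (chirp o : M5 F) = Matrix.diagonal fun j => o.e (j * j) := by
    ext i j
    show mono _ _ i j = _
    simp only [mono, Matrix.of_apply, Matrix.diagonal_apply]
    by_cases h : i = j <;> simp [h]
  rw [hd, Matrix.det_diagonal, Fin.prod_univ_five, ← o.e_add, ← o.e_add, ← o.e_add, ← o.e_add]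
  exact o.e_zero

theorem det_dil : (dil F : M5 F).det = 1 := by
  let π : Equiv.Perm (Fin 5) :=
    ⟨fun j => 2 * j, fun j => 3 * j, fun j => (fin5_two_three j).2, fun j => (fin5_two_three j).1⟩
  have hd : (dil F : M5 F) = (-1 : F) • mono π fun _ => (1 : F) := by
    rw [smul_mono]
    show mono _ _ = mono _ _
    exact mono_congr (fun _ => rfl) fun _ => by simp
  rw [hd, Matrix.det_smul, det_mono_perm, show Equiv.Perm.sign π = -1 by decide, Fintype.card_fin]
  push_cast
  ring

theorem mem_specialLinear {g : GL (Fin 5) F} :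
    g ∈ specialLinear (Fin 5) F ↔ (g : M5 F).det = 1 := by
  rw [specialLinear, MonoidHom.mem_ker, Units.ext_iff, Matrix.GeneralLinearGroup.val_det_apply,
    Units.val_one]

theorem heis_le_specialLinear : heis o ≤ specialLinear (Fin 5) F := by
  rintro g ⟨k, a, b, hg⟩
  rw [mem_specialLinear, hg, Matrix.det_smul, det_weyl, mul_one, Fintype.card_fin, o.e_pow_five]

/-- The normaliser in `SL₅` of the Heisenberg group. -/
abbrev heisNormalizer : Subgroup (GL (Fin 5) F) :=
  subgroupNormalizer (heis o) ⊓ specialLinear (Fin 5) F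

theorem chirp_mem' : chirp o ∈ heisNormalizer o := ⟨chirp_mem o, mem_specialLinear.2 (det_chirp o)⟩
theorem dil_mem' : dil F ∈ heisNormalizer o := ⟨dil_mem o, mem_specialLinear.2 det_dil⟩
theorem four_mem' : four o ∈ heisNormalizer o := ⟨four_mem o, mem_specialLinear.2 (det_four o)⟩
theorem weyl_mem' (a b : Fin 5) : weylGL o a b ∈ heisNormalizer o :=
  ⟨heis_le_normalizer o (weylGL_mem o a b), heis_le_specialLinear o (weylGL_mem o a b)⟩

end CfsgLib.C6Five
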