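import Cfsg.Agent.C6Five.Endpoint
import Cfsg.Agent.C6Five.Isolation

/-!
# Overgroups of the normaliser of the Heisenberg group of order 125

One not normalising the Heisenberg group contains the special linear group.
-/

set_option autoImplicit false
set_option linter.unusedSectionVars false
set_option linter.style.haveILetI false

namespace CfsgLib.C6Five

open Matrix Cfsg.Geo CfsgLib.MaxSub

variable {F : Type*} [Field F] (o : Root5 F)

theorem cent_ne_one : cent F ≠ 1 := fun h => by
  have h' : mono (fun j => -j) (fun _ => (1 : F)) = 1 := congrArg Units.val h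
  have := congrFun (congrFun h' 1) 4
  simp (config := { decide := true }) [mono] at this

theorem cent_weyl_not_scalar :
    ¬ IsSc (cent F * weylGL o 1 0 * (cent F)⁻¹ * (weylGL o 1 0)⁻¹) := by
  rintro ⟨c, hc⟩
  have h : (cent F * weylGL o 1 0).1 = c • (weylGL o 1 0 * cent F).1 := by
    rw [show cent F * weylGL o 1 0 =
      cent F * weylGL o 1 0 * (cent F)⁻¹ * (weylGL o 1 0)⁻¹ * (weylGL o 1 0 * cent F) by group,
      Units.val_mul, hc, smul_mul_assoc, one_mul]
  rw [Units.val_mul, Units.val_mul, weylGL_val, show (cent F : M5 F) = mono (fun j => -j) fun _ => 1 from rfl,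
    weyl, mono_mul_mono, mono_mul_mono] at h
  have h0 := congrFun (congrFun h 0) 0
  have h1 := congrFun (congrFun h 4) 1
  simp (config := { decide := true }) [mono, o.e_zero] at h0 h1
  rw [← h0, one_mul] at h1
  exact absurd (o.e_injective h1) (by decide)

variable [Finite F]

theorem exists_not_normalises :
    ∃ t ∈ specialLinear (Fin 5) F, t ∉ subgroupNormalizer (heis o) := by
  refine ⟨tv (bv F 1) (bv F 2), tv_mem_specialLinear _ _, fun h => ?_⟩
  obtain ⟨k, a, b, hk⟩ := (Subgroup.mem_normalizer_iff.1 h (weylGL o 0 1)).1 (weylGL_mem o 0 1)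
  have hk' : (tv (bv F 1) (bv F 2) * weylGL o 0 1).1 = (o.e k • weyl o a b) * (tv (bv F 1) (bv F 2)).1 := by
    rw [← hk, ← Units.val_mul, inv_mul_cancel_right]
  rw [Units.val_mul, weylGL_val, tv_coe (by simp [bv])] at hk'
  have e1 := congrFun (congrFun hk' 1) 1
  have e2 := congrFun (congrFun hk' 2) 1
  have hne : ∀ i, o.e i ≠ 0 := o.e_ne_zero
  simp (config := { decide := true }) [weyl_apply, bv, Matrix.mul_apply, Fin.sum_univ_five, vecMulVec,
    Pi.single_apply, o.e_zero] at e1 e2
  revert e1 e2
  fin_cases b <;> simp (config := { decide := true }) [hne]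

/-- **An overgroup not normalising the Heisenberg group contains the special linear group.** -/
theorem specialLinear_le_of_heisNormalizer [Fintype F] {p : ℕ} [Fact p.Prime] (hF : Fintype.card F = p)
    (hp : 5 < p) {M : Subgroup (GL (Fin 5) F)} (hN : heisNormalizer o ≤ M)
    (hSL : M ≤ specialLinear (Fin 5) F) {g : GL (Fin 5) F} (hg : g ∈ M)
    (hgn : g ∉ subgroupNormalizer (heis o)) : specialLinear (Fin 5) F ≤ M := by
  have hz : cent F ∈ M := four_sq o ▸ M.mul_mem (hN (four_mem' o)) (hN (four_mem' o))
  have S : Setup o (M.map (toB o).toMonoidHom) := by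
    refine ⟨?_, ⟨_, hz, rfl⟩, ⟨_, hN (chirp_mem' o), rfl⟩, ⟨_, hN (four_mem' o), rfl⟩,
      ⟨_, hN (dil_mem' o), rfl⟩⟩
    rintro _ ⟨x, hx, rfl⟩
    exact (det_toB o x).trans (mem_specialLinear.1 (hSL hx))
  by_cases hU : Unip (M.map (toB o).toMonoidHom)
  · obtain ⟨a, ha, hb⟩ := transvection_of_unip o S hF hp hU
    exact specialLinear_le_of_transvection o hF hN ha hb
  · exfalso
    have Fc := facts_of_not_unip o S hF hp hU
    have hiso : ∀ x ∈ M, cent F * (x * cent F * x⁻¹) = x * cent F * x⁻¹ * cent F →
        x * cent F * x⁻¹ = cent F := by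
      intro x hx h
      apply (toB o).injective
      have h' := congrArg (toB o) h
      simp only [map_mul, map_inv] at h' ⊢
      exact isolated_of_facts o S Fc ⟨x, hx, rfl⟩ h'
    have hw : weylGL o 1 0 ∈ M := hN (weyl_mem' o 1 0)
    have hmem := commutator_mem_coreIn hz
      ((toB o).injective (by rw [map_mul, map_one]; exact zB_sq o))
      cent_ne_one hiso hw
    haveI : Group.IsSolvable (coreIn M) := Cfsg.Agent.S0205.result (odd_coreIn M)
    exact hgn (le_normalizer_of_solvable o hN
      (fun c hc => coreIn_conj fun x hx => M.mul_mem (M.mul_mem hc hx) (M.inv_mem hc))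
      ⟨_, hmem, cent_weyl_not_scalar o⟩ hg)

end CfsgLib.C6Five
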