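import Cfsg.Agent.C6Five.Centralizer
import Mathlib.LinearAlgebra.Matrix.Charpoly.Coeff
import Mathlib.Algebra.CharP.Lemmas

/-!
# A centraliser with an element of order `p` on the minus space gives a transvection

Otherwise the action on the plus space would turn the unipotent subgroup of the minus space into a root
group normalised in a way the Fourier matrix does not allow.
-/

set_option autoImplicit false
set_option linter.unusedSectionVars false
set_option linter.style.haveILetI false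

namespace CfsgLib.C6Five

open Matrix

variable {F : Type*} [Field F] (o : Root5 F) {X : Subgroup (GL Ix F)}

/-- Some element is unipotent up to scalars on the minus space. -/
def Unip (X : Subgroup (GL Ix F)) : Prop :=
  ∃ (A : M3 F) (B : M2 F) (β : F) (N : M2 F),
    Blk X A B ∧ N ≠ 0 ∧ N * N = 0 ∧ B = β • (1 + N)

/-- Elements scalar on the plus space are scalar on the minus space. -/
def Faith (X : Subgroup (GL Ix F)) : Prop :=
  ∀ (A : M3 F) (B : M2 F), Blk X A B → (∃ c : F, A = c • 1) → ∃ c : F, B = c • 1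

theorem w2_not_scalar : ¬ ∃ c : F, w2 o = c • 1 := by
  rintro ⟨c, h⟩
  have h01 := congrFun (congrFun h 0) 1
  simp [w2, o.kappa_ne, o.t_ne] at h01

theorem h2_not_scalar : ¬ ∃ c : F, h2 F = c • 1 := by
  rintro ⟨c, h⟩
  have h01 := congrFun (congrFun h 0) 1
  simp [h2] at h01

theorem hw2_not_scalar : ¬ ∃ c : F, h2 F * w2 o = c • 1 := by
  rintro ⟨c, h⟩
  have h01 := congrFun (congrFun h 0) 1
  simp [h2, w2, Matrix.mul_apply, Fin.sum_univ_two, o.kappa_ne, o.s_ne] at h01

/-- Parity of the fixed points of an involution of a finite set. -/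
theorem even_fixed {α : Type*} [DecidableEq α] (s : Finset α) (σ : α → α) (hσ : ∀ a ∈ s, σ a ∈ s)
    (h2 : ∀ a ∈ s, σ (σ a) = a) (he : Even s.card) : Even (s.filter fun a => σ a = a).card := by
  have hne : ∑ a ∈ s.filter (fun a => ¬ σ a = a), (1 : ZMod 2) = 0 := by
    refine Finset.sum_involution (fun a _ => σ a) (fun a _ => by decide) (fun a ha _ h => ?_)
      (fun a ha => ?_) fun a ha => ?_
    · exact (Finset.mem_filter.1 ha).2 h
    · obtain ⟨h1, h3⟩ := Finset.mem_filter.1 ha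
      refine Finset.mem_filter.2 ⟨hσ a h1, fun h => h3 ?_⟩
      rw [h2 a h1] at h
      exact h.symm
    · exact h2 a (Finset.mem_filter.1 ha).1
  rw [Finset.sum_const, nsmul_eq_mul, mul_one, ZMod.natCast_eq_zero_iff_even] at hne
  have := s.card_filter_add_card_filter_not (fun a => σ a = a)
  rw [← this] at he
  exact (Nat.even_add.1 he).2 hne

variable [Finite F] (S : Setup o X)
include S

/-- In the faithful case the kernel on the plus space has odd order. -/
theorem odd_plusK (hK : Faith X) : Odd (Nat.card (plusK X)) := by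
  classical
  haveI : Fintype (plusK X) := Fintype.ofFinite _
  by_contra hodd
  rw [Nat.not_odd_iff_even] at hodd
  set G := plusK X
  have hn := S.plusK_norm o
  set σh : G → G := fun a => ⟨h3GL F * a * (h3GL F)⁻¹, hn.h a a.2⟩
  set σw : G → G := fun a => ⟨w3GL o * a * (w3GL o)⁻¹, hn.w a a.2⟩
  have hhh : h3GL F * h3GL F = 1 := Units.ext h3_sq
  have hww : w3GL o * w3GL o = 1 := Units.ext (w3_sq o)
  have hwh : h3GL F * w3GL o = w3GL o * h3GL F := Units.ext (by
    rw [Units.val_mul, Units.val_mul]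
    ext i j
    fin_cases i <;> fin_cases j <;>
      simp [h3GL, w3GL, h3, w3, Matrix.mul_apply, Fin.sum_univ_three])
  have h1 := even_fixed (Finset.univ : Finset G) (fun a => a⁻¹) (fun a _ => Finset.mem_univ _)
    (fun a _ => inv_inv a) (by rw [Finset.card_univ, ← Nat.card_eq_fintype_card]; exact hodd)
  set s1 := Finset.univ.filter fun a : G => a⁻¹ = a
  have h2' := even_fixed s1 σh (fun a ha => ?_) (fun a _ => ?_) h1
  rotate_left
  · simp only [s1, Finset.mem_filter, Finset.mem_univ, true_and] at ha ⊢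
    refine Subtype.ext ?_
    have ha' : (a : GL (Fin 3) F)⁻¹ = a := congrArg Subtype.val ha
    show (h3GL F * (a : GL (Fin 3) F) * (h3GL F)⁻¹)⁻¹ = h3GL F * a * (h3GL F)⁻¹
    rw [_root_.mul_inv_rev, _root_.mul_inv_rev, inv_inv, ha', mul_assoc]
  · refine Subtype.ext ?_
    show h3GL F * (h3GL F * (a : GL (Fin 3) F) * (h3GL F)⁻¹) * (h3GL F)⁻¹ = a
    rw [show h3GL F * (h3GL F * (a : GL (Fin 3) F) * (h3GL F)⁻¹) * (h3GL F)⁻¹ =
      h3GL F * h3GL F * a * (h3GL F * h3GL F)⁻¹ by group, hhh, one_mul, inv_one, mul_one]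
  set s2 := s1.filter fun a => σh a = a
  have h3' := even_fixed s2 σw (fun a ha => ?_) (fun a _ => ?_) h2'
  rotate_left
  · simp only [s2, s1, Finset.mem_filter, Finset.mem_univ, true_and] at ha ⊢
    have ha' : (a : GL (Fin 3) F)⁻¹ = a := congrArg Subtype.val ha.1
    have hah : h3GL F * (a : GL (Fin 3) F) * (h3GL F)⁻¹ = a := congrArg Subtype.val ha.2
    refine ⟨Subtype.ext ?_, Subtype.ext ?_⟩
    · show (w3GL o * (a : GL (Fin 3) F) * (w3GL o)⁻¹)⁻¹ = w3GL o * a * (w3GL o)⁻¹
      rw [_root_.mul_inv_rev, _root_.mul_inv_rev, inv_inv, ha', mul_assoc]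
    · show h3GL F * (w3GL o * (a : GL (Fin 3) F) * (w3GL o)⁻¹) * (h3GL F)⁻¹ =
        w3GL o * a * (w3GL o)⁻¹
      calc h3GL F * (w3GL o * (a : GL (Fin 3) F) * (w3GL o)⁻¹) * (h3GL F)⁻¹ =
          (h3GL F * w3GL o) * a * (h3GL F * w3GL o)⁻¹ := by group
        _ = w3GL o * (h3GL F * (a : GL (Fin 3) F) * (h3GL F)⁻¹) * (w3GL o)⁻¹ := by rw [hwh]; group
        _ = _ := by rw [hah]
  · refine Subtype.ext ?_
    show w3GL o * (w3GL o * (a : GL (Fin 3) F) * (w3GL o)⁻¹) * (w3GL o)⁻¹ = a
    rw [show w3GL o * (w3GL o * (a : GL (Fin 3) F) * (w3GL o)⁻¹) * (w3GL o)⁻¹ =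
      w3GL o * w3GL o * a * (w3GL o * w3GL o)⁻¹ by group, hww, one_mul, inv_one, mul_one]
  obtain ⟨t, ht, ht1⟩ : ∃ t ∈ s2.filter (fun a => σw a = a), t ≠ 1 := by
    refine Finset.exists_mem_ne ?_ 1
    have h1m : (1 : G) ∈ s2.filter (fun a => σw a = a) := by
      simp only [s2, s1, Finset.mem_filter, Finset.mem_univ, true_and]
      exact ⟨⟨inv_one, Subtype.ext (by simp [σh])⟩, Subtype.ext (by simp [σw])⟩
    have := Finset.card_pos.2 ⟨_, h1m⟩
    obtain ⟨k, hk⟩ := h3'
    omega
  simp only [s2, s1, Finset.mem_filter, Finset.mem_univ, true_and] at ht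
  obtain ⟨⟨hinv, hh⟩, hw⟩ := ht
  have hb : Blk X (t : GL (Fin 3) F).1 1 := t.2
  have e1 : (t : GL (Fin 3) F).1 * (t : GL (Fin 3) F).1 = 1 := by
    have : (t : GL (Fin 3) F) * t = 1 := by
      nth_rw 1 [show (t : GL (Fin 3) F) = (t : GL (Fin 3) F)⁻¹ from (congrArg Subtype.val hinv).symm]
      exact inv_mul_cancel _
    exact congrArg Units.val this
  have e2 : (t : GL (Fin 3) F).1.det = 1 := by simpa using S.blk_det o hb
  have e3 : (t : GL (Fin 3) F).1 * h3 F = h3 F * (t : GL (Fin 3) F).1 :=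
    congrArg Units.val (mul_inv_eq_iff_eq_mul.1 (congrArg Subtype.val hh :
      h3GL F * (t : GL (Fin 3) F) * (h3GL F)⁻¹ = t)).symm
  have e4 : (t : GL (Fin 3) F).1 * w3 o = w3 o * (t : GL (Fin 3) F).1 :=
    congrArg Units.val (mul_inv_eq_iff_eq_mul.1 (congrArg Subtype.val hw :
      w3GL o * (t : GL (Fin 3) F) * (w3GL o)⁻¹ = t)).symm
  rcases involution_cases o e1 e2 e3 e4 with e | e | e | e
  · exact ht1 (Subtype.ext (Units.ext e))
  · refine h2_not_scalar (hK _ _ ((hb.mul (S.blk_h o))) ⟨1, ?_⟩ |>.imp fun c hc => by simpa using hc)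
    rw [e, h3_sq, one_smul]
  · refine w2_not_scalar o (hK _ _ ((hb.mul (S.blk_w o))) ⟨1, ?_⟩ |>.imp fun c hc => by simpa using hc)
    rw [e, w3_sq, one_smul]
  · refine hw2_not_scalar o (hK _ _ (hb.mul ((S.blk_h o).mul (S.blk_w o))) ⟨1, ?_⟩ |>.imp
      fun c hc => by simpa using hc)
    rw [one_smul, ← e]
    exact e1

/-- In the faithful case an element scalar on the minus space is scalar. -/
theorem scalar_of_faith (hK : Faith X) {A : M3 F} {β : F} (h : Blk X A (β • (1 : M2 F))) :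
    ∃ c : F, A = c • 1 := by
  have hsc : ∀ a ∈ plusK X, IsSc a := isSc_of_odd3 o (odd_plusK o S hK) (S.plusK_norm o)
  let D : Subgroup (GL (Fin 3) F) :=
    { carrier := {a | ∃ β : F, Blk X a.1 (β • (1 : M2 F))}
      one_mem' := ⟨1, by simpa using Blk.one⟩
      mul_mem' := fun {a b} ⟨β, ha⟩ ⟨γ, hb⟩ =>
        ⟨β * γ, by simpa [smul_smul, mul_comm] using ha.mul hb⟩
      inv_mem' := fun {a} ⟨β, ha⟩ => by
        obtain ⟨A', B', h', hA, -, hB, -⟩ := ha.inv
        refine ⟨β⁻¹, ?_⟩
        rw [Units.inv_eq_of_mul_eq_one_right hA]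
        have hβ : β ≠ 0 := fun h0 => by simp [h0] at hB
        rw [smul_mul_assoc, one_mul] at hB
        rwa [← hB, inv_smul_smul₀ hβ] }
  have hcomm : ∀ a ∈ D, ∀ b ∈ D, IsSc (a * b * a⁻¹ * b⁻¹) := by
    rintro a ⟨β, ha⟩ b ⟨γ, hb⟩
    refine hsc _ ?_
    obtain ⟨A', B', ha', hA, -, hB, -⟩ := ha.inv
    obtain ⟨A'', B'', hb', hA2, -, hB2, -⟩ := hb.inv
    have := ((ha.mul hb).mul ha').mul hb'
    rw [mem_plusK, Units.val_mul, Units.val_mul, Units.val_mul, Units.inv_eq_of_mul_eq_one_right hA,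
      Units.inv_eq_of_mul_eq_one_right hA2]
    rw [smul_mul_assoc, one_mul] at hB hB2
    have e : β • (1 : M2 F) * (γ • 1) * B' * B'' = (β • B') * (γ • B'') := by
      simp [smul_mul_assoc, mul_smul_comm, smul_smul, mul_comm]
    rw [e, hB, hB2, one_mul] at this
    exact this
  haveI : Group.IsSolvable D := by
    refine (Group.isSolvable_def D).2 ⟨2, ?_⟩
    have hle : derivedSeries D 1 ≤ Subgroup.center D := by
      rw [derivedSeries_succ, derivedSeries_zero, Subgroup.commutator_le]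
      intro a _ b _
      refine Subgroup.mem_center_iff.2 fun x => Subtype.ext (Units.ext ?_)
      obtain ⟨c, hc⟩ := hcomm a a.2 b b.2
      rw [commutatorElement_def]
      simp only [Subgroup.coe_mul, Subgroup.coe_inv, Units.val_mul] at hc ⊢
      rw [hc]
      simp
    rw [derivedSeries_succ, Subgroup.commutator_eq_bot_iff_le_centralizer]
    exact fun a ha => Subgroup.mem_centralizer_iff.2 fun b hb =>
      Subgroup.mem_center_iff.1 (hle ha) b
  have hDn : ∀ {g : GL (Fin 3) F} {B : M2 F}, Blk X g.1 B → ∀ a ∈ D, g * a * g⁻¹ ∈ D := by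
    rintro g B hg a ⟨β, ha⟩
    obtain ⟨A', B', h', hA, -, hB, -⟩ := hg.inv
    refine ⟨β, ?_⟩
    rw [Units.val_mul, Units.val_mul, Units.inv_eq_of_mul_eq_one_right hA]
    simpa [hB] using (hg.mul ha).mul h'
  have hDN : Norm3 o D := ⟨hDn (B := u2 o) (S.blk_u o), hDn (B := w2 o) (S.blk_w o),
    hDn (B := h2 F) (S.blk_h o)⟩
  exact isSc_of_solvable3 o hDN (GeneralLinearGroup.mkOfDetNeZero A (S.det_ne o h).1) ⟨β, h⟩

omit S [Finite F] in
theorem kernel_vector {N : M2 F} (hN : N ≠ 0) (hsq : N * N = 0) :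
    ∃ v : Fin 2 → F, v ≠ 0 ∧ N *ᵥ v = 0 := by
  obtain ⟨j, hj⟩ : ∃ j, N *ᵥ Pi.single j 1 ≠ 0 := by
    by_contra hall
    push Not at hall
    refine hN (Matrix.ext_of_mulVec_single fun j => ?_)
    rw [hall j, zero_mulVec]
  exact ⟨_, hj, by rw [mulVec_mulVec, hsq, zero_mulVec]⟩

/-- With a unipotent element the image on the minus space contains the special linear group. -/
theorem sl_le_proj2 [Fintype F] {p : ℕ} [Fact p.Prime] (hF : Fintype.card F = p) (hU : Unip X)
    {g : GL (Fin 2) F} (hg : g.1.det = 1) : g ∈ proj2 X := by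
  obtain ⟨A, B, β, N, hb, hN, hsq, hB⟩ := hU
  have hβ : β ≠ 0 := fun h0 => (S.det_ne o hb).2 (by simp [hB, h0])
  let t : GL (Fin 2) F := ⟨1 + N, 1 - N, by rw [add_mul, mul_sub, mul_sub, hsq]; simp,
    by rw [sub_mul, mul_add, mul_add, hsq]; simp⟩
  have ht : t ∈ proj2 X := mem_proj2 (c := β⁻¹) hb (by
    show 1 + N = β⁻¹ • B
    rw [hB, inv_smul_smul₀ hβ])
  obtain ⟨v, hv, hNv⟩ := kernel_vector hN hsq
  have key : ∀ k : GL (Fin 2) F, k ∈ proj2 X →
      v 0 * (k.1 *ᵥ v) 1 - v 1 * (k.1 *ᵥ v) 0 ≠ 0 → g ∈ proj2 X := by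
    intro k hk hi
    refine sl_mem_of_two hF ht ((proj2 X).mul_mem ((proj2 X).mul_mem hk ht) ((proj2 X).inv_mem hk))
      (N₁ := N) (N₂ := k.1 * N * (k⁻¹).1) rfl ?_ hsq ?_ hNv ?_ hi hN ?_ hg
    · rw [Units.val_mul, Units.val_mul]
      show k.1 * (1 + N) * (k⁻¹).1 = _
      rw [mul_add, add_mul, mul_one, Units.mul_inv]
    · rw [show k.1 * N * (k⁻¹).1 * (k.1 * N * (k⁻¹).1) = k.1 * N * ((k⁻¹).1 * k.1) * N * (k⁻¹).1 by
        simp only [mul_assoc], Units.inv_mul, mul_one, mul_assoc k.1, hsq, mul_zero, zero_mul]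
    · rw [mulVec_mulVec, mul_assoc, Units.inv_mul, mul_one, ← mulVec_mulVec, hNv, mulVec_zero]
    · intro h0
      refine hN ?_
      have := congrArg (fun M => (k⁻¹).1 * M * k.1) h0
      simpa [mul_assoc] using this
  by_cases h0 : v 0 = 0 ∨ v 1 = 0
  · refine key _ (S.h2_mem o) ?_
    rw [h2GL_val]
    have hne : v 0 ≠ 0 ∨ v 1 ≠ 0 := by
      by_contra hc
      push Not at hc
      exact hv (funext fun i => by fin_cases i; exacts [hc.1, hc.2])
    rcases h0 with h | h <;> simp [h2, mulVec, dotProduct, Fin.sum_univ_two, h] <;> tauto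
  · push Not at h0
    refine key _ (S.u2_mem o) ?_
    rw [u2GL_val]
    simp [u2, mulVec, dotProduct, Fin.sum_univ_two]
    intro h
    exact absurd (o.e_injective (mul_left_cancel₀ (mul_ne_zero h0.1 h0.2)
      (show v 0 * v 1 * o.e 4 = v 0 * v 1 * o.e 1 by linear_combination h))) (by decide)

/-- An element scalar on the plus space but not on the minus space gives a transvection. -/
theorem transvection_of_not_faith [Fintype F] {p : ℕ} [Fact p.Prime] (hF : Fintype.card F = p)
    (hp : 5 < p) (hU : Unip X) (hK : ¬ Faith X) : ∃ a : F, a ≠ 0 ∧ Blk X 1 !![1, a; 0, 1] := by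
  haveI : CharP F p := charP_of_card_eq_prime (R := F) hF
  have h2 : (2 : F) ≠ 0 := o.two
  simp only [Faith, not_forall] at hK
  obtain ⟨A, B, hb, ⟨l, hA⟩, hB⟩ := hK
  have hdet : ∀ x ∈ botS X, x.1.det = 1 := fun x hx => by simpa using S.blk_det o hx
  have hn : ∀ g : GL (Fin 2) F, g.1.det = 1 → ∀ x ∈ botS X, g * x * g⁻¹ ∈ botS X := fun g hg =>
    S.botS_conj o (sl_le_proj2 o S hF hU hg)
  set b := GeneralLinearGroup.mkOfDetNeZero B (S.det_ne o hb).2 with hbdef
  have hcom : ∀ g : GL (Fin 2) F, g.1.det = 1 → g * b * g⁻¹ * b⁻¹ ∈ botS X := by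
    intro g hg
    obtain ⟨A₁, B₁, c, h₁, e⟩ := sl_le_proj2 o S hF hU hg
    obtain ⟨A₂, B₂, h₂, hA₂, -, hB₂, -⟩ := h₁.inv
    obtain ⟨A', B', h', hA', -, hB', -⟩ := hb.inv
    have hc : c ≠ 0 := fun h0 => g.ne_zero (by rw [e, h0, zero_smul])
    have hall := ((h₁.mul hb).mul h₂).mul h'
    rw [mem_botS, Units.val_mul, Units.val_mul, Units.val_mul, e,
      show (g⁻¹).1 = c⁻¹ • B₂ from Units.inv_eq_of_mul_eq_one_right (by
        rw [e, smul_mul_assoc, mul_smul_comm, smul_smul, mul_inv_cancel₀ hc, hB₂, one_smul]),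
      show (b⁻¹).1 = B' from Units.inv_eq_of_mul_eq_one_right hB', show b.1 = B from rfl]
    convert hall using 1
    · rw [hA, mul_smul_comm, mul_one, smul_mul_assoc, hA₂, ← hA, hA']
    · simp only [smul_mul_assoc, mul_smul_comm, smul_smul, mul_inv_cancel₀ hc, one_smul,
        inv_mul_cancel₀ hc]
  have hns : ∃ x ∈ botS X, ¬ ∃ c : F, x.1 = c • 1 := by
    by_contra hall
    push Not at hall
    have key : ∀ g : GL (Fin 2) F, g.1.det = 1 → ∃ γ : F, g.1 * B = γ • (B * g.1) := by
      intro g hg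
      obtain ⟨γ, hγ⟩ := hall _ (hcom g hg)
      refine ⟨γ, ?_⟩
      have := congrArg (fun M => M * (b.1 * g.1)) hγ
      simp only [Units.val_mul, smul_mul_assoc, one_mul] at this
      rw [show b.1 = B from rfl] at this
      rw [← this]
      simp only [mul_assoc]
      rw [← mul_assoc (b⁻¹).1, show (b⁻¹).1 * B = 1 from Units.inv_mul b, one_mul, Units.inv_mul, mul_one]
    obtain ⟨γ, hγ⟩ := key (upGL 1) (by simp [upGL, det_fin_two])
    obtain ⟨δ, hδ⟩ := key (loGL 1) (by simp [loGL, det_fin_two])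
    have hd := (S.det_ne o hb).2
    rw [det_fin_two] at hd
    have hsq : ∀ γ : F, B.det = γ ^ 2 * B.det → γ = 1 ∨ γ = -1 := fun γ h =>
      sq_eq_one_iff.1 (mul_right_cancel₀ (S.det_ne o hb).2 (h.symm.trans (one_mul _).symm))
    have d1 := congrArg Matrix.det hγ
    have d2 := congrArg Matrix.det hδ
    simp [det_mul, det_smul, upGL, loGL, det_fin_two, Matrix.vecMul, dotProduct, Matrix.mul_apply, Fin.sum_univ_two] at d1 d2
    have a00 := congrFun (congrFun hγ 0) 0; have a10 := congrFun (congrFun hγ 1) 0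
    have a11 := congrFun (congrFun hγ 1) 1
    have b00 := congrFun (congrFun hδ 0) 0; have b01 := congrFun (congrFun hδ 0) 1
    have b10 := congrFun (congrFun hδ 1) 0
    simp [upGL, loGL, Matrix.mul_apply, Matrix.vecMul, dotProduct, Fin.sum_univ_two] at a00 a10 a11 b00 b01 b10
    rcases hsq γ (by rw [det_fin_two]; linear_combination d1) with rfl | rfl
    · rcases hsq δ (by rw [det_fin_two]; linear_combination d2) with rfl | rfl
      · refine hB ⟨B 0 0, ?_⟩
        have z1 : B 1 0 = 0 := by linear_combination a00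
        have z2 : B 0 1 = 0 := by linear_combination -b00
        ext i j
        fin_cases i <;> fin_cases j <;> simp [z1, z2]
        linear_combination -b10
      · have z2 : B 0 1 = 0 := mul_left_cancel₀ h2 (by linear_combination b01)
        have z0 : B 0 0 = 0 := mul_left_cancel₀ h2 (by linear_combination b00 - z2)
        exact hd (by simp [z2, z0])
    · have z1 : B 1 0 = 0 := mul_left_cancel₀ h2 (by linear_combination a10)
      have z0 : B 0 0 = 0 := mul_left_cancel₀ h2 (by linear_combination a00 - z1)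
      exact hd (by simp [z1, z0])
  obtain ⟨a, ha, hmem⟩ := exists_upGL_mem hF hp hdet hn hns
  exact ⟨a, ha, hmem⟩

omit S [Finite F] in
theorem pow_three_eq_zero {N : M3 F} (h : IsNilpotent N) : N ^ 3 = 0 := by
  have h1 := Matrix.isNilpotent_charpoly_sub_pow_of_isNilpotent h
  rw [isNilpotent_iff_eq_zero, sub_eq_zero, Fintype.card_fin] at h1
  have := N.aeval_self_charpoly
  rw [h1] at this
  simpa using this

omit S [Finite F] in
theorem pow_one_add {N : M3 F} (hN : N ^ 3 = 0) (m : ℕ) :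
    ∃ c : F, (1 + N) ^ m = 1 + (m : F) • N + c • N ^ 2 := by
  induction m with
  | zero => exact ⟨0, by simp⟩
  | succ m ih =>
    obtain ⟨c, hc⟩ := ih
    refine ⟨c + m, ?_⟩
    have h3 : N ^ 2 * N = 0 := by rw [← pow_succ, hN]
    rw [pow_succ, hc]
    simp only [mul_add, mul_one, add_mul, one_mul, smul_mul_assoc, h3, smul_zero, ← pow_two,
      Nat.cast_succ, add_smul, one_smul]
    abel

omit S [Finite F] in
theorem eq_one_of_smul_unipotent {p : ℕ} [Fact p.Prime] [CharP F p] {U V : M3 F} {c : F}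
    (hc : c ^ (p - 1) = 1) (hU : U ^ p = 1) (hV : V ^ p = 1) (h : U = c • V) : c = 1 := by
  have h1 := congrArg (· ^ p) h
  simp only [hU, smul_pow, hV] at h1
  have h2 : c ^ p = 1 := by simpa using (congrFun (congrFun h1 0) 0).symm
  rwa [show p = p - 1 + 1 from (Nat.sub_add_cancel (Fact.out : p.Prime).one_le).symm, pow_succ, hc,
    one_mul] at h2

/-- The faithful case cannot have a unipotent element. -/
theorem not_unip_of_faith [Fintype F] {p : ℕ} [Fact p.Prime] (hF : Fintype.card F = p) (hp : 5 < p)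
    (hU : Unip X) (hK : Faith X) : False := by
  haveI : CharP F p := charP_of_card_eq_prime (R := F) hF
  have hfer : ∀ c : F, c ≠ 0 → c ^ (p - 1) = 1 := fun c hc => hF ▸ FiniteField.pow_card_sub_one_eq_one c hc
  obtain ⟨A, B, c, hAB, hc⟩ := sl_le_proj2 o S hF hU (g := upGL 1) (by simp [upGL, det_fin_two])
  have hc0 : c ≠ 0 := fun h0 => (upGL (1 : F)).ne_zero (by rw [hc, h0, zero_smul])
  set n := (p - 1) * (p - 1) with hn
  have hBn : B ^ n = !![1, 1; 0, 1] := by
    have h := congrArg (· ^ n) hc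
    simp only [smul_pow, hn, pow_mul, hfer c hc0, one_pow, one_smul] at h
    rw [← pow_mul, ← Units.val_pow_eq_pow_val, upGL_pow] at h
    rw [hn, pow_mul]
    rw [← h]
    congr 1
    ext i j
    fin_cases i <;> fin_cases j <;> simp [Nat.cast_sub (Fact.out : p.Prime).one_le]
  obtain ⟨a, ha, hna, ha1⟩ : ∃ a : M3 F, Blk X a !![1, 1; 0, 1] ∧ IsNilpotent (a - 1) ∧ a ^ p = 1 := by
    refine ⟨A ^ n, hBn ▸ hAB.pow n, ?_⟩
    have hp2 : Odd p := (Fact.out : p.Prime).odd_of_ne_two (by omega)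
    have hup : ∀ k : ℕ, (!![1, 1; 0, 1] : M2 F) ^ k = !![1, (k : F); 0, 1] := fun k => by
      have := upGL_pow (1 : F) k
      rwa [Units.val_pow_eq_pow_val, mul_one] at this
    have hBp : B ^ p = (c⁻¹) • 1 := by
      have h : B = c⁻¹ • !![1, 1; 0, 1] := by
        rw [show (!![1, 1; 0, 1] : M2 F) = (upGL (1 : F)).1 from rfl, hc, inv_smul_smul₀ hc0]
      rw [h, smul_pow, hup, CharP.cast_eq_zero, show (c⁻¹) ^ p = c⁻¹ by
        rw [show p = p - 1 + 1 from (Nat.sub_add_cancel (Fact.out : p.Prime).one_le).symm, pow_succ,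
          hfer _ (inv_ne_zero hc0), one_mul]]
      congr 1
      ext i j
      fin_cases i <;> fin_cases j <;> simp
    obtain ⟨l, hl⟩ := scalar_of_faith o S hK (hBp ▸ hAB.pow p)
    have hl0 : l ≠ 0 := fun h0 => (S.det_ne o (hAB.pow p)).1 (by simp [hl, h0])
    have hap : (A ^ n) ^ p = 1 := by
      rw [← pow_mul, mul_comm, pow_mul, hl, smul_pow, one_pow, hn, pow_mul, hfer l hl0, one_pow, one_smul]
    refine ⟨⟨p, ?_⟩, hap⟩
    rw [sub_pow_char_of_commute p (Commute.one_right _), hap, one_pow, sub_self]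
  set N := a - 1 with hN
  have hN3 := pow_three_eq_zero hna
  have haN : a = 1 + N := by rw [hN]; abel
  have hN0 : N ≠ 0 := fun h0 => by
    obtain ⟨k, hk⟩ := hK a _ ha ⟨1, by rw [haN, h0, add_zero, one_smul]⟩
    have h01 := congrFun (congrFun hk 0) 1
    simp at h01
  -- the chirp multiplies the logarithm
  obtain ⟨m, hm⟩ := exists_natCast_eq hF (o.e 2)
  have hupm : (!![1, 1; 0, 1] : M2 F) ^ m = !![1, o.e 2; 0, 1] := by
    have := upGL_pow (1 : F) m
    rwa [Units.val_pow_eq_pow_val, mul_one, hm] at this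
  obtain ⟨U', V', hu', hUU', hU'U, hVV', -⟩ := (S.blk_u o).inv
  have hucj : U' = ((u3GL o)⁻¹).1 := (Units.inv_eq_of_mul_eq_one_right (u := u3GL o) hUU').symm
  have hconjB : u2 o * !![1, 1; 0, 1] * V' = !![1, o.e 2; 0, 1] := by
    have : u2 o * !![1, 1; 0, 1] = !![1, o.e 2; 0, 1] * u2 o := by
      ext i j
      fin_cases i <;> fin_cases j <;>
        simp [u2, Matrix.mul_apply, Fin.sum_univ_two, ← o.e_add, show ((2 : Fin 5) + 4) = 1 by decide]
    rw [this, mul_assoc, hVV', mul_one]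
  obtain ⟨am', bm', hm', ham, -, hbm, -⟩ := (ha.pow m).inv
  have hker := (((S.blk_u o).mul ha).mul hu').mul hm'
  rw [hconjB, ← hupm, hbm, ← one_smul F (1 : M2 F)] at hker
  obtain ⟨l, hl⟩ := scalar_of_faith o S hK hker
  have hcjm : cj (u3GL o) a = l • a ^ m := by
    have h := congrArg (· * a ^ m) hl
    simp only [smul_mul_assoc, one_mul] at h
    rw [cj, show (u3GL o).1 = u3 o from rfl, ← hucj, ← h]
    rw [mul_assoc _ am', mul_eq_one_comm.1 ham, mul_one]
  have hcjpow : ∀ k : ℕ, cj (u3GL o) a ^ k = cj (u3GL o) (a ^ k) := by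
    intro k
    induction k with
    | zero => simp [cj]
    | succ k ih =>
      rw [pow_succ, ih, pow_succ, cj, cj, cj]
      simp only [mul_assoc]
      rw [← mul_assoc ((u3GL o)⁻¹).1, Units.inv_mul, one_mul]
  have hl1 : l = 1 := eq_one_of_smul_unipotent (hfer l fun h0 => by
      have hd := congrArg Matrix.det hcjm
      rw [h0, zero_smul, det_zero, cj, det_units_conj] at hd
      exact (S.det_ne o ha).1 hd)
    (by rw [hcjpow, ha1]; simp [cj]) (by rw [← pow_mul, mul_comm, pow_mul, ha1, one_pow]) hcjm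
  obtain ⟨γ, hγ⟩ := pow_one_add hN3 m
  have hcjN : cj (u3GL o) N = o.e 2 • N + γ • N ^ 2 := by
    rw [haN, hl1, one_smul, hγ, hm] at hcjm
    simp only [cj, mul_add, add_mul, mul_one, Units.mul_inv] at hcjm ⊢
    rw [add_assoc] at hcjm
    exact add_left_cancel hcjm
  have hcjN2 : cj (u3GL o) (N ^ 2) = o.e 4 • N ^ 2 := by
    have h4 : N ^ 2 * N = 0 := by rw [← pow_succ, hN3]
    have h5 : N * N ^ 2 = 0 := by rw [← pow_succ', hN3]
    have h6 : N ^ 2 * N ^ 2 = 0 := by rw [pow_two, ← mul_assoc, ← pow_two, h4, zero_mul]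
    rw [show cj (u3GL o) (N ^ 2) = cj (u3GL o) N * cj (u3GL o) N by
      simp only [cj, pow_two, mul_assoc]
      rw [← mul_assoc ((u3GL o)⁻¹).1, Units.inv_mul, one_mul], hcjN]
    simp only [mul_add, add_mul, smul_mul_assoc, mul_smul_comm, h4, h5, h6, smul_zero, add_zero,
      smul_smul, ← o.e_add, show ((2 : Fin 5) + 2) = 4 by decide]
    rw [← pow_two]
  have g2 := fun i j => congrFun (congrFun hcjN2 i) j
  simp only [cj_u3, Matrix.smul_apply, smul_eq_mul] at g2
  have z2 : ∀ i j, eta i - eta j ≠ 4 → (N ^ 2) i j = 0 := fun i j h => by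
    by_contra hne
    exact h (o.e_injective (mul_right_cancel₀ hne (g2 i j)))
  have g1 := fun i j => congrFun (congrFun hcjN i) j
  simp only [cj_u3, Matrix.add_apply, Matrix.smul_apply, smul_eq_mul] at g1
  have z1 : ∀ i j, eta i - eta j ≠ 2 → eta i - eta j ≠ 4 → N i j = 0 := fun i j h h' => by
    by_contra hne
    have := g1 i j
    rw [z2 i j h', mul_zero, add_zero] at this
    exact h (o.e_injective (mul_right_cancel₀ hne this))
  have n00 := z1 0 0 (by decide) (by decide); have n02 := z1 0 2 (by decide) (by decide)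
  have n10 := z1 1 0 (by decide) (by decide); have n11 := z1 1 1 (by decide) (by decide)
  have n21 := z1 2 1 (by decide) (by decide); have n22 := z1 2 2 (by decide) (by decide)
  have q10 := z2 1 0 (by decide); have q02 := z2 0 2 (by decide); have q21 := z2 2 1 (by decide)
  simp [pow_two, Matrix.mul_apply, Fin.sum_univ_three, n00, n02, n10, n11, n21, n22] at q10 q02 q21
  have n12 : N 1 2 ≠ 0 := by
    intro h12
    have hq : N ^ 2 = 0 := by
      ext i j
      fin_cases i <;> fin_cases j <;>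
        simp [pow_two, Matrix.mul_apply, Fin.sum_univ_three, n00, n02, n10, n11, n21, n22, h12] <;>
        grind
    refine hN0 ?_
    ext i j
    by_contra hne
    have := g1 i j
    rw [hq, Matrix.zero_apply, mul_zero, add_zero] at this
    have h2 := o.e_injective (mul_right_cancel₀ (by simpa using hne) this)
    revert h2 hne
    fin_cases i <;> fin_cases j <;>
      simp (config := { decide := true }) [n00, n02, n10, n11, n21, n22, h12, eta]
  have n01 : N 0 1 = 0 := by grind
  have n20 : N 2 0 = 0 := by grind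
  set α := N 1 2 with hα
  have hNE : N = α • Matrix.single 1 2 1 := by
    ext i j
    fin_cases i <;> fin_cases j <;> simp [n00, n01, n02, n10, n11, n20, n21, n22, hα, Matrix.single_apply]
  -- the elements whose plus part fixes the first coordinate
  let G : Subgroup (GL (Fin 2) F) :=
    { carrier := {g | ∃ A : M3 F, Blk X A g.1 ∧ A 0 1 = 0 ∧ A 0 2 = 0}
      one_mem' := ⟨1, by simpa using Blk.one, by simp, by simp⟩
      mul_mem' := fun {g g'} ⟨A, h, h1, h2⟩ ⟨A', h', h1', h2'⟩ =>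
        ⟨A * A', by simpa using h.mul h', by simp [Matrix.mul_apply, Fin.sum_univ_three, h1, h2, h1'],
          by simp [Matrix.mul_apply, Fin.sum_univ_three, h1, h2, h2']⟩
      inv_mem' := fun {g} ⟨A, h, h1, h2⟩ => by
        obtain ⟨A', B', h', hA, -, hB, -⟩ := h.inv
        refine ⟨A', by rw [Units.inv_eq_of_mul_eq_one_right hB]; exact h', ?_⟩
        have e00 := congrFun (congrFun hA 0) 0
        have e01 := congrFun (congrFun hA 0) 1
        have e02 := congrFun (congrFun hA 0) 2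
        simp [Matrix.mul_apply, Fin.sum_univ_three, h1, h2] at e00 e01 e02
        have hne : A 0 0 ≠ 0 := fun h0 => by simp [h0] at e00
        exact ⟨e01.resolve_left hne, e02.resolve_left hne⟩ }
  have hup : upGL (1 : F) ∈ G := ⟨a, ha, by rw [haN, hNE]; simp [Matrix.single_apply],
    by rw [haN, hNE]; simp [Matrix.single_apply]⟩
  obtain ⟨Hh', hh2', hh', hHH, -, hhh, -⟩ := (S.blk_h o).inv
  have hlo : loGL (-1 : F) ∈ G := by
    refine ⟨h3 F * a * Hh', ?_, ?_, ?_⟩
    · have := ((S.blk_h o).mul ha).mul hh'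
      have e : h2 F * !![1, 1; 0, 1] * hh2' = (loGL (-1 : F)).1 := by
        have : h2 F * !![1, 1; 0, 1] = (loGL (-1 : F)).1 * h2 F := by
          ext i j
          fin_cases i <;> fin_cases j <;> simp [h2, loGL, Matrix.mul_apply, Fin.sum_univ_two]
        rw [this, mul_assoc, hhh, mul_one]
      rwa [e] at this
    all_goals
      rw [show Hh' = h3 F from (left_inv_eq_right_inv h3_sq hHH).symm, haN, hNE]
      simp [h3, Matrix.mul_apply, Matrix.vecMul, dotProduct, Fin.sum_univ_three, Matrix.single_apply]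
  obtain ⟨Hw', hw2', hw', hWW, -, hww, -⟩ := (S.blk_w o).inv
  set g := w2GL o * upGL 1 * (w2GL o)⁻¹ with hgdef
  have hg : g.1.det = 1 := by
    rw [hgdef, Units.val_mul, Units.val_mul, det_units_conj]
    simp [upGL, det_fin_two]
  obtain ⟨Ag, hAg, g01, g02⟩ := sl_mem_of_upLo hF one_ne_zero (neg_ne_zero.2 one_ne_zero) hup hlo hg
  have hw1 := ((S.blk_w o).mul ha).mul hw'
  obtain ⟨Ag', Bg', hAg', hAA, -, hBB, -⟩ := hAg.inv
  have hgval : g.1 = w2 o * !![1, 1; 0, 1] * hw2' := by
    rw [hgdef, Units.val_mul, Units.val_mul, w2GL_val,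
      Units.inv_eq_of_mul_eq_one_right (u := w2GL o) hww]
    rfl
  have hker' := hw1.mul hAg'
  rw [← hgval, hBB, ← one_smul F (1 : M2 F)] at hker'
  obtain ⟨k, hk⟩ := scalar_of_faith o S hK hker'
  have hW : w3 o * a * Hw' = k • Ag := by
    have h := congrArg (· * Ag) hk
    simp only [smul_mul_assoc, one_mul] at h
    rw [← h, mul_assoc _ Ag', mul_eq_one_comm.1 hAA, mul_one]
  have h01 := congrFun (congrFun hW 0) 1
  rw [show Hw' = w3 o from (left_inv_eq_right_inv (w3_sq o) hWW).symm, haN, hNE, Matrix.smul_apply, g01,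
    smul_zero, mul_add, add_mul, mul_one, w3_sq] at h01
  simp [w3, Matrix.mul_apply, Matrix.vecMul, dotProduct, Fin.sum_univ_three, Matrix.single_apply, o.kappa_ne, o.d_ne, o.two] at h01
  exact n12 (hα ▸ h01)

/-- **The case of an element of order `p` on the minus space.** -/
theorem transvection_of_unip [Fintype F] {p : ℕ} [Fact p.Prime] (hF : Fintype.card F = p) (hp : 5 < p)
    (hU : Unip X) : ∃ a : F, a ≠ 0 ∧ Blk X 1 !![1, a; 0, 1] := by
  by_cases hK : Faith X
  · exact (not_unip_of_faith o S hF hp hU hK).elim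
  · exact transvection_of_not_faith o S hF hp hU hK

end CfsgLib.C6Five
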