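import Mathlib.RingTheory.RootsOfUnity.Basic
import Mathlib.FieldTheory.Finite.Basic
import Mathlib.Tactic.LinearCombination
import Mathlib.Data.Fin.VecNotation
import Mathlib.Algebra.CharP.CharAndCard
import Mathlib.GroupTheory.Perm.Cycle.Type

/-!
# A fifth root of unity, its Gauss sum and the character of `Fin 5` it defines
-/

set_option autoImplicit false
set_option linter.unusedSectionVars false
set_option linter.style.haveILetI false

namespace CfsgLib.C6Five

/-- A primitive fifth root of unity, with two and five invertible. -/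
structure Root5 (F : Type*) [Field F] where
  w : F
  sum : w ^ 4 + w ^ 3 + w ^ 2 + w + 1 = 0
  five : (5 : F) ≠ 0
  two : (2 : F) ≠ 0

variable {F : Type*} [Field F] (o : Root5 F)

theorem Root5.pow_five : o.w ^ 5 = 1 := by linear_combination (o.w - 1) * o.sum

theorem Root5.ne_zero : o.w ≠ 0 := fun h => by
  have := o.sum
  rw [h] at this
  simp at this

theorem Root5.ne_one : o.w ≠ 1 := fun h => by
  have := o.sum
  rw [h] at this
  exact o.five (by linear_combination this)

theorem Root5.pow_mod (n : ℕ) : o.w ^ n = o.w ^ (n % 5) := pow_eq_pow_mod n o.pow_five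

/-- The character `i ↦ ω ^ i` of `Fin 5`. -/
def Root5.e (i : Fin 5) : F := o.w ^ (i : ℕ)

theorem Root5.e_zero : o.e 0 = 1 := by simp [Root5.e]
theorem Root5.e_one : o.e 1 = o.w := by simp [Root5.e]

theorem Root5.e_add (i j : Fin 5) : o.e (i + j) = o.e i * o.e j := by
  rw [Root5.e, Root5.e, Root5.e, ← pow_add, Fin.val_add, ← o.pow_mod]

theorem Root5.e_ne_zero (i : Fin 5) : o.e i ≠ 0 := pow_ne_zero _ o.ne_zero

theorem Root5.e_neg (i : Fin 5) : o.e (-i) = (o.e i)⁻¹ := by
  refine eq_inv_of_mul_eq_one_left ?_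
  rw [← o.e_add, neg_add_cancel, o.e_zero]

theorem Root5.e_pow (i : Fin 5) (k : ℕ) : o.e i ^ k = o.w ^ ((i : ℕ) * k) := (pow_mul _ _ _).symm

theorem Root5.e_pow_five (i : Fin 5) : o.e i ^ 5 = 1 := by
  rw [Root5.e_pow, mul_comm, pow_mul, o.pow_five, one_pow]

theorem Root5.e_eq_one {i : Fin 5} (h : o.e i = 1) : i = 0 := by
  have hd : orderOf o.w = 5 :=
    haveI : Fact (Nat.Prime 5) := ⟨Nat.prime_five⟩
    orderOf_eq_prime o.pow_five o.ne_one
  have h' := orderOf_dvd_of_pow_eq_one (show o.w ^ (i : ℕ) = 1 from h)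
  rw [hd] at h'
  exact Fin.ext (Nat.eq_zero_of_dvd_of_lt h' i.isLt)

theorem Root5.e_injective : Function.Injective o.e := fun i j h => by
  refine sub_eq_zero.1 (o.e_eq_one ?_)
  rw [sub_eq_add_neg, o.e_add, o.e_neg, h, mul_inv_cancel₀ (o.e_ne_zero j)]

theorem Root5.sum_e : ∑ i, o.e i = 0 := by
  simp [Root5.e, Fin.sum_univ_five]
  linear_combination o.sum

/-- Orthogonality of the characters. -/
theorem Root5.sum_e_mul (a : Fin 5) : ∑ i, o.e (a * i) = if a = 0 then 5 else 0 := by
  split_ifs with h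
  · subst h
    simp [o.e_zero]
  · rw [← o.sum_e]
    refine Fintype.sum_bijective (fun i => a * i) ?_ _ _ fun _ => rfl
    revert a
    decide

/-- The Gauss sum. -/
def Root5.g : F := o.w + o.w ^ 4 - o.w ^ 2 - o.w ^ 3

theorem Root5.g_sq : o.g ^ 2 = 5 := by
  have h5 := o.pow_five
  have hs := o.sum
  unfold Root5.g
  grind

theorem Root5.g_ne : o.g ≠ 0 := fun h => o.five (by rw [← o.g_sq, h]; ring)

/-- A prime field of order `p ≡ 1 (mod 5)` has a primitive fifth root of unity. -/
theorem exists_root5 [Fintype F] {p : ℕ} (hp : p.Prime) (hF : Fintype.card F = p) (h1 : p % 5 = 1) :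
    Nonempty (Root5 F) := by
  classical
  haveI : Fact p.Prime := ⟨hp⟩
  haveI : CharP F p := charP_of_card_eq_prime (R := F) hF
  have h5p : (5 : F) ≠ 0 := by
    intro h
    have h' : ((5 : ℕ) : F) = 0 := by exact_mod_cast h
    rw [CharP.cast_eq_zero_iff F p, Nat.prime_dvd_prime_iff_eq hp Nat.prime_five] at h'
    omega
  have h2p : (2 : F) ≠ 0 := by
    intro h
    have h' : ((2 : ℕ) : F) = 0 := by exact_mod_cast h
    rw [CharP.cast_eq_zero_iff F p, Nat.prime_dvd_prime_iff_eq hp Nat.prime_two] at h'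
    omega
  haveI : Fact (Nat.Prime 5) := ⟨Nat.prime_five⟩
  obtain ⟨u, hu⟩ := exists_prime_orderOf_dvd_card (G := Fˣ) 5 (by
    rw [Fintype.card_units, hF]
    omega)
  have h1' : (u : F) ≠ 1 := fun e => by
    rw [Units.val_eq_one.1 e, orderOf_one] at hu
    norm_num at hu
  have h5 : (u : F) ^ 5 = 1 := by
    rw [← Units.val_pow_eq_pow_val, ← hu, pow_orderOf_eq_one, Units.val_one]
  refine ⟨⟨u, ?_, h5p, h2p⟩⟩
  exact (mul_eq_zero.1 (show ((u : F) - 1) * ((u : F) ^ 4 + (u : F) ^ 3 + (u : F) ^ 2 + u + 1) = 0 by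
    linear_combination h5)).resolve_left (sub_ne_zero.2 h1')

end CfsgLib.C6Five
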