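import Cfsg.Agent.C6Five.Blocks
import Cfsg.Agent.C6Five.Lin
import Cfsg.Agent.S0205
import Mathlib.GroupTheory.PGroup

/-!
# The three-dimensional action of `A₅`

A soluble group normalised by the three generators is scalar, and the involutions commuting with the
four-group they contain lie in it.
-/

set_option autoImplicit false
set_option linter.unusedSectionVars false
set_option linter.style.haveILetI false

namespace CfsgLib.C6Five

open Matrix

variable {F : Type*} [Field F] (o : Root5 F)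

/-- The matrices of dimension three. -/
abbrev M3 (F : Type*) := Matrix (Fin 3) (Fin 3) F

theorem w3_sq : w3 o * w3 o = 1 := by
  have h := congrArg (fun g => (toB o g).1) (four_sq o)
  simp only [map_mul, Units.val_mul, toB_four, toB_cent, fromBlocks_multiply] at h
  simpa using congrArg Matrix.toBlocks₁₁ h

theorem h3_sq : h3 F * h3 F = 1 := by
  ext i j
  fin_cases i <;> fin_cases j <;> simp [h3, Matrix.mul_apply, Fin.sum_univ_three]

/-- The chirp on the plus space, as an invertible matrix. -/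
def u3GL : GL (Fin 3) F where
  val := u3 o
  inv := !![1, 0, 0; 0, o.e 4, 0; 0, 0, o.e 1]
  val_inv := by
    ext i j
    fin_cases i <;> fin_cases j <;>
      simp [u3, Matrix.mul_apply, Fin.sum_univ_three, ← o.e_add, o.e_zero]
  inv_val := by
    ext i j
    fin_cases i <;> fin_cases j <;>
      simp [u3, Matrix.mul_apply, Fin.sum_univ_three, ← o.e_add, o.e_zero]

variable (F) in
/-- The dilation on the plus space, as an invertible matrix. -/
def h3GL : GL (Fin 3) F := ⟨h3 F, h3 F, h3_sq, h3_sq⟩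

/-- The Fourier matrix on the plus space, as an invertible matrix. -/
def w3GL : GL (Fin 3) F := ⟨w3 o, w3 o, w3_sq o, w3_sq o⟩

/-- A group normalised by the three generators. -/
structure Norm3 (D : Subgroup (GL (Fin 3) F)) : Prop where
  u : ∀ x ∈ D, u3GL o * x * (u3GL o)⁻¹ ∈ D
  w : ∀ x ∈ D, w3GL o * x * (w3GL o)⁻¹ ∈ D
  h : ∀ x ∈ D, h3GL F * x * (h3GL F)⁻¹ ∈ D

theorem mul_mem_spanOf {ι : Type} [Fintype ι] [DecidableEq ι] {D : Subgroup (GL ι F)} {X Y : Matrix ι ι F}
    (hX : X ∈ spanOf D) (hY : Y ∈ spanOf D) : X * Y ∈ spanOf D := by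
  induction hX using Submodule.span_induction with
  | mem W hW =>
    induction hY using Submodule.span_induction with
    | mem V hV =>
      obtain ⟨a, ha, rfl⟩ := hW
      obtain ⟨b, hb, rfl⟩ := hV
      exact Submodule.subset_span ⟨a * b, D.mul_mem ha hb, Units.val_mul a b⟩
    | zero => rw [mul_zero]; exact Submodule.zero_mem _
    | add A B _ _ hA hB => rw [mul_add]; exact Submodule.add_mem _ hA hB
    | smul r A _ hA => rw [mul_smul_comm]; exact Submodule.smul_mem _ _ hA
  | zero => rw [zero_mul]; exact Submodule.zero_mem _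
  | add A B _ _ hA hB => rw [add_mul]; exact Submodule.add_mem _ hA hB
  | smul r A _ hA => rw [smul_mul_assoc]; exact Submodule.smul_mem _ _ hA

/-- The exponent of the chirp eigenvalue on a basis vector. -/
def eta : Fin 3 → Fin 5 := ![0, 1, 4]

theorem cj_u3 (X : M3 F) (i j : Fin 3) : cj (u3GL o) X i j = o.e (eta i - eta j) * X i j := by
  have h1 : u3 o = Matrix.diagonal fun i => o.e (eta i) := by
    ext i j
    fin_cases i <;> fin_cases j <;> simp [u3, eta, o.e_zero]
  have h2 : ((u3GL o)⁻¹ : GL (Fin 3) F).1 = Matrix.diagonal fun i => o.e (-eta i) := by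
    show !![1, 0, 0; 0, o.e 4, 0; 0, 0, o.e 1] = _
    ext i j
    fin_cases i <;> fin_cases j <;>
      simp [eta, o.e_zero, (by decide : (-1 : Fin 5) = 4), (by decide : (-4 : Fin 5) = 1)]
  show (u3 o * X * ((u3GL o)⁻¹ : GL (Fin 3) F).1) i j = _
  rw [h1, h2, Matrix.mul_diagonal, Matrix.diagonal_mul, mul_right_comm, ← o.e_add, sub_eq_add_neg]

theorem Root5.e_mul_nat (a n : Fin 5) : o.e a ^ (n : ℕ) = o.e (a * n) := by
  rw [Root5.e_pow, Root5.e, Fin.val_mul, ← o.pow_mod]

theorem Root5.c_ne : o.c ≠ 0 := fun h => by simpa [h] using o.c_mul_d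
theorem Root5.d_ne : o.d ≠ 0 := fun h => by simpa [h] using o.c_mul_d

/-- A non-scalar normalised group spans a space containing the root matrix. -/
theorem single_mem_spanOf {D : Subgroup (GL (Fin 3) F)} (hD : Norm3 o D) (hns : ∃ x ∈ D, ¬ IsSc x) :
    Matrix.single 1 2 (1 : F) ∈ spanOf D := by
  set S := spanOf D
  have hu : ∀ X ∈ S, cj (u3GL o) X ∈ S := fun X hX => cj_mem_spanOf hD.u hX
  have hw : ∀ X ∈ S, w3 o * X * w3 o ∈ S := fun X hX => cj_mem_spanOf hD.w hX
  have hh : ∀ X ∈ S, h3 F * X * h3 F ∈ S := fun X hX => cj_mem_spanOf hD.h hX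
  -- the eigencomponents of the chirp
  set P : Fin 5 → M3 F → M3 F := fun l X =>
    ∑ n : Fin 5, o.e (-l) ^ (n : ℕ) • (cj (u3GL o))^[(n : ℕ)] X with hP
  have hPmem : ∀ l, ∀ X ∈ S, P l X ∈ S := fun l X hX =>
    S.sum_mem fun n _ => S.smul_mem _ (by
      generalize (n : ℕ) = k
      induction k with
      | zero => exact hX
      | succ k ih => rw [Function.iterate_succ_apply']; exact hu _ ih)
  have hPval : ∀ l X i j, P l X i j = if eta i - eta j = l then 5 * X i j else 0 := by
    intro l X i j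
    have hit : ∀ k, (cj (u3GL o))^[k] X i j = o.e (eta i - eta j) ^ k * X i j := by
      intro k
      induction k with
      | zero => simp
      | succ k ih => rw [Function.iterate_succ_apply', cj_u3, ih, pow_succ]; ring
    have h : ∀ a b n : Fin 5, -a * n + b * n = (b - a) * n := by decide
    simp only [hP, Matrix.sum_apply, Matrix.smul_apply, smul_eq_mul, hit, ← mul_assoc,
      o.e_mul_nat, ← o.e_add, h, ← Finset.sum_mul, o.sum_e_mul, ite_mul, zero_mul, sub_eq_zero]
  by_contra hno
  have h12 : ∀ X ∈ S, X 1 2 = 0 := by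
    intro X hX
    by_contra hne
    refine hno ?_
    have h := S.smul_mem (5 * X 1 2)⁻¹ (hPmem 2 X hX)
    rw [show P 2 X = (5 * X 1 2) • Matrix.single 1 2 (1 : F) from Matrix.ext fun i j => by
      rw [hPval]; fin_cases i <;> fin_cases j <;> simp (config := { decide := true }) [eta],
      inv_smul_smul₀ (mul_ne_zero o.five hne)] at h
    exact h
  have h21 : ∀ X ∈ S, X 2 1 = 0 := fun X hX => by
    simpa [h3, Matrix.mul_apply, Matrix.vecMul, dotProduct, Fin.sum_univ_three] using h12 _ (hh X hX)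
  -- the linear conditions coming from the Fourier matrix
  have heq : ∀ X ∈ S, 2 * X 0 0 + o.d * X 0 1 + o.c * X 0 2 + 2 * o.c * X 1 0 + o.c * o.d * X 1 1 +
      2 * o.d * X 2 0 + o.c * o.d * X 2 2 + o.c * o.c * X 1 2 + o.d * o.d * X 2 1 = 0 := by
    intro X hX
    have h := h12 _ (hw X hX)
    simp [w3, Matrix.mul_apply, Matrix.vecMul, dotProduct, Fin.sum_univ_three] at h
    have hk := pow_ne_zero 2 o.kappa_ne
    refine (mul_eq_zero.1 (show o.kappa ^ 2 * _ = 0 from ?_)).resolve_left hk
    linear_combination h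
  obtain ⟨x, hx, hns'⟩ := hns
  refine hns' ⟨x.1 0 0, ?_⟩
  have hxS : x.1 ∈ S := mem_spanOf hx
  have h5 := o.five
  have hcd := o.c_mul_d
  have h2 := o.two
  -- the component of weight one
  have k1 : x.1 1 0 = 0 ∧ x.1 0 2 = 0 := by
    have hm := hPmem 1 _ hxS
    have e1 := heq _ hm
    have e2 := h12 _ (mul_mem_spanOf hm hm)
    simp (config := { decide := true }) [hPval, eta, Matrix.mul_apply, Fin.sum_univ_three, show ((1 : Fin 5) - 4) = 2 by decide,
      show ((4 : Fin 5) - 1) = 3 by decide] at e1 e2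
    have hl : 2 * x.1 1 0 + x.1 0 2 = 0 :=
      (mul_eq_zero.1 (show (5 * o.c) * (2 * x.1 1 0 + x.1 0 2) = 0 by linear_combination e1)).resolve_left
        (mul_ne_zero h5 o.c_ne)
    rcases e2 with h | h <;> first
      | exact ⟨h, by linear_combination hl - 2 * h⟩
      | exact ⟨(mul_eq_zero.1 (show 2 * x.1 1 0 = 0 by linear_combination hl - h)).resolve_left h2, h⟩
      | exact absurd h h5
      | grind
  have k4 : x.1 0 1 = 0 ∧ x.1 2 0 = 0 := by
    have hm := hPmem 4 _ hxS
    have e1 := heq _ hm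
    have e2 := h21 _ (mul_mem_spanOf hm hm)
    simp (config := { decide := true }) [hPval, eta, Matrix.mul_apply, Fin.sum_univ_three, show ((1 : Fin 5) - 4) = 2 by decide,
      show ((4 : Fin 5) - 1) = 3 by decide, show ((0 : Fin 5) - 1) = 4 by decide,
      show ((0 : Fin 5) - 4) = 1 by decide] at e1 e2
    have hl : x.1 0 1 + 2 * x.1 2 0 = 0 :=
      (mul_eq_zero.1 (show (5 * o.d) * (x.1 0 1 + 2 * x.1 2 0) = 0 by linear_combination e1)).resolve_left
        (mul_ne_zero h5 o.d_ne)
    rcases e2 with h | h <;> first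
      | exact ⟨by linear_combination hl - 2 * h, h⟩
      | exact ⟨h, (mul_eq_zero.1 (show 2 * x.1 2 0 = 0 by linear_combination hl - h)).resolve_left h2⟩
      | exact absurd h h5
      | grind
  have k0 : x.1 1 1 = x.1 0 0 ∧ x.1 2 2 = x.1 0 0 := by
    have hm := hPmem 0 _ hxS
    have e1 := heq _ hm
    have e2 := heq _ (mul_mem_spanOf hm hm)
    simp (config := { decide := true }) [hPval, eta, Matrix.mul_apply, Fin.sum_univ_three, show ((1 : Fin 5) - 4) = 2 by decide,
      show ((4 : Fin 5) - 1) = 3 by decide, show ((0 : Fin 5) - 1) = 4 by decide,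
      show ((0 : Fin 5) - 4) = 1 by decide] at e1 e2
    have l1 : 2 * x.1 0 0 = x.1 1 1 + x.1 2 2 := mul_left_cancel₀ h5 (by
      linear_combination e1 - (5 * x.1 1 1 + 5 * x.1 2 2) * hcd)
    have l2 : 2 * x.1 0 0 ^ 2 = x.1 1 1 ^ 2 + x.1 2 2 ^ 2 := mul_left_cancel₀ (pow_ne_zero 2 h5) (by
      linear_combination e2 - (25 * x.1 1 1 ^ 2 + 25 * x.1 2 2 ^ 2) * hcd)
    have h0 : x.1 1 1 - x.1 2 2 = 0 := eq_zero_of_pow_eq_zero (n := 2) (by
      linear_combination (-(2 : F)) * l2 + (2 * x.1 0 0 + (x.1 1 1 + x.1 2 2)) * l1)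
    refine ⟨mul_left_cancel₀ h2 ?_, mul_left_cancel₀ h2 ?_⟩
    · linear_combination h0 - l1
    · linear_combination -h0 - l1
  have e12 := h12 _ hxS
  have e21 := h21 _ hxS
  ext i j
  fin_cases i <;> fin_cases j <;> simp [k1.1, k1.2, k4.1, k4.2, k0.1, k0.2, e12, e21]

/-- The centraliser of a non-scalar normalised group is scalar. -/
theorem isSc_of_centralises3 {D : Subgroup (GL (Fin 3) F)} (hD : Norm3 o D) (hns : ∃ x ∈ D, ¬ IsSc x)
    {z : GL (Fin 3) F} (hz : ∀ x ∈ D, Commute z x) : IsSc z := by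
  have h12 := single_mem_spanOf o hD hns
  have h21 : h3 F * Matrix.single 1 2 (1 : F) * h3 F ∈ spanOf D := cj_mem_spanOf hD.h h12
  have hY : w3 o * Matrix.single 1 2 (1 : F) * w3 o ∈ spanOf D := cj_mem_spanOf hD.w h12
  have c := fun {X : M3 F} (hX : X ∈ spanOf D) =>
    (commute_spanOf (Z := z.1) (fun x hx => congrArg Units.val (hz x hx)) hX).eq
  have e21 : h3 F * Matrix.single 1 2 (1 : F) * h3 F = Matrix.single 2 1 1 := by
    ext i j
    fin_cases i <;> fin_cases j <;>
      simp [h3, Matrix.mul_apply, Matrix.vecMul, dotProduct, Fin.sum_univ_three, Matrix.single_apply]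
  rw [e21] at h21
  have a := fun i j => congrFun (congrFun (c h12) i) j
  have b := fun i j => congrFun (congrFun (c h21) i) j
  have p01 := a 0 2; have p21 := a 2 2; have p02 := b 0 1; have p12 := b 1 1
  have p10 := a 1 0; have p20 := b 2 0; have p11 := a 1 2
  simp [Matrix.mul_apply, Fin.sum_univ_three, Matrix.single_apply] at p01 p21 p02 p12 p10 p20 p11
  have y := congrFun (congrFun (c hY) 0) 1
  simp [w3, Matrix.mul_apply, Matrix.vecMul, dotProduct, Fin.sum_univ_three, Matrix.single_apply, p01, p21,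
    p02, p12, ← p10, ← p20] at y
  have hne : o.kappa * 2 * (o.kappa * o.d) ≠ 0 :=
    mul_ne_zero (mul_ne_zero o.kappa_ne o.two) (mul_ne_zero o.kappa_ne o.d_ne)
  have e11 : z.1 0 0 = z.1 1 1 := mul_right_cancel₀ hne (by linear_combination y)
  refine ⟨z.1 0 0, ?_⟩
  ext i j
  fin_cases i <;> fin_cases j <;> simp [p01, p21, p02, p12, ← p10, ← p20, ← p11, e11]

/-- Nearly abelian groups with scalar centraliser are small. -/
theorem card_map_pr_le {ι : Type} [Fintype ι] [DecidableEq ι] [Nonempty ι] [Finite F] {E : Subgroup (GL ι F)}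
    (hc : ∀ x ∈ E, ∀ y ∈ E, pr x * pr y = pr y * pr x)
    (hz : ∀ z ∈ E, (∀ x ∈ E, Commute z x) → IsSc z) :
    Nat.card (E.map (pr (F := F) (ι := ι))) ≤ Fintype.card ι * Fintype.card ι := by
  classical
  haveI : Fintype (E.map (pr (F := F) (ι := ι))) := Fintype.ofFinite _
  choose f hfE hf using fun q : E.map (pr (F := F) (ι := ι)) => q.2
  have key : ∀ y ∈ E, ∀ q, ∃ l : F, cj y (f q).1 = l • (f q).1 := fun y hy q => by
    have h := hc y hy (f q) (hfE q)
    rw [← map_mul, ← map_mul, pr_eq, Units.val_mul, Units.val_mul] at h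
    obtain ⟨l, hl⟩ := h
    exact ⟨l, cj_of_mul hl⟩
  choose χ hχ using key
  have hsep : ∀ q a, q ≠ a → ∃ y, ∃ hy : y ∈ E, χ y hy q ≠ χ y hy a := by
    intro q a hqa
    by_contra hn
    push Not at hn
    refine hqa (Subtype.ext ?_)
    rw [← hf q, ← hf a, ← mul_inv_eq_one, ← map_inv, ← map_mul, pr_eq_one]
    refine hz _ (E.mul_mem (hfE q) (E.inv_mem (hfE a))) fun y hy => ?_
    have ha : cj y ((f a)⁻¹ : GL ι F).1 = (χ y hy a)⁻¹ • ((f a)⁻¹ : GL ι F).1 := by
      have hl0 : χ y hy a ≠ 0 := fun h0 => by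
        have h := hχ y hy a
        rw [h0, zero_smul, cj_val] at h
        exact (y * f a * y⁻¹).ne_zero h
      rw [cj_val, show y * (f a)⁻¹ * y⁻¹ = (y * f a * y⁻¹)⁻¹ by group]
      refine Units.inv_eq_of_mul_eq_one_right ?_
      rw [← cj_val, hχ y hy, smul_mul_assoc, mul_smul_comm, smul_smul, mul_inv_cancel₀ hl0, Units.mul_inv,
        one_smul]
    have h1 : cj y (f q * (f a)⁻¹ : GL ι F).1 = ((f q * (f a)⁻¹ : GL ι F)).1 := by
      have hl0 : χ y hy a ≠ 0 := fun h0 => by
        have h := hχ y hy a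
        rw [h0, zero_smul, cj_val] at h
        exact (y * f a * y⁻¹).ne_zero h
      have : cj y ((f q).1 * ((f a)⁻¹ : GL ι F).1) = cj y (f q).1 * cj y ((f a)⁻¹ : GL ι F).1 := by
        simp [cj, mul_assoc]
      rw [Units.val_mul, this, hχ y hy, ha, hn y hy, smul_mul_assoc, mul_smul_comm, smul_smul,
        mul_inv_cancel₀ hl0, one_smul]
    rw [cj_val] at h1
    exact (mul_inv_eq_iff_eq_mul.1 (Units.ext h1)).symm
  have hli : LinearIndependent F fun q => (f q).1 := by
    rw [linearIndependent_iff']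
    intro s
    induction s using Finset.induction with
    | empty => simp
    | insert a s ha ih =>
      intro g hg q hq
      have hs : ∀ i ∈ s, g i = 0 := by
        intro i hi
        obtain ⟨y, hy, hne⟩ := hsep i a (fun e => ha (e ▸ hi))
        have h2 := congrArg (cj y) hg
        simp only [cj, Finset.mul_sum, Finset.sum_mul] at h2
        rw [mul_zero, zero_mul] at h2
        have h3 : ∀ k, y.1 * (g k • (f k).1) * (y⁻¹ : GL ι F).1 = (g k * χ y hy k) • (f k).1 := fun k => by
          rw [mul_smul_comm, smul_mul_assoc, show y.1 * (f k).1 * (y⁻¹ : GL ι F).1 = _ from hχ y hy k,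
            smul_smul]
        simp only [h3] at h2
        have h4 : ∑ k ∈ insert a s, (g k * (χ y hy k - χ y hy a)) • (f k).1 = 0 := by
          have e : ∀ k, (g k * (χ y hy k - χ y hy a)) • (f k).1 =
              (g k * χ y hy k) • (f k).1 - χ y hy a • (g k • (f k).1) := fun k => by
            rw [mul_sub, sub_smul, smul_smul, mul_comm (χ y hy a)]
          rw [Finset.sum_congr rfl fun k _ => e k, Finset.sum_sub_distrib, h2, ← Finset.smul_sum, hg,
            smul_zero, sub_zero]
        rw [Finset.sum_insert ha, sub_self, mul_zero, zero_smul, zero_add] at h4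
        exact (mul_eq_zero.1 (ih _ h4 i hi)).resolve_right (sub_ne_zero.2 hne)
      rcases Finset.mem_insert.1 hq with rfl | hq
      · rw [Finset.sum_insert ha, Finset.sum_eq_zero (fun i hi => by rw [hs i hi, zero_smul]), add_zero] at hg
        exact (smul_eq_zero.1 hg).resolve_right (f q).ne_zero
      · exact hs q hq
  have h := hli.fintype_card_le_finrank
  rw [Module.finrank_matrix, Module.finrank_self, mul_one] at h
  rwa [Nat.card_eq_fintype_card]

theorem pow_three_five {c : F} (h3 : c ^ 3 = 1) (h5 : c ^ 5 = 1) : c = 1 := by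
  linear_combination (c ^ 3 + 1) * h3 - c * h5

variable [Finite F]

/-- **A soluble normalised group is scalar.** -/
theorem isSc_of_solvable3 {D : Subgroup (GL (Fin 3) F)} [Group.IsSolvable D] (hD : Norm3 o D) :
    ∀ x ∈ D, IsSc x := by
  classical
  haveI : Fact (Nat.Prime 5) := ⟨Nat.prime_five⟩
  haveI : Fact (Nat.Prime 3) := ⟨Nat.prime_three⟩
  by_contra hall
  push Not at hall
  obtain ⟨E, -, hEns, hEc, hEn⟩ := exists_nearly_abelian hall
  have hE : Norm3 o E := ⟨hEn _ hD.u, hEn _ hD.w, hEn _ hD.h⟩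
  have hz : ∀ z ∈ E, (∀ x ∈ E, Commute z x) → IsSc z := fun z _ h => isSc_of_centralises3 o hE hEns h
  set Q := E.map (pr (F := F) (ι := Fin 3))
  have hQ3 : IsPGroup 3 Q := fun q => ⟨1, Subtype.ext (by
    obtain ⟨x, hx, e⟩ := q.2
    rw [pow_one, SubmonoidClass.coe_pow, ← e, Subgroup.coe_one, ← map_pow, pr_eq_one]
    refine hz _ (E.pow_mem hx 3) fun y hy => ?_
    simpa using commute_pow_card (hEc x hx y hy))⟩
  have hle : Nat.card Q ≤ 3 * 3 := by
    have h := card_map_pr_le hEc hz
    rwa [Fintype.card_fin] at h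
  obtain ⟨k, hk⟩ := IsPGroup.iff_card.1 hQ3
  set c := pr (u3GL o)
  have hc5 : c ^ 5 = 1 := by
    rw [← map_pow, pr_eq_one]
    refine ⟨1, ?_⟩
    rw [one_smul, Units.val_pow_eq_pow_val, show ((u3GL o : GL (Fin 3) F) : M3 F) = u3 o from rfl,
      show u3 o = Matrix.diagonal ![1, o.e 1, o.e 4] by
        ext i j; fin_cases i <;> fin_cases j <;> simp [u3], Matrix.diagonal_pow, ← Matrix.diagonal_one]
    congr 1
    funext i
    fin_cases i <;> simp [o.e_pow_five]
  have hQn : ∀ q ∈ Q, c * q * c⁻¹ ∈ Q := by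
    rintro _ ⟨x, hx, rfl⟩
    exact ⟨_, hE.u x hx, by rw [map_mul, map_mul, map_inv]⟩
  have hQn' : ∀ g ∈ Subgroup.zpowers c, ∀ q ∈ Q, g * q * g⁻¹ ∈ Q := by
    intro g hg
    obtain ⟨n, rfl⟩ := (mem_zpowers_iff_mem_range_orderOf (x := c)).1 hg |> fun h =>
      (Finset.mem_image.1 h).imp fun n h => h.2.symm
    induction n with
    | zero => simp
    | succ n ih =>
      intro q hq
      rw [pow_succ', show c * c ^ n * q * (c * c ^ n)⁻¹ = c * (c ^ n * q * (c ^ n)⁻¹) * c⁻¹ by group]
      exact hQn _ (ih (Subgroup.pow_mem _ (Subgroup.mem_zpowers c) n) q hq)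
  letI : MulAction (Subgroup.zpowers c) Q :=
    { smul := fun g q => ⟨g * q * (g : GL (Fin 3) F ⧸ Subgroup.center (GL (Fin 3) F))⁻¹, hQn' g g.2 q q.2⟩
      one_smul := fun q => Subtype.ext (by
        show ((1 : Subgroup.zpowers c) : GL (Fin 3) F ⧸ Subgroup.center (GL (Fin 3) F)) * q *
          ((1 : Subgroup.zpowers c) : GL (Fin 3) F ⧸ Subgroup.center (GL (Fin 3) F))⁻¹ = (q : _)
        simp)
      mul_smul := fun g g' q => Subtype.ext (by
        show ((g * g' : Subgroup.zpowers c) : GL (Fin 3) F ⧸ Subgroup.center (GL (Fin 3) F)) * q *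
          ((g * g' : Subgroup.zpowers c) : GL (Fin 3) F ⧸ Subgroup.center (GL (Fin 3) F))⁻¹ =
          g * (g' * q * (g' : GL (Fin 3) F ⧸ Subgroup.center (GL (Fin 3) F))⁻¹) *
            (g : GL (Fin 3) F ⧸ Subgroup.center (GL (Fin 3) F))⁻¹
        rw [Subgroup.coe_mul]
        group) }
  have hp : IsPGroup 5 (Subgroup.zpowers c) := fun g => ⟨1, Subtype.ext (by
    obtain ⟨n, (hn : c ^ n = (g : _))⟩ := g.2
    rw [pow_one, SubmonoidClass.coe_pow, ← hn, Subgroup.coe_one, ← zpow_natCast, ← _root_.zpow_mul,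
      mul_comm, _root_.zpow_mul, zpow_natCast, hc5, _root_.one_zpow])⟩
  set Qf := Q ⊓ Subgroup.centralizer {c}
  have hfix : Nat.card (MulAction.fixedPoints (Subgroup.zpowers c) Q) = Nat.card Qf := by
    refine Nat.card_congr ⟨fun q => ⟨q.1.1, q.1.2, Subgroup.mem_centralizer_singleton_iff.2
        (mul_inv_eq_iff_eq_mul.1 (congrArg Subtype.val (q.2 ⟨c, Subgroup.mem_zpowers c⟩))).symm⟩,
      fun q => ⟨⟨q.1, q.2.1⟩, fun g => Subtype.ext ?_⟩, fun q => rfl, fun q => rfl⟩
    have h : Commute c q.1 := (Subgroup.mem_centralizer_singleton_iff.1 q.2.2).symm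
    obtain ⟨n, (hn : c ^ n = (g : _))⟩ := g.2
    show (g : GL (Fin 3) F ⧸ Subgroup.center (GL (Fin 3) F)) * q.1 *
      (g : GL (Fin 3) F ⧸ Subgroup.center (GL (Fin 3) F))⁻¹ = q.1
    rw [← hn, (h.zpow_left n).eq, mul_inv_cancel_right]
  have hmod := hp.card_modEq_card_fixedPoints (α := Q)
  rw [hfix, hk] at hmod
  have hdvd : Nat.card Qf ∣ 3 ^ k := hk ▸ Subgroup.card_dvd_of_le inf_le_left
  obtain ⟨j, hj, hjc⟩ := (Nat.dvd_prime_pow Nat.prime_three).1 hdvd
  rw [hjc] at hmod
  rw [hk] at hle
  have hk2 : k ≤ 2 := by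
    by_contra hlt
    have : 3 ^ 3 ≤ 3 ^ k := Nat.pow_le_pow_right (by norm_num) (by omega)
    omega
  have hjk : j = k := by
    interval_cases k <;> interval_cases j <;> simp_all [Nat.ModEq]
  have hQfQ : Qf = Q := Subgroup.eq_of_le_of_card_ge inf_le_left (by rw [hjc, hjk, hk])
  have hcomm : ∀ x ∈ E, Commute (u3GL o) x := by
    intro x hx
    have h := Subgroup.mem_centralizer_singleton_iff.1
      ((le_of_eq hQfQ.symm).trans inf_le_right (Subgroup.mem_map_of_mem _ hx))
    rw [← map_mul, ← map_mul, pr_eq, Units.val_mul, Units.val_mul] at h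
    obtain ⟨l, hl⟩ := h
    have h3 : l ^ 3 = 1 := by simpa using pow_card_of_swap hl
    have h5 : l ^ 5 = 1 := by
      have hl' := pow_card_of_swap hl
      have e : u3 o ^ 5 = 1 := by
        rw [show u3 o = Matrix.diagonal ![1, o.e 1, o.e 4] by
            ext i j; fin_cases i <;> fin_cases j <;> simp [u3], Matrix.diagonal_pow, ← Matrix.diagonal_one]
        congr 1
        funext i
        fin_cases i <;> simp [o.e_pow_five]
      have hl2 : (u3GL o).1 * x.1 = l⁻¹ • (x.1 * (u3GL o).1) := by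
        have hl0 : l ≠ 0 := fun h0 => by simp [h0] at h3
        rw [hl, inv_smul_smul₀ hl0]
      have := pow_swap' hl2 5
      rw [show (u3GL o).1 = u3 o from rfl, e, one_mul, mul_one] at this
      have h1 : (l⁻¹) ^ 5 = 1 := smul_left_injective F x.ne_zero (this.symm.trans (one_smul F x.1).symm)
      rwa [inv_pow, inv_eq_one] at h1
    rw [pow_three_five h3 h5, one_smul] at hl
    exact (Units.ext hl).symm
  obtain ⟨t, ht⟩ := isSc_of_centralises3 o hE hEns hcomm
  have e0 := congrFun (congrFun ht 0) 0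
  have e1 := congrFun (congrFun ht 1) 1
  simp [u3GL, u3] at e0 e1
  rw [← e0] at e1
  exact absurd (o.e_eq_one e1) (by decide)

/-- A group of odd order normalised by the generators is scalar. -/
theorem isSc_of_odd3 {D : Subgroup (GL (Fin 3) F)} (hodd : Odd (Nat.card D)) (hD : Norm3 o D) :
    ∀ x ∈ D, IsSc x :=
  haveI : Group.IsSolvable D := Cfsg.Agent.S0205.result hodd
  isSc_of_solvable3 o hD

/-- The involutions of determinant one commuting with the four-group lie in it. -/
theorem involution_cases {t : M3 F} (hsq : t * t = 1) (hdet : t.det = 1) (hh : t * h3 F = h3 F * t)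
    (hw : t * w3 o = w3 o * t) : t = 1 ∨ t = h3 F ∨ t = w3 o ∨ t = h3 F * w3 o := by
  have hk0 := o.kappa_ne
  have hk := o.kappa_sq
  have hs := o.c_add_d
  have hv : o.kappa * (o.c - o.d) = -1 := by
    have h := det_w3 o
    rw [w3, det_smul, det_fin_three, Fintype.card_fin] at h
    simp at h
    linear_combination -h + (o.kappa ^ 3 * (o.c - o.d)) * hs - (o.kappa * (o.c - o.d)) * hk
  have h := fun i j => congrFun (congrFun hh i) j
  have a01 := h 0 1; have a10 := h 1 0; have a11 := h 1 1; have a12 := h 1 2; have a02 := h 0 2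
  have a20 := h 2 0
  simp [h3, Matrix.mul_apply, Fin.sum_univ_three] at a01 a10 a11 a12 a02 a20
  have g := fun i j => congrFun (congrFun hw i) j
  have b00 := g 0 0; have b01 := g 0 1
  simp [w3, Matrix.mul_apply, Fin.sum_univ_three] at b00 b01
  have q := fun i j => congrFun (congrFun hsq i) j
  have c00 := q 0 0; have c01 := q 0 1; have c11 := q 1 1; have c12 := q 1 2
  simp [Matrix.mul_apply, Fin.sum_univ_three] at c00 c01 c11 c12
  rw [det_fin_three] at hdet
  have s20 : t 2 0 = t 1 0 := a20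
  have s02 : t 0 2 = t 0 1 := by linear_combination a01
  have s22 : t 2 2 = t 1 1 := a12.symm
  have s21 : t 2 1 = t 1 2 := a11.symm
  simp only [s20, s02, s22, s21] at b00 b01 c00 c01 c11 c12 hdet
  have h2 := o.two
  have e1 : t 0 1 = 2 * t 1 0 := mul_left_cancel₀ (mul_ne_zero h2 hk0) (by linear_combination b00)
  have e2 : t 0 0 - t 0 1 = t 1 1 + t 1 2 := mul_left_cancel₀ (mul_ne_zero h2 hk0) (by
    linear_combination b01 - o.kappa * t 0 1 * hs)
  have e3 : t 0 1 * (2 * t 0 0 - t 0 1) = 0 := by linear_combination c01 + t 0 1 * e2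
  rcases mul_eq_zero.1 e3 with h0 | h0
  · have h10 : t 1 0 = 0 := (mul_eq_zero.1 (show 2 * t 1 0 = 0 by linear_combination h0 - e1)).resolve_left h2
    have hsum : t 1 1 + t 1 2 = t 0 0 := by linear_combination -h0 - e2
    simp only [h0, h10] at c00 hdet
    have hp : t 0 0 = 1 ∨ t 0 0 = -1 := mul_self_eq_one_iff.1 (by linear_combination c00)
    have hv' : t 1 1 - t 1 2 = 1 := by
      linear_combination hdet - (t 1 1 - t 1 2) * c00 - t 0 0 * (t 1 1 - t 1 2) * hsum
    rcases hp with hp | hp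
    · left
      have h11 : t 1 1 = 1 := mul_left_cancel₀ h2 (by linear_combination hsum + hv' + hp)
      have h12 : t 1 2 = 0 := mul_left_cancel₀ h2 (by linear_combination hsum - hv' + hp)
      ext i j
      fin_cases i <;> fin_cases j <;> simp [s20, s02, s22, s21, h0, h10, hp, h11, h12]
    · right; left
      have h11 : t 1 1 = 0 := mul_left_cancel₀ h2 (by linear_combination hsum + hv' + hp)
      have h12 : t 1 2 = -1 := mul_left_cancel₀ h2 (by linear_combination hsum - hv' + hp)
      ext i j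
      fin_cases i <;> fin_cases j <;> simp [h3, s20, s02, s22, s21, h0, h10, hp, h11, h12]
  · have h01 : t 0 1 = 2 * t 0 0 := by linear_combination -h0
    have h10 : t 1 0 = t 0 0 := mul_left_cancel₀ h2 (by linear_combination h01 - e1)
    have hsum : t 1 1 + t 1 2 = -t 0 0 := by linear_combination -h01 - e2
    simp only [h01, h10] at c00 hdet
    have hpp : 5 * (t 0 0 * t 0 0) = 1 := by linear_combination c00
    have hp : t 0 0 = o.kappa ∨ t 0 0 = -o.kappa :=
      mul_self_eq_mul_self_iff.1 (mul_left_cancel₀ o.five (by linear_combination hpp - hk))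
    have hv' : t 1 1 - t 1 2 = -1 := by
      linear_combination -hdet + t 0 0 * (t 1 1 - t 1 2) * hsum - (t 1 1 - t 1 2) * hpp
    rcases hp with hp | hp
    · right; right; left
      have h11 : t 1 1 = o.kappa * o.c := mul_left_cancel₀ h2 (by
        linear_combination hsum + hv' - hp - hv - o.kappa * hs)
      have h12 : t 1 2 = o.kappa * o.d := mul_left_cancel₀ h2 (by
        linear_combination hsum - hv' - hp + hv - o.kappa * hs)
      ext i j
      fin_cases i <;> fin_cases j <;> simp [w3, s20, s02, s22, s21, h01, h10, hp, h11, h12] <;> ring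
    · right; right; right
      have h11 : t 1 1 = -(o.kappa * o.d) := mul_left_cancel₀ h2 (by
        linear_combination hsum + hv' - hp - hv + o.kappa * hs)
      have h12 : t 1 2 = -(o.kappa * o.c) := mul_left_cancel₀ h2 (by
        linear_combination hsum - hv' - hp + hv + o.kappa * hs)
      ext i j
      fin_cases i <;> fin_cases j <;>
        simp [h3, w3, Matrix.mul_apply, Matrix.vecMul, dotProduct, Fin.sum_univ_three, s20, s02, s22, s21,
          h01, h10, hp, h11, h12] <;> ring

end CfsgLib.C6Five
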